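import Groth.Agent.CohenLib.PSHom
import Groth.Agent.CohenLib.FSRegular
import Groth.Agent.FlatCrit.Basic
import Groth.Agent.CatLib.Flat
import Groth.Agent.S9405
import Mathlib.RingTheory.AdicCompletion.Completeness
import Mathlib.LinearAlgebra.TensorProduct.Quotient
import Mathlib.RingTheory.Flat.Stability
import Mathlib.RingTheory.Artinian.Module

/-!
# Completed base change of a complete local ring to an extension field
-/

set_option autoImplicit false
set_option linter.style.haveILetI false
set_option maxHeartbeats 1000000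
set_option synthInstance.maxHeartbeats 200000

universe u

open IsLocalRing TensorProduct

namespace CKaehlerLib

variable {A T k' : Type u} [CommRing A] [IsNoetherianRing A] [IsLocalRing A] [CommRing T] [Algebra A T] [Field k']
  [Algebra k' T] (I : Ideal T) (hI : I = (maximalIdeal A).map (algebraMap A T)) [Module.Finite k' (T ⧸ I)]

omit [IsLocalRing A] [Field k'] [Algebra k' T] [Module.Finite k' (T ⧸ I)] in
theorem algebraMap_completion (a : A) :
    algebraMap A (AdicCompletion I T) a = algebraMap T (AdicCompletion I T) (algebraMap A T a) :=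
  IsScalarTower.algebraMap_apply A T (AdicCompletion I T) a

include hI

omit [Field k'] [Algebra k' T] [Module.Finite k' (T ⧸ I)] in
theorem fg_map_maximal : I.FG := hI ▸ Ideal.FG.map (IsNoetherian.noetherian (maximalIdeal A)) _

omit [Field k'] [Algebra k' T] [Module.Finite k' (T ⧸ I)] in
theorem map_maximal_completion :
    (maximalIdeal A).map (algebraMap A (AdicCompletion I T)) = I.map (algebraMap T (AdicCompletion I T)) := by
  rw [hI, Ideal.map_map]
  exact congrArg (fun f => Ideal.map f (maximalIdeal A)) (RingHom.ext fun a => algebraMap_completion _ a)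

omit [Field k'] [Algebra k' T] [Module.Finite k' (T ⧸ I)] in
theorem isAdicComplete_completion :
    IsAdicComplete ((maximalIdeal A).map (algebraMap A (AdicCompletion I T))) (AdicCompletion I T) := by
  rw [map_maximal_completion I hI]
  exact (IsAdicComplete.map_algebraMap_iff _ _).2 (AdicCompletion.isAdicComplete (M := T) (fg_map_maximal I hI))

/-- The completion is finite over a power series ring over the extension field. -/
theorem exists_finite_powerSeries :
    ∃ (n : ℕ) (f : MvPowerSeries (Fin n) k' →+* AdicCompletion I T), f.Finite ∧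
      (maximalIdeal A).map (algebraMap A (AdicCompletion I T)) = (CohenLib.varsIdeal k' n).map f ∧
      (((Ideal.Quotient.mk ((maximalIdeal A).map (algebraMap A (AdicCompletion I T)))).comp
          (algebraMap T (AdicCompletion I T))).comp (algebraMap k' T)).Finite := by
  classical
  let CT := AdicCompletion I T
  let J := (maximalIdeal A).map (algebraMap A CT)
  haveI hc : IsAdicComplete J CT := isAdicComplete_completion I hI
  obtain ⟨n, g, hg⟩ := Submodule.fg_iff_exists_fin_generating_family.1 (IsNoetherian.noetherian (maximalIdeal A))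
  let x : Fin n → CT := fun i => algebraMap A CT (g i)
  have hx : ∀ i, x i ∈ J := fun i => Ideal.mem_map_of_mem _ (hg ▸ Submodule.subset_span ⟨i, rfl⟩)
  let f := CohenLib.psHom J ((algebraMap T CT).comp (algebraMap k' T)) x hx
  haveI := CohenLib.isAdicComplete_varsIdeal (n := n) k'
  have hJ : J = (CohenLib.varsIdeal k' n).map f := by
    rw [CohenLib.varsIdeal, Ideal.map_span, ← Set.range_comp,
      show (⇑f ∘ MvPowerSeries.X) = x from funext (CohenLib.psHom_X _ _ x hx)]
    show (maximalIdeal A).map (algebraMap A CT) = _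
    rw [← hg, ← Ideal.span, Ideal.map_span, ← Set.range_comp]
    rfl
  have hk : (((Ideal.Quotient.mk J).comp (algebraMap T CT)).comp (algebraMap k' T)).Finite := by
    have hle : I ≤ RingHom.ker ((Ideal.Quotient.mk J).comp (algebraMap T CT)) := fun t ht => by
      rw [RingHom.mem_ker, RingHom.comp_apply, Ideal.Quotient.eq_zero_iff_mem]
      exact (map_maximal_completion I hI).ge (Ideal.mem_map_of_mem _ ht)
    let π : T ⧸ I →+* CT ⧸ J := Ideal.Quotient.lift I ((Ideal.Quotient.mk J).comp (algebraMap T CT)) hle
    have hπ : Function.Surjective π := fun z => by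
      obtain ⟨y, rfl⟩ := Ideal.Quotient.mk_surjective z
      obtain ⟨t, ht⟩ := Ideal.Quotient.mk_surjective (AdicCompletion.evalOneₐ I y)
      refine ⟨Ideal.Quotient.mk I t, Ideal.Quotient.eq.2 ((map_maximal_completion I hI).ge ?_)⟩
      rw [← AdicCompletion.ker_evalOneₐ_eq_map I (fg_map_maximal I hI), RingHom.mem_ker, map_sub, sub_eq_zero]
      exact ((AdicCompletion.evalOneₐ I).commutes t).trans ht
    exact (RingHom.Finite.of_surjective π hπ).comp (RingHom.finite_algebraMap.2 ‹Module.Finite k' (T ⧸ I)›)
  refine ⟨n, f, CohenLib.finite_of_complete J (CohenLib.varsIdeal k' n) f hJ.symm ?_, hJ, hk⟩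
  refine RingHom.Finite.of_comp_finite (f := (MvPowerSeries.C (σ := Fin n) (R := k'))) ?_
  rw [RingHom.comp_assoc, show f.comp MvPowerSeries.C = (algebraMap T CT).comp (algebraMap k' T) from
    RingHom.ext (CohenLib.psHom_C _ _ x hx), ← RingHom.comp_assoc]
  exact hk

omit [Field k'] [Algebra k' T] [Module.Finite k' (T ⧸ I)] in
/-- The completion is flat. -/
theorem flat_completion [IsNoetherianRing (AdicCompletion I T)] [Module.Flat A T] :
    Module.Flat A (AdicCompletion I T) := by
  haveI := isAdicComplete_completion I hI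
  refine FlatCrit.flat_of_flat_quotient_pow (S := AdicCompletion I T) (maximalIdeal A)
    (IsAdicComplete.le_jacobson_bot _) fun m => ?_
  let Q := maximalIdeal A ^ m
  let of' : T →ₗ[A] AdicCompletion I T := (AdicCompletion.of I T).restrictScalars A
  have hmemT : ∀ t, t ∈ (Q • ⊤ : Submodule A T) ↔ t ∈ I ^ m := fun t => by
    rw [Ideal.smul_top_eq_map, Submodule.restrictScalars_mem, Ideal.map_pow, hI]
  have hmem : ∀ y, y ∈ (Q • ⊤ : Submodule A (AdicCompletion I T)) ↔ AdicCompletion.eval I T m y = 0 := fun y => by
    rw [← LinearMap.mem_ker, ← AdicCompletion.pow_smul_top_eq_ker_eval (fg_map_maximal I hI),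
      Ideal.smul_top_eq_map, Ideal.smul_top_eq_map, Submodule.restrictScalars_mem, Submodule.restrictScalars_mem,
      Ideal.map_pow, Ideal.map_pow, map_maximal_completion I hI]
  have hle : (Q • ⊤ : Submodule A T) ≤ (Q • ⊤ : Submodule A (AdicCompletion I T)).comap of' := fun t ht => by
    rw [Submodule.mem_comap, hmem]
    show AdicCompletion.eval I T m (AdicCompletion.of I T t) = 0
    rw [AdicCompletion.eval_of, Submodule.mkQ_apply, Submodule.Quotient.mk_eq_zero, smul_eq_mul, Ideal.mul_top]
    exact (hmemT t).1 ht
  let e := Submodule.mapQ (Q • ⊤ : Submodule A T) (Q • ⊤ : Submodule A (AdicCompletion I T)) of' hle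
  have he : Function.Bijective e := by
    refine ⟨?_, fun z => ?_⟩
    · rw [injective_iff_map_eq_zero]
      intro z hz
      obtain ⟨t, rfl⟩ := Submodule.mkQ_surjective _ z
      rw [Submodule.mkQ_apply, Submodule.mapQ_apply, Submodule.Quotient.mk_eq_zero, hmem] at hz
      have hz' : AdicCompletion.eval I T m (AdicCompletion.of I T t) = 0 := hz
      rw [AdicCompletion.eval_of, Submodule.mkQ_apply, Submodule.Quotient.mk_eq_zero, smul_eq_mul, Ideal.mul_top] at hz'
      exact (Submodule.Quotient.mk_eq_zero _).2 ((hmemT t).2 hz')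
    · obtain ⟨y, rfl⟩ := Submodule.mkQ_surjective _ z
      obtain ⟨t, ht⟩ := Submodule.mkQ_surjective _ (AdicCompletion.eval I T m y)
      refine ⟨Submodule.Quotient.mk t, ?_⟩
      rw [Submodule.mapQ_apply, Submodule.mkQ_apply, Submodule.Quotient.eq, hmem, map_sub, sub_eq_zero]
      exact ht
  let E : (A ⧸ Q) ⊗[A] T ≃ₗ[A] (A ⧸ Q) ⊗[A] AdicCompletion I T :=
    (TensorProduct.quotTensorEquivQuotSMul T Q).trans ((LinearEquiv.ofBijective e he).trans
      (TensorProduct.quotTensorEquivQuotSMul (AdicCompletion I T) Q).symm)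
  exact Module.Flat.of_linearEquiv (LinearEquiv.extendScalarsOfSurjective Ideal.Quotient.mk_surjective E).symm

/-- The local rings of the completion. -/
theorem completion_localization [Module.Flat A T] :
    IsNoetherianRing (AdicCompletion I T) ∧ Finite (MaximalSpectrum (AdicCompletion I T)) ∧
      ∀ M : MaximalSpectrum (AdicCompletion I T),
        IsAdicComplete (maximalIdeal (Localization.AtPrime M.asIdeal)) (Localization.AtPrime M.asIdeal) ∧
        Module.FaithfullyFlat A (Localization.AtPrime M.asIdeal) ∧
        ringKrullDim (Localization.AtPrime M.asIdeal) = ringKrullDim A ∧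
        (((Ideal.Quotient.mk M.asIdeal).comp (algebraMap T (AdicCompletion I T))).comp (algebraMap k' T)).Finite := by
  classical
  obtain ⟨n, f, hf, hJ, hk⟩ := exists_finite_powerSeries (k' := k') I hI
  let CT := AdicCompletion I T
  let P := MvPowerSeries (Fin n) k'
  let J := (maximalIdeal A).map (algebraMap A CT)
  letI : Algebra P CT := f.toAlgebra
  haveI : Module.Finite P CT := hf
  haveI := CohenLib.isRegularLocalRing_mvPowerSeries k' n
  haveI : IsAdicComplete (maximalIdeal P) P := by
    rw [CohenLib.maximalIdeal_mvPowerSeries_field]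
    exact CohenLib.isAdicComplete_varsIdeal k'
  obtain ⟨hfin, hbij, hloc⟩ := Groth.Agent.S9405.result P CT
  haveI : IsNoetherianRing CT := IsNoetherianRing.of_finite P CT
  haveI := isAdicComplete_completion I hI
  haveI : Module.Flat A CT := flat_completion I hI
  refine ⟨inferInstance, hfin, fun M => ?_⟩
  let L := Localization.AtPrime M.asIdeal
  have hJM : J ≤ M.asIdeal := (IsAdicComplete.le_jacobson_bot J).trans (sInf_le ⟨bot_le, M.isMaximal⟩)
  haveI := (hloc M).1
  haveI : Module.Flat CT L := IsLocalization.flat L M.asIdeal.primeCompl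
  haveI : Module.Flat A L := Module.Flat.trans A CT L
  have hJL : (maximalIdeal A).map (algebraMap A L) = J.map (algebraMap CT L) := by
    rw [IsScalarTower.algebraMap_eq A CT L, ← Ideal.map_map]
  haveI : IsLocalHom (algebraMap A L) := ((IsLocalRing.local_hom_TFAE _).out 2 0).1 (hJL.le.trans
    ((Ideal.map_mono hJM).trans (Localization.AtPrime.map_eq_maximalIdeal).le))
  refine ⟨(hloc M).2, Module.FaithfullyFlat.of_flat_of_isLocalHom, ?_, ?_⟩
  · rw [CatLib.ringKrullDim_eq_add_of_flat (A := A) (B := L)]
    have hne : (maximalIdeal A).map (algebraMap A L) ≠ ⊤ :=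
      ne_top_of_le_ne_top (maximalIdeal.isMaximal L).ne_top (((IsLocalRing.local_hom_TFAE _).out 0 2).1 ‹_›)
    haveI := Ideal.Quotient.nontrivial_iff.2 hne
    have hsurj : Function.Surjective (algebraMap CT L) := fun z => by
      obtain ⟨y, hy⟩ := hbij.2 (Pi.single M z)
      exact ⟨y, (congrFun hy M).trans (Pi.single_eq_same _ _)⟩
    have hle : J ≤ RingHom.ker ((Ideal.Quotient.mk ((maximalIdeal A).map (algebraMap A L))).comp (algebraMap CT L)) :=
      fun y hy => by
        rw [RingHom.mem_ker, RingHom.comp_apply, Ideal.Quotient.eq_zero_iff_mem, hJL]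
        exact Ideal.mem_map_of_mem _ hy
    haveI : Module.Finite k' (CT ⧸ J) := by
      rw [← RingHom.finite_algebraMap, IsScalarTower.algebraMap_eq k' CT (CT ⧸ J), IsScalarTower.algebraMap_eq k' T CT,
        ← RingHom.comp_assoc]
      exact hk
    haveI : IsArtinianRing (CT ⧸ J) := IsArtinianRing.of_finite k' _
    have h0 : ringKrullDim (CT ⧸ J) ≤ 0 := Ring.krullDimLE_iff.1 inferInstance
    have h1 := (ringKrullDim_le_of_surjective (Ideal.Quotient.lift J _ hle)
      (Ideal.Quotient.lift_surjective_of_surjective J hle (Ideal.Quotient.mk_surjective.comp hsurj))).trans h0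
    rw [le_antisymm h1 ringKrullDim_nonneg_of_nontrivial, add_zero]
  · let π : CT ⧸ J →+* CT ⧸ M.asIdeal := Ideal.Quotient.factor hJM
    exact (RingHom.Finite.of_surjective π (Ideal.Quotient.factor_surjective hJM)).comp hk

end CKaehlerLib

namespace CKaehlerLib

attribute [local instance] Algebra.TensorProduct.rightAlgebra

/-- The closed fibre of the base change is finite over the extension field. -/
theorem finite_baseField_quotient (k A k' : Type u) [Field k] [CommRing A] [IsLocalRing A] [Algebra k A]
    [Module.Finite k (ResidueField A)] [Field k'] [Algebra k k'] (I : Ideal (A ⊗[k] k'))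
    (hI : I = (maximalIdeal A).map (algebraMap A (A ⊗[k] k'))) : Module.Finite k' ((A ⊗[k] k') ⧸ I) := by
  classical
  obtain ⟨r, c, hc⟩ := Module.Finite.exists_fin (R := k) (M := ResidueField A)
  choose a ha using fun j => residue_surjective (R := A) (c j)
  let v : Fin r → (A ⊗[k] k') ⧸ I := fun j => Ideal.Quotient.mk I (a j ⊗ₜ[k] (1 : k'))
  refine ⟨⟨(Set.finite_range v).toFinset, eq_top_iff.2 fun z _ => ?_⟩⟩
  rw [Set.Finite.coe_toFinset]
  obtain ⟨z, rfl⟩ := Ideal.Quotient.mk_surjective z
  induction z using TensorProduct.induction_on with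
  | zero => rw [map_zero]; exact zero_mem _
  | add x y hx hy => rw [map_add]; exact add_mem (hx trivial) (hy trivial)
  | tmul b l =>
    obtain ⟨co, hco⟩ := (Submodule.mem_span_range_iff_exists_fun k).1 (hc.ge (Submodule.mem_top (x := residue A b)))
    have hdiff : b - ∑ j, co j • a j ∈ maximalIdeal A := by
      rw [← residue_eq_zero_iff, map_sub, map_sum, sub_eq_zero, ← hco]
      refine Finset.sum_congr rfl fun j _ => ?_
      rw [← ha, Algebra.smul_def, Algebra.smul_def, map_mul]
      rfl
    have hI' : (b - ∑ j, co j • a j) ⊗ₜ[k] l ∈ I := by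
      rw [hI, show (b - ∑ j, co j • a j) ⊗ₜ[k] l = algebraMap A (A ⊗[k] k') (b - ∑ j, co j • a j) * ((1 : A) ⊗ₜ[k] l) by
        rw [Algebra.TensorProduct.algebraMap_apply, Algebra.algebraMap_self_apply, Algebra.TensorProduct.tmul_mul_tmul,
          mul_one, one_mul]]
      exact Ideal.mul_mem_right _ _ (Ideal.mem_map_of_mem _ hdiff)
    rw [TensorProduct.sub_tmul] at hI'
    rw [Ideal.Quotient.eq.2 hI', TensorProduct.sum_tmul, map_sum]
    refine Submodule.sum_mem _ fun j _ => ?_
    rw [show (co j • a j) ⊗ₜ[k] l = algebraMap k' (A ⊗[k] k') (co j • l) * (a j ⊗ₜ[k] (1 : k')) by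
      rw [Algebra.TensorProduct.right_algebraMap_apply, Algebra.TensorProduct.tmul_mul_tmul, one_mul, mul_one,
        TensorProduct.smul_tmul], map_mul, Ideal.Quotient.mk_algebraMap, ← Algebra.smul_def]
    exact Submodule.smul_mem _ _ (Submodule.subset_span ⟨j, rfl⟩)

end CKaehlerLib
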