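import Groth.Agent.CKaehlerLib.BaseFieldRegular
import Groth.Agent.CompleteLib.TwoIdeals
import Groth.Agent.CompleteLib.CompletionHom
import Groth.Agent.FixLocusLib.Basic
import Groth.Agent.CatLib.Univ
import Groth.Agent.CommAlgDim.RegularRing
import Groth.Agent.S4574
import Mathlib.RingTheory.Flat.FaithfullyFlat.Algebra

/-!
# Regular points of completed base changes
-/

set_option autoImplicit false
set_option linter.style.haveILetI false
set_option maxHeartbeats 2000000
set_option synthInstance.maxHeartbeats 200000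

universe u

open IsLocalRing Groth.Agent TensorProduct

namespace CKaehlerLib

attribute [local instance] Algebra.TensorProduct.rightAlgebra

/-- Elements with invertible Jacobian cut out a regular local ring. -/
theorem isRegularLocalRing_quotient_of_det {R : Type u} [CommRing R] [IsRegularLocalRing R] {m : ℕ} (f : Fin m → R)
    (hf : ∀ j, f j ∈ maximalIdeal R) (d : Fin m → Derivation ℤ R R)
    (hdet : Matrix.det (Matrix.of fun i j => d i (f j)) ∉ maximalIdeal R) :
    IsRegularLocalRing (R ⧸ Ideal.span (Set.range f)) := by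
  classical
  refine FixLocusLib.isRegularLocalRing_quotient_of_li (fun j => ⟨f j, hf j⟩) (Fintype.linearIndependent_iff.2 fun c hc => ?_)
  choose a ha using fun j => residue_surjective (R := R) (c j)
  have hmem : ∑ j, a j * f j ∈ maximalIdeal R ^ 2 := by
    have h : (maximalIdeal R).toCotangent (∑ j, a j • ⟨f j, hf j⟩) = 0 := by
      rw [map_sum, ← hc]
      refine Finset.sum_congr rfl fun j _ => ?_
      rw [map_smul, ← ha]
      rfl
    rw [Ideal.toCotangent_eq_zero] at h
    simpa using h
  have hd : ∀ i, ∀ z ∈ maximalIdeal R ^ 2, d i z ∈ maximalIdeal R := fun i z hz => by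
    rw [pow_two] at hz
    refine Submodule.mul_induction_on hz (fun x hx y hy => ?_) fun x y hx hy => by rw [map_add]; exact add_mem hx hy
    rw [Derivation.leibniz]
    exact add_mem (Ideal.mul_mem_right _ _ hx) (Ideal.mul_mem_right _ _ hy)
  refine congrFun (Matrix.eq_zero_of_mulVec_eq_zero (M := (Matrix.of fun i j => d i (f j)).map (residue R))
    (fun h => hdet ((residue_eq_zero_iff _).1 ((RingHom.map_det (residue R) _).trans h))) (funext fun i => ?_))
  have h := hd i _ hmem
  rw [← residue_eq_zero_iff, map_sum, map_sum] at h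
  refine Eq.trans ?_ h
  show ∑ j, residue R (d i (f j)) * c j = _
  refine Finset.sum_congr rfl fun j _ => ?_
  rw [Derivation.leibniz, smul_eq_mul, smul_eq_mul, map_add, map_mul, map_mul, (residue_eq_zero_iff _).2 (hf j),
    zero_mul, add_zero, ha, mul_comm]

/-- A quotient description of a regular local ring. -/
theorem isRegularLocalRing_of_surjective_ker {R B : Type u} [CommRing R] [CommRing B] (f : R →+* B)
    (hf : Function.Surjective f) (I : Ideal R) (hI : RingHom.ker f = I) [IsRegularLocalRing (R ⧸ I)] :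
    IsRegularLocalRing B := by
  subst hI
  exact IsRegularLocalRing.of_ringEquiv (RingHom.quotientKerEquivOfSurjective hf)

/-- Derivations extend to localisations, as additive maps. -/
theorem exists_extend_mul {L R : Type u} [CommRing L] [CommRing R] [Algebra L R] (M : Submonoid L) [IsLocalization M R]
    (D : L →+ L) (hD : ∀ a b, D (a * b) = a * D b + b * D a) :
    ∃ d : R →+ R, (∀ x y, d (x * y) = x * d y + y * d x) ∧ ∀ r, d (algebraMap L R r) = algebraMap L R (D r) := by
  obtain ⟨d, hd⟩ := GRingLib.exists_derivation_localization M R (NagataLib.mkDer D hD)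
  exact ⟨d.toLinearMap.toAddMonoidHom, fun x y => d.leibniz x y, fun r => hd r⟩

variable {k P A k' : Type u} [Field k] [CommRing P] [IsLocalRing P] [IsNoetherianRing P] [Algebra k P]
  [Module.Finite k (ResidueField P)] [CommRing A] [IsLocalRing A] [IsNoetherianRing A] [Algebra k A] [Algebra P A]
  [IsScalarTower k P A] [Field k'] [Algebra k k'] (IP : Ideal (P ⊗[k] k')) (IA : Ideal (A ⊗[k] k'))
  (hIP : IP = (maximalIdeal P).map (algebraMap P (P ⊗[k] k')))
  (hIA : IA = (maximalIdeal A).map (algebraMap A (A ⊗[k] k')))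

include hIP

omit [Module.Finite k (ResidueField P)] in
theorem isLocalHom_completion_localization (M : MaximalSpectrum (AdicCompletion IP (P ⊗[k] k'))) :
    IsLocalHom (algebraMap P (Localization.AtPrime M.asIdeal)) := by
  haveI := isAdicComplete_completion IP hIP
  have hJM : (maximalIdeal P).map (algebraMap P (AdicCompletion IP (P ⊗[k] k'))) ≤ M.asIdeal :=
    (IsAdicComplete.le_jacobson_bot _).trans (sInf_le ⟨bot_le, M.isMaximal⟩)
  refine ((IsLocalRing.local_hom_TFAE _).out 2 0).1 ?_
  rw [IsScalarTower.algebraMap_eq P (AdicCompletion IP (P ⊗[k] k')) (Localization.AtPrime M.asIdeal), ← Ideal.map_map]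
  exact (Ideal.map_mono hJM).trans (Localization.AtPrime.map_eq_maximalIdeal).le

theorem isNoetherianRing_completion : IsNoetherianRing (AdicCompletion IP (P ⊗[k] k')) := by
  haveI := finite_baseField_quotient k P k' IP hIP
  exact (completion_localization (k' := k') IP hIP).1

/-- A formally smooth algebra has regular completed base change. -/
theorem isRegularRing_completion (hP : CAlgX.IsAdicFormallySmooth k P (maximalIdeal P)) :
    IsRegularRing (AdicCompletion IP (P ⊗[k] k')) := by
  haveI := isNoetherianRing_completion IP hIP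
  refine CommAlgDim.isRegularRing_of_isMaximal fun M hM => ?_
  haveI := isLocalHom_completion_localization IP hIP ⟨M, hM⟩
  haveI : IsNoetherianRing (Localization.AtPrime M) := IsLocalization.isNoetherianRing M.primeCompl _ inferInstance
  exact (Groth.Agent.S2471.result.1 (adicFS_baseChange IP hIP hP ⟨M, hM⟩)).1

include hIA

/-- Completed base change is right exact. -/
theorem exists_quotient_map (hsurj : Function.Surjective (algebraMap P A)) :
    ∃ π : AdicCompletion IP (P ⊗[k] k') →+* AdicCompletion IA (A ⊗[k] k'), Function.Surjective π ∧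
      (∀ a, π (algebraMap P (AdicCompletion IP (P ⊗[k] k')) a) =
        algebraMap A (AdicCompletion IA (A ⊗[k] k')) (algebraMap P A a)) ∧
      RingHom.ker π = (RingHom.ker (algebraMap P A)).map (algebraMap P (AdicCompletion IP (P ⊗[k] k'))) := by
  classical
  haveI hnoeth := isNoetherianRing_completion IP hIP
  let CP := AdicCompletion IP (P ⊗[k] k')
  let CA := AdicCompletion IA (A ⊗[k] k')
  let J := (maximalIdeal A).map (algebraMap A CA)
  let JP := (maximalIdeal P).map (algebraMap P CP)
  haveI hcA : IsAdicComplete J CA := isAdicComplete_completion IA hIA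
  haveI hcP : IsAdicComplete JP CP := isAdicComplete_completion IP hIP
  let g : (P ⊗[k] k') →ₐ[k] (A ⊗[k] k') :=
    Algebra.TensorProduct.map (IsScalarTower.toAlgHom k P A) (AlgHom.id k k')
  have hg : Function.Surjective g := by
    intro z
    induction z using TensorProduct.induction_on with
    | zero => exact ⟨0, map_zero g⟩
    | add x y hx hy =>
      obtain ⟨u, rfl⟩ := hx
      obtain ⟨v, rfl⟩ := hy
      exact ⟨u + v, map_add g u v⟩
    | tmul a c =>
      obtain ⟨b, rfl⟩ := hsurj a
      exact ⟨b ⊗ₜ[k] c, Algebra.TensorProduct.map_tmul _ _ _ _⟩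
  have hgP : ∀ a, g (algebraMap P (P ⊗[k] k') a) = algebraMap A (A ⊗[k] k') (algebraMap P A a) := fun a =>
    Algebra.TensorProduct.map_tmul _ _ _ _
  have hmax : (maximalIdeal P).map (algebraMap P A) = maximalIdeal A :=
    IsLocalRing.map_maximalIdeal_of_surjective _ hsurj
  have hgI : IP.map g.toRingHom = IA := by
    rw [hIP, hIA, Ideal.map_map, ← hmax, Ideal.map_map]
    exact congrArg (fun f => Ideal.map f (maximalIdeal P)) (RingHom.ext hgP)
  let θ : (P ⊗[k] k') →+* CA := (algebraMap (A ⊗[k] k') CA).comp g.toRingHom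
  have hθ : IP.map θ ≤ J := by
    rw [← Ideal.map_map, hgI]
    exact (map_maximal_completion IA hIA).ge
  let π := CompleteLib.completionLift IP J θ hθ
  have hπ : ∀ t, π (algebraMap _ CP t) = algebraMap _ CA (g t) := CompleteLib.completionLift_algebraMap IP J θ hθ
  have hπP : ∀ a, π (algebraMap P CP a) = algebraMap A CA (algebraMap P A a) := fun a => by
    rw [algebraMap_completion IP a, hπ, hgP, ← algebraMap_completion IA]
  have hπJ : JP.map π = J := by
    show ((maximalIdeal P).map (algebraMap P CP)).map π = (maximalIdeal A).map (algebraMap A CA)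
    rw [Ideal.map_map, ← hmax, Ideal.map_map]
    exact congrArg (fun f => Ideal.map f (maximalIdeal P)) (RingHom.ext hπP)
  have hsπ : Function.Surjective π := by
    refine CohenLib.surjective_of_complete J JP π hπJ fun r => ?_
    obtain ⟨t, ht⟩ := Ideal.Quotient.mk_surjective (AdicCompletion.evalOneₐ IA r)
    obtain ⟨u, rfl⟩ := hg t
    refine ⟨algebraMap _ CP u, (map_maximal_completion IA hIA).ge ?_⟩
    rw [hπ, ← AdicCompletion.ker_evalOneₐ_eq_map IA (fg_map_maximal IA hIA), RingHom.mem_ker, map_sub, sub_eq_zero]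
    exact ((AdicCompletion.evalOneₐ IA).commutes (g u) |>.trans ht).symm
  refine ⟨π, hsπ, hπP, le_antisymm (fun y hy => ?_) (Ideal.map_le_iff_le_comap.2 fun a ha => ?_)⟩
  · refine CompleteLib.mem_of_forall_mem_sup_pow (I := JP) (IsAdicComplete.le_jacobson_bot _) _ fun j => ?_
    obtain ⟨t, ht⟩ := Ideal.Quotient.mk_surjective (AdicCompletion.evalₐ IP j y)
    have hd : y - algebraMap _ CP t ∈ JP ^ j := by
      have h0 : AdicCompletion.eval IP (P ⊗[k] k') j (y - algebraMap _ CP t) = 0 := by
        have h : AdicCompletion.evalₐ IP j (y - algebraMap _ CP t) = 0 := by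
          rw [map_sub, AlgHom.commutes, sub_eq_zero]
          exact ht.symm
        exact (Ideal.quotientEquivAlgOfEq (P ⊗[k] k') (show (IP ^ j • ⊤ : Ideal (P ⊗[k] k')) = IP ^ j by
          rw [smul_eq_mul, Ideal.mul_top])).injective (h.trans (map_zero _).symm)
      rw [← LinearMap.mem_ker, ← AdicCompletion.pow_smul_top_eq_ker_eval (fg_map_maximal IP hIP),
        Ideal.smul_top_eq_map, Submodule.restrictScalars_mem, Ideal.map_pow] at h0
      exact (congrArg (fun K : Ideal CP => K ^ j) (map_maximal_completion IP hIP)).ge h0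
    have hgt : g t ∈ IA ^ j := by
      have h1 : π (algebraMap _ CP t) ∈ J ^ j := by
        have h := Ideal.mem_map_of_mem π hd
        rw [Ideal.map_pow, hπJ, map_sub, RingHom.mem_ker.1 hy, zero_sub, neg_mem_iff] at h
        exact h
      rw [hπ, show J ^ j = (IA ^ j).map (algebraMap (A ⊗[k] k') CA) by
        rw [Ideal.map_pow]; exact congrArg (· ^ j) (map_maximal_completion IA hIA)] at h1
      have h2 : (algebraMap (A ⊗[k] k') CA (g t)) ∈
          (IA ^ j • ⊤ : Submodule (A ⊗[k] k') CA) := by
        rw [Ideal.smul_top_eq_map]; exact h1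
      rw [AdicCompletion.pow_smul_top_eq_ker_eval (fg_map_maximal IA hIA), LinearMap.mem_ker] at h2
      have h3 : AdicCompletion.evalₐ IA j (algebraMap (A ⊗[k] k') CA (g t)) = 0 :=
        (congrArg (Ideal.quotientEquivAlgOfEq (A ⊗[k] k') (show (IA ^ j • ⊤ : Ideal (A ⊗[k] k')) = IA ^ j by
          rw [smul_eq_mul, Ideal.mul_top])) h2).trans (map_zero _)
      rw [AlgHom.commutes] at h3
      exact Ideal.Quotient.eq_zero_iff_mem.1 h3
    rw [← hgI, ← Ideal.map_pow] at hgt
    obtain ⟨u, hu, hut⟩ := (Ideal.mem_map_iff_of_surjective g.toRingHom hg).1 hgt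
    have hker : t - u ∈ RingHom.ker g.toRingHom := by
      rw [RingHom.mem_ker, map_sub, sub_eq_zero]; exact hut.symm
    have hkerg : RingHom.ker g.toRingHom ≤ (RingHom.ker (algebraMap P A)).map (algebraMap P (P ⊗[k] k')) :=
      (Algebra.TensorProduct.rTensor_ker (R := k) (C := k') (IsScalarTower.toAlgHom k P A) hsurj).le
    have h4 := Ideal.mem_map_of_mem (algebraMap (P ⊗[k] k') CP) (hkerg hker)
    rw [Ideal.map_map, map_sub] at h4
    have h5 : algebraMap _ CP u ∈ JP ^ j := by
      have h := Ideal.mem_map_of_mem (algebraMap (P ⊗[k] k') CP) hu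
      rw [Ideal.map_pow] at h
      exact (congrArg (fun K : Ideal CP => K ^ j) (map_maximal_completion IP hIP)).ge h
    rw [show y = (algebraMap _ CP t - algebraMap _ CP u) + (algebraMap _ CP u + (y - algebraMap _ CP t)) by ring]
    refine Submodule.add_mem_sup (SetLike.le_def.1 (le_of_eq ?_) h4) (by rw [smul_eq_mul, Ideal.mul_top]; exact add_mem h5 hd)
    exact congrArg (fun f => Ideal.map f (RingHom.ker (algebraMap P A))) (RingHom.ext fun a => (algebraMap_completion IP a).symm)
  · rw [Ideal.mem_comap, RingHom.mem_ker, hπP, RingHom.mem_ker.1 ha, map_zero]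

omit [IsLocalRing P] [IsNoetherianRing P] [Algebra k P] [Module.Finite k (ResidueField P)] [CommRing A] [IsLocalRing A]
  [IsNoetherianRing A] [Algebra k A] [Algebra P A] [IsScalarTower k P A] [Field k'] [Algebra k k'] hIP hIA in
/-- The local ring of a quotient at a point. -/
theorem isRegularLocalRing_atPrime_iff {B C : Type u} [CommRing B] [CommRing C] (φ : B →+* C)
    (hφ : Function.Surjective φ) (p' : Ideal C) [p'.IsPrime] (𝔓 : Ideal B) [𝔓.IsPrime] (h𝔓 : 𝔓 = p'.comap φ)
    (R : Type u) [CommRing R] [Algebra B R] [IsLocalization.AtPrime R 𝔓] :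
    IsRegularLocalRing (Localization.AtPrime p') ↔ IsRegularLocalRing (R ⧸ (RingHom.ker φ).map (algebraMap B R)) := by
  subst h𝔓
  obtain ⟨hs, hk⟩ := CatLib.localRingHom_surjective φ hφ p'
  let e : R ≃ₐ[B] Localization.AtPrime (p'.comap φ) := IsLocalization.algEquiv (p'.comap φ).primeCompl _ _
  let E : (R ⧸ (RingHom.ker φ).map (algebraMap B R)) ≃+* Localization.AtPrime p' :=
    (Ideal.quotientEquiv _ ((RingHom.ker φ).map (algebraMap B (Localization.AtPrime (p'.comap φ)))) e.toRingEquiv (by
      rw [Ideal.map_map]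
      exact congrArg (fun f => Ideal.map f (RingHom.ker φ)) (RingHom.ext fun b => (e.commutes b).symm))).trans
      ((Ideal.quotEquivOfEq hk.symm).trans (RingHom.quotientKerEquivOfSurjective hs))
  exact ⟨fun _ => IsRegularLocalRing.of_ringEquiv E.symm, fun _ => IsRegularLocalRing.of_ringEquiv E⟩

/-- Generators with full Jacobian give regular points on every completed base change. -/
theorem regular_of_generated {s : ℕ} {Y : Fin s → P} {D : Fin s → Derivation k P P} (hcov : IsCover k P Y D)
    (hsurj : Function.Surjective (algebraMap P A)) (p : Ideal A) [p.IsPrime] {m : ℕ} (σ : Fin m → Fin s)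
    (f : Fin m → P) (hf : ∀ j, algebraMap P A (f j) = 0) [(p.comap (algebraMap P A)).IsPrime]
    (hgen : (RingHom.ker (algebraMap P A)).map (algebraMap P (Localization.AtPrime (p.comap (algebraMap P A)))) =
      Ideal.span (Set.range fun j => algebraMap P (Localization.AtPrime (p.comap (algebraMap P A))) (f j)))
    (hdet : Matrix.det (Matrix.of fun i j => D (σ i) (f j)) ∉ p.comap (algebraMap P A))
    (p' : Ideal (AdicCompletion IA (A ⊗[k] k'))) [p'.IsPrime]
    (hp' : p'.comap (algebraMap A (AdicCompletion IA (A ⊗[k] k'))) = p) :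
    IsRegularLocalRing (Localization.AtPrime p') := by
  classical
  obtain ⟨π, hπ, hπP, hπk⟩ := exists_quotient_map IP IA hIP hIA hsurj
  let CP := AdicCompletion IP (P ⊗[k] k')
  haveI : IsRegularRing CP := isRegularRing_completion IP hIP hcov.1
  let 𝔓 := p'.comap π
  have hcomap : p.comap (algebraMap P A) = 𝔓.comap (algebraMap P CP) := Ideal.ext fun a => by
    rw [Ideal.mem_comap, Ideal.mem_comap, Ideal.mem_comap, hπP, ← hp', Ideal.mem_comap]
  rw [isRegularLocalRing_atPrime_iff π hπ p' 𝔓 rfl (Localization.AtPrime 𝔓), hπk, Ideal.map_map]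
  let R := Localization.AtPrime 𝔓
  let e : P →+* R := (algebraMap CP R).comp (algebraMap P CP)
  let lR := Localization.localRingHom (p.comap (algebraMap P A)) 𝔓 (algebraMap P CP) hcomap
  have hspan : (RingHom.ker (algebraMap P A)).map e = Ideal.span (Set.range fun j => e (f j)) := by
    have hfac : e = lR.comp (algebraMap P _) := RingHom.ext fun a =>
      (Localization.localRingHom_to_map _ _ _ hcomap a).symm
    rw [hfac, ← Ideal.map_map, hgen, Ideal.map_span, ← Set.range_comp]
    rfl
  rw [hspan]
  choose D₁ hD₁ hD₁k using fun i => exists_derivation_baseChange IP (D (σ i))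
  choose d hd using fun i => GRingLib.exists_derivation_localization 𝔓.primeCompl R (D₁ i)
  have hde : ∀ i a, d i (e a) = e (D (σ i) a) := fun i a => by
    show d i (algebraMap CP R (algebraMap P CP a)) = algebraMap CP R (algebraMap P CP (D (σ i) a))
    rw [hd, algebraMap_completion IP a, algebraMap_completion IP (D (σ i) a)]
    exact congrArg _ (hD₁ i a)
  refine isRegularLocalRing_quotient_of_det (fun j => e (f j)) (fun j => ?_) d fun h => hdet ?_
  · refine (IsLocalization.AtPrime.to_map_mem_maximal_iff R 𝔓 _).2 ?_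
    show π (algebraMap P CP (f j)) ∈ p'
    rw [hπP, hf, map_zero]
    exact zero_mem _
  · rw [hcomap, Ideal.mem_comap]
    refine (IsLocalization.AtPrime.to_map_mem_maximal_iff R 𝔓 _).1 ?_
    show e _ ∈ _
    rw [RingHom.map_det]
    convert h using 3
    exact Matrix.ext fun i j => (hde i (f j)).symm

/-- A regular point over a perfect field gives generators with full Jacobian. -/
theorem exists_jacobian_of_regular [PerfectField k'] {s : ℕ} {Y : Fin s → P} {D : Fin s → Derivation k P P}
    (hcov : IsCover k P Y D) (hsurj : Function.Surjective (algebraMap P A)) (p : Ideal A) [p.IsPrime]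
    (p' : Ideal (AdicCompletion IA (A ⊗[k] k'))) [p'.IsPrime]
    (hp' : p'.comap (algebraMap A (AdicCompletion IA (A ⊗[k] k'))) = p) [(p.comap (algebraMap P A)).IsPrime]
    (hreg : IsRegularLocalRing (Localization.AtPrime p')) :
    ∃ (m : ℕ) (σ : Fin m → Fin s) (f : Fin m → P), (∀ j, algebraMap P A (f j) = 0) ∧
      (RingHom.ker (algebraMap P A)).map (algebraMap P (Localization.AtPrime (p.comap (algebraMap P A)))) =
        Ideal.span (Set.range fun j => algebraMap P (Localization.AtPrime (p.comap (algebraMap P A))) (f j)) ∧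
      Matrix.det (Matrix.of fun i j => D (σ i) (f j)) ∉ p.comap (algebraMap P A) := by
  classical
  haveI := finite_baseField_quotient k P k' IP hIP
  obtain ⟨π, hπ, hπP, hπk⟩ := exists_quotient_map IP IA hIP hIA hsurj
  let CP := AdicCompletion IP (P ⊗[k] k')
  obtain ⟨hnoeth, -, hlocs⟩ := completion_localization (k' := k') IP hIP
  haveI := hnoeth
  let 𝔓 := p'.comap π
  obtain ⟨M, hM, h𝔓M⟩ := Ideal.exists_le_maximal 𝔓 (Ideal.IsPrime.ne_top inferInstance)
  let L := Localization.AtPrime M
  haveI : IsNoetherianRing L := IsLocalization.isNoetherianRing M.primeCompl L inferInstance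
  obtain ⟨hLc, hLff, -, -⟩ := hlocs ⟨M, hM⟩
  haveI : IsAdicComplete (maximalIdeal L) L := hLc
  haveI : Module.FaithfullyFlat P L := hLff
  haveI := isLocalHom_completion_localization IP hIP ⟨M, hM⟩
  have hLFS : CAlgX.IsAdicFormallySmooth k' L (maximalIdeal L) := adicFS_baseChange IP hIP hcov.1 ⟨M, hM⟩
  have hdisj : Disjoint (M.primeCompl : Set CP) (𝔓 : Set CP) :=
    Set.disjoint_left.2 fun x hx hx' => hx (h𝔓M hx')
  let 𝔔 := 𝔓.map (algebraMap CP L)
  haveI : 𝔔.IsPrime := IsLocalization.isPrime_of_isPrime_disjoint M.primeCompl L 𝔓 inferInstance hdisj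
  have h𝔔 : 𝔔.comap (algebraMap CP L) = 𝔓 :=
    IsLocalization.under_map_of_isPrime_disjoint M.primeCompl L inferInstance hdisj
  let e : P →+* L := algebraMap P L
  have he : ∀ a, e a = algebraMap CP L (algebraMap P CP a) := fun a => IsScalarTower.algebraMap_apply P CP L a
  have hcomap : ∀ a, a ∈ p.comap (algebraMap P A) ↔ e a ∈ 𝔔 := fun a => by
    rw [he, ← Ideal.mem_comap (f := algebraMap CP L), h𝔔, Ideal.mem_comap, Ideal.mem_comap, hπP, ← hp',
      Ideal.mem_comap]
  let q : Ideal L := (RingHom.ker (algebraMap P A)).map e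
  have hq𝔔 : q ≤ 𝔔 := Ideal.map_le_iff_le_comap.2 fun a ha => by
    rw [Ideal.mem_comap, ← hcomap, Ideal.mem_comap, RingHom.mem_ker.1 ha]
    exact zero_mem _
  haveI : (𝔔.map (Ideal.Quotient.mk q)).IsPrime :=
    Ideal.map_isPrime_of_surjective Ideal.Quotient.mk_surjective (by rwa [Ideal.mk_ker])
  -- the point is regular
  let R := Localization.AtPrime 𝔔
  haveI hRloc : IsLocalization.AtPrime R (𝔔.comap (algebraMap CP L)) :=
    IsLocalization.isLocalization_isLocalization_atPrime_isLocalization M.primeCompl R 𝔔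
  have hqR : (RingHom.ker π).map (algebraMap CP R) = q.map (algebraMap L R) := by
    rw [hπk, Ideal.map_map, Ideal.map_map]
    refine congrArg (fun f => Ideal.map f (RingHom.ker (algebraMap P A))) (RingHom.ext fun a => ?_)
    show algebraMap CP R (algebraMap P CP a) = algebraMap L R (e a)
    rw [he, ← IsScalarTower.algebraMap_apply CP L R]
  haveI hB : IsRegularLocalRing (Localization.AtPrime (𝔔.map (Ideal.Quotient.mk q))) := by
    obtain ⟨π₂, hπ₂, hπ₂k, -⟩ := NagataLib.exists_toQuotient q 𝔔 hq𝔔
    haveI := (isRegularLocalRing_atPrime_iff π hπ p' (𝔔.comap (algebraMap CP L)) h𝔔 R).1 hreg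
    exact isRegularLocalRing_of_surjective_ker π₂ hπ₂ ((RingHom.ker π).map (algebraMap CP R)) (hπ₂k.trans hqR.symm)
  obtain ⟨pe, hpe⟩ := ExpChar.exists k'
  haveI := hpe
  haveI := PerfectField.toPerfectRing (K := k') pe
  have hfin : Module.Finite (frobenius k' pe).fieldRange k' :=
    Module.Finite.of_surjective (Algebra.linearMap (frobenius k' pe).fieldRange k') fun x =>
      ⟨⟨x, (bijective_frobenius k' pe).2 x⟩, rfl⟩
  obtain ⟨m, D', f, hfq, hgenL, hdet'⟩ :=
    (NagataLib.adicFS_iff_jacobian pe (Or.inr hfin) hLFS q 𝔔 hq𝔔).1 adicFS_of_perfect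
  let κ := 𝔔.ResidueField
  let ι := algebraMap L κ
  have hι : ∀ z, ι z = 0 ↔ z ∈ 𝔔 := fun z => Ideal.algebraMap_residueField_eq_zero
  let Mf : Matrix (Fin m) (Fin m) κ := (Matrix.of fun i j => D' i (f j)).map ι
  have hMf : IsUnit Mf.det := isUnit_iff_ne_zero.2 fun h => hdet' ((hι _).1 ((RingHom.map_det ι _).trans h))
  let φ : RingHom.ker (algebraMap P A) → (Fin m → κ) := fun a i => ι (D' i (e a.1))
  have hφspan : Submodule.span κ (Set.range φ) = ⊤ := by
    have hmem : ∀ x ∈ q, (fun i => ι (D' i x)) ∈ Submodule.span κ (Set.range φ) ∧ x ∈ 𝔔 := by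
      intro x hx
      induction hx using Submodule.span_induction with
      | mem x hx =>
        obtain ⟨a, ha, rfl⟩ := hx
        exact ⟨Submodule.subset_span ⟨⟨a, ha⟩, rfl⟩, hq𝔔 (Ideal.mem_map_of_mem e ha)⟩
      | zero =>
        refine ⟨?_, zero_mem _⟩
        rw [show (fun i => ι (D' i 0)) = 0 from funext fun i => by simp]
        exact zero_mem _
      | add x y _ _ hx hy =>
        refine ⟨?_, add_mem hx.2 hy.2⟩
        rw [show (fun i => ι (D' i (x + y))) = (fun i => ι (D' i x)) + fun i => ι (D' i y) from funext fun i => by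
          simp]
        exact add_mem hx.1 hy.1
      | smul c x _ hx =>
        refine ⟨?_, Submodule.smul_mem _ c hx.2⟩
        rw [show (fun i => ι (D' i (c • x))) = ι c • fun i => ι (D' i x) from funext fun i => by
          rw [smul_eq_mul, Derivation.leibniz, smul_eq_mul, smul_eq_mul, map_add, map_mul, map_mul, (hι x).2 hx.2,
            zero_mul, add_zero, Pi.smul_apply, smul_eq_mul]]
        exact Submodule.smul_mem _ _ hx.1
    refine eq_top_iff.2 fun z _ => ?_
    rw [show z = Mf.mulVec (Mf⁻¹.mulVec z) by rw [Matrix.mulVec_mulVec, Matrix.mul_nonsing_inv _ hMf, Matrix.one_mulVec]]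
    rw [show Mf.mulVec (Mf⁻¹.mulVec z) = ∑ j, (Mf⁻¹.mulVec z j) • (fun i => ι (D' i (f j))) from funext fun i => by
      rw [Finset.sum_apply]
      simp only [Matrix.mulVec, dotProduct, Pi.smul_apply, smul_eq_mul]
      refine Finset.sum_congr rfl fun j _ => ?_
      exact mul_comm _ _]
    exact Submodule.sum_mem _ fun j _ => Submodule.smul_mem _ _ (hmem _ (hfq j)).1
  obtain ⟨κ₀, τ, -, hτspan, hτli⟩ := exists_linearIndependent' κ φ
  haveI : Finite κ₀ := hτli.finite
  haveI : Fintype κ₀ := Fintype.ofFinite κ₀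
  let b := Module.Basis.mk hτli (by rw [hτspan, hφspan])
  have hcard : Fintype.card κ₀ = m := by
    rw [← Module.finrank_eq_card_basis b, Module.finrank_fin_fun]
  let idx : Fin m ≃ κ₀ := (Fintype.equivFinOfCardEq hcard).symm
  let g : Fin m → P := fun j => (τ (idx j)).1
  have hgker : ∀ j, algebraMap P A (g j) = 0 := fun j => RingHom.mem_ker.1 (τ (idx j)).2
  let Mg : Matrix (Fin m) (Fin m) κ := Matrix.of fun i j => ι (D' i (e (g j)))
  have hMgli : ∀ c : Fin m → κ, Mg.mulVec c = 0 → c = 0 := fun c hc => funext fun j =>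
    Fintype.linearIndependent_iff.1 (hτli.comp idx idx.injective) c (funext fun i => by
      rw [Finset.sum_apply]
      refine Eq.trans ?_ (congrFun hc i)
      exact Finset.sum_congr rfl fun j _ => mul_comm _ _) j
  -- the derivations are combinations of the coordinate ones
  have hcomb : ∀ i a, D' i (e a) = ∑ l, D' i (e (Y l)) * e (D l a) := by
    intro i a
    let δ₁ : Derivation k P L := ((D' i).restrictScalars k).compAlgebraMap P
    let δ₂ : Derivation k P L := ∑ l, D' i (e (Y l)) • (Algebra.linearMap P L).compDer (D l)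
    have hδ₂ : ∀ a, δ₂ a = ∑ l, D' i (e (Y l)) * e (D l a) := fun a => by
      rw [← Derivation.coeFnAddMonoidHom_apply δ₂, map_sum, Finset.sum_apply]
      rfl
    have hsep : ∀ x : L, (∀ j, x ∈ (maximalIdeal P ^ j • ⊤ : Submodule P L)) → x = 0 := by
      intro x hx
      refine IsHausdorff.haus (I := maximalIdeal L) inferInstance x fun j => ?_
      rw [SModEq.zero, smul_eq_mul, Ideal.mul_top]
      have h := hx j
      rw [Ideal.smul_top_eq_map, Submodule.restrictScalars_mem, Ideal.map_pow] at h
      exact Ideal.pow_right_mono (IsLocalRing.map_maximalIdeal_le (algebraMap P L)) j h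
    have hY : ∀ l, (δ₁ - δ₂) (Y l) = 0 := fun l => by
      rw [Derivation.sub_apply, hδ₂, sub_eq_zero]
      rw [Finset.sum_eq_single l (fun l' _ hl' => by rw [hcov.2.1, if_neg hl', map_zero, mul_zero])
        (fun h => absurd (Finset.mem_univ l) h), hcov.2.1, if_pos rfl, map_one, mul_one]
      rfl
    have h := Derivation.congr_fun (derivation_ext_cover hcov hsep (δ₁ - δ₂) hY) a
    rw [Derivation.sub_apply, hδ₂, Derivation.zero_apply, sub_eq_zero] at h
    exact h
  obtain ⟨σ, hσ⟩ := NagataLib.exists_minor (fun l j => ι (e (D l (g j)))) fun c hc => hMgli c (funext fun i => by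
    show ∑ j, ι (D' i (e (g j))) * c j = 0
    rw [Finset.sum_congr rfl fun j _ => congrArg (fun z => ι z * c j) (hcomb i (g j))]
    simp only [map_sum, map_mul, Finset.sum_mul]
    rw [Finset.sum_comm]
    refine Finset.sum_eq_zero fun l _ => ?_
    rw [← mul_zero (ι (D' i (e (Y l)))), ← hc l, Finset.mul_sum]
    exact Finset.sum_congr rfl fun j _ => by ring)
  refine ⟨m, σ, g, hgker, ?_, fun h => hσ ?_⟩
  swap
  · have h' := (hι _).2 ((hcomap _).1 h)
    rw [← RingHom.comp_apply, RingHom.map_det] at h'
    exact h'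
  -- the chosen elements generate after the extension
  choose d hdm hd using fun i => exists_extend_mul (R := R) 𝔔.primeCompl (D' i).toLinearMap.toAddMonoidHom fun a b =>
    (D' i).leibniz a b
  have hBex : ∀ j, ∃ c : Fin m → R, ∑ l, c l * algebraMap L R (f l) = algebraMap L R (e (g j)) := fun j =>
    (Submodule.mem_span_range_iff_exists_fun R).1
      (hgenL.le (Ideal.mem_map_of_mem _ (Ideal.mem_map_of_mem e (τ (idx j)).2)))
  choose B hB' using hBex
  have hfR : ∀ l, residue R (algebraMap L R (f l)) = 0 := fun l => (hι _).2 (hq𝔔 (hfq l))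
  let Bm : Matrix (Fin m) (Fin m) R := Matrix.of fun l j => B j l
  have hMgeq : Mg = Mf * Bm.map (residue R) := Matrix.ext fun i j => by
    rw [Matrix.mul_apply]
    show residue R (algebraMap L R (D' i (e (g j)))) = ∑ l, residue R (algebraMap L R (D' i (f l))) * residue R (B j l)
    rw [show algebraMap L R (D' i (e (g j))) = d i (algebraMap L R (e (g j))) from (hd i _).symm, ← hB', map_sum, map_sum]
    refine Finset.sum_congr rfl fun l _ => ?_
    rw [hdm, map_add, map_mul, map_mul, hfR, zero_mul, add_zero, hd, mul_comm]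
    rfl
  have hMg : Mg.det ≠ 0 := fun h => by
    obtain ⟨v, hv0, hv⟩ := Matrix.exists_mulVec_eq_zero_iff.2 h
    exact hv0 (hMgli v hv)
  have hBm : IsUnit Bm.det := by
    refine (IsLocalRing.residue_ne_zero_iff_isUnit _).1 fun h => hMg ?_
    rw [hMgeq, Matrix.det_mul, ← RingHom.mapMatrix_apply, ← RingHom.map_det, h, mul_zero]
  have hgenR : q.map (algebraMap L R) = Ideal.span (Set.range fun j => algebraMap L R (e (g j))) := by
    refine le_antisymm (hgenL.le.trans (Ideal.span_le.2 ?_))
      (Ideal.span_le.2 (by rintro _ ⟨j, rfl⟩; exact Ideal.mem_map_of_mem _ (Ideal.mem_map_of_mem e (τ (idx j)).2)))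
    rintro _ ⟨l, rfl⟩
    refine (Submodule.mem_span_range_iff_exists_fun R).2 ⟨fun j => Bm⁻¹ j l, ?_⟩
    have h : ∀ j, algebraMap L R (e (g j)) = ∑ r, Bm r j * algebraMap L R (f r) := fun j => (hB' j).symm
    simp only [smul_eq_mul, h, Finset.mul_sum]
    rw [Finset.sum_comm]
    have h1 : ∀ r, ∑ j, Bm⁻¹ j l * (Bm r j * algebraMap L R (f r)) = (Bm * Bm⁻¹) r l * algebraMap L R (f r) :=
      fun r => by
        rw [Matrix.mul_apply, Finset.sum_mul]
        exact Finset.sum_congr rfl fun j _ => by ring
    simp only [h1, Matrix.mul_nonsing_inv _ hBm, Matrix.one_apply, ite_mul, one_mul, zero_mul]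
    simp
    rfl
  -- descent
  let Pp := Localization.AtPrime (p.comap (algebraMap P A))
  let lR : Pp →+* R := IsLocalization.lift (M := (p.comap (algebraMap P A)).primeCompl) (g := (algebraMap L R).comp e)
    fun u => IsLocalization.map_units R (⟨e u, fun h => u.2 ((hcomap _).2 h)⟩ : 𝔔.primeCompl)
  have hlR : ∀ a, lR (algebraMap P Pp a) = algebraMap L R (e a) := fun a => IsLocalization.lift_eq _ a
  letI : Algebra Pp R := lR.toAlgebra
  haveI : IsScalarTower P Pp R := IsScalarTower.of_algebraMap_eq fun a =>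
    ((IsScalarTower.algebraMap_apply P L R a).trans (hlR a).symm)
  haveI : Module.Flat L R := IsLocalization.flat R 𝔔.primeCompl
  haveI : Module.Flat P R := Module.Flat.trans P L R
  haveI : Module.Flat Pp R := (Module.flat_iff_of_isLocalization Pp (p.comap (algebraMap P A)).primeCompl R).2 inferInstance
  haveI : IsLocalHom (algebraMap Pp R) := ((IsLocalRing.local_hom_TFAE _).out 2 0).1 (by
    rw [← IsLocalization.AtPrime.map_eq_maximalIdeal (p.comap (algebraMap P A)) Pp, Ideal.map_map,
      Ideal.map_le_iff_le_comap]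
    intro a ha
    rw [Ideal.mem_comap, RingHom.comp_apply, ← IsScalarTower.algebraMap_apply P Pp R,
      IsScalarTower.algebraMap_apply P L R, IsLocalization.AtPrime.to_map_mem_maximal_iff R 𝔔]
    exact (hcomap a).1 ha)
  haveI : Module.FaithfullyFlat Pp R := Module.FaithfullyFlat.of_flat_of_isLocalHom
  have hboth : ((RingHom.ker (algebraMap P A)).map (algebraMap P Pp)).map (algebraMap Pp R) =
      (Ideal.span (Set.range fun j => algebraMap P Pp (g j))).map (algebraMap Pp R) := by
    rw [Ideal.map_map, Ideal.map_span, ← Set.range_comp, ← IsScalarTower.algebraMap_eq,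
      IsScalarTower.algebraMap_eq P L R, ← Ideal.map_map]
    refine hgenR.trans (congrArg Ideal.span (congrArg Set.range (funext fun j => ?_)))
    exact (IsScalarTower.algebraMap_apply P L R (g j)).symm.trans (IsScalarTower.algebraMap_apply P Pp R (g j))
  have h := congrArg (Ideal.comap (algebraMap Pp R)) hboth
  rwa [Ideal.comap_map_eq_self_of_faithfullyFlat, Ideal.comap_map_eq_self_of_faithfullyFlat] at h

end CKaehlerLib
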