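import Groth.Agent.CohenLib.Normalization
import Groth.Agent.CohenLib.FSRegular
import Mathlib.RingTheory.MvPowerSeries.Basic

/-!
# Normalisation over a field with finite residue extension
-/

set_option autoImplicit false
set_option linter.style.haveILetI false

universe u

open IsLocalRing

namespace CKaehlerLib

section finite
variable {P R : Type*} [CommRing P] [CommRing R] [IsLocalRing R] [IsNoetherianRing R] [Algebra P R]
  [Module.Finite P (ResidueField R)]

/-- A finite module killed by a power of the maximal ideal is finite over a ring with finite residue field. -/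
theorem finite_of_pow_maximal_killed :
    ∀ (N : ℕ) (M : Type u) [AddCommGroup M] [Module R M] [Module P M] [IsScalarTower P R M]
      [Module.Finite R M], (maximalIdeal R ^ N • ⊤ : Submodule R M) = ⊥ → Module.Finite P M
  | 0, M, _, _, _, _, _, h => by
    rw [pow_zero, Ideal.one_eq_top, Submodule.top_smul] at h
    have : Subsingleton M := subsingleton_of_forall_eq 0 fun x => (Submodule.mem_bot R).1 (h ▸ Submodule.mem_top)
    infer_instance
  | N + 1, M, _, _, _, _, _, h => by
    let W : Submodule R M := maximalIdeal R • ⊤
    have hW : Module.Finite P W := by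
      have : Module.Finite R W := Module.Finite.iff_fg.2 (IsNoetherian.noetherian W)
      refine finite_of_pow_maximal_killed N W ?_
      apply Submodule.map_injective_of_injective W.injective_subtype
      rw [Submodule.map_smul'', Submodule.map_subtype_top, Submodule.map_bot, ← Submodule.mul_smul,
        ← pow_succ, h]
    have hQ : Module.Finite P (M ⧸ W) := by
      obtain ⟨r, s, hs⟩ := Module.Finite.exists_fin (R := R) (M := M ⧸ W)
      obtain ⟨t, c, hc⟩ := Module.Finite.exists_fin (R := P) (M := ResidueField R)
      choose a ha using fun j => residue_surjective (R := R) (c j)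
      refine ⟨⟨(Set.finite_range fun x : Fin t × Fin r => a x.1 • s x.2).toFinset, ?_⟩⟩
      rw [Set.Finite.coe_toFinset, eq_top_iff]
      intro z _
      obtain ⟨b, rfl⟩ := (Submodule.mem_span_range_iff_exists_fun R).1 (hs ▸ Submodule.mem_top (x := z))
      refine Submodule.sum_mem _ fun i _ => ?_
      obtain ⟨q, hq⟩ := (Submodule.mem_span_range_iff_exists_fun P).1
        (hc ▸ Submodule.mem_top (x := residue R (b i)))
      have hb : b i • s i = ∑ j, q j • (a j • s i) := by
        obtain ⟨y, hy⟩ := Submodule.Quotient.mk_surjective _ (s i)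
        have h1 : b i - ∑ j, algebraMap P R (q j) * a j ∈ maximalIdeal R := by
          rw [← residue_eq_zero_iff, map_sub, map_sum, sub_eq_zero, ← hq]
          refine Finset.sum_congr rfl fun j _ => ?_
          rw [map_mul, ha, Algebra.smul_def]
          rfl
        have h2 : b i • y - (∑ j, algebraMap P R (q j) * a j) • y ∈ W := by
          rw [← sub_smul]
          exact Submodule.smul_mem_smul h1 Submodule.mem_top
        rw [← hy, ← Submodule.Quotient.mk_smul, (Submodule.Quotient.eq W).2 h2, Submodule.Quotient.mk_smul,
          Finset.sum_smul]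
        refine Finset.sum_congr rfl fun j _ => ?_
        rw [mul_smul, algebraMap_smul]
      rw [hb]
      exact Submodule.sum_mem _ fun j _ => Submodule.smul_mem _ _ (Submodule.subset_span ⟨(j, i), rfl⟩)
    have h1 : Module.Finite P (W.restrictScalars P) := hW
    have h2 : Module.Finite P (M ⧸ W.restrictScalars P) :=
      Module.Finite.equiv (Submodule.Quotient.restrictScalarsEquiv P W).symm
    exact Module.Finite.of_submodule_quotient (W.restrictScalars P)

end finite

/-- Noether normalisation over a field over which the residue field is finite. -/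
theorem exists_finite_injective (K : Type u) [Field K] (R : Type u) [CommRing R] [IsDomain R] [IsLocalRing R]
    [IsNoetherianRing R] [IsAdicComplete (maximalIdeal R) R] [Algebra K R] [Module.Finite K (ResidueField R)]
    (n : ℕ) (hn : ringKrullDim R = n) :
    ∃ w : MvPowerSeries (Fin n) K →ₐ[K] R, Function.Injective w ∧ w.toRingHom.Finite ∧
      ∀ i, w (MvPowerSeries.X i) ∈ maximalIdeal R := by
  classical
  obtain ⟨n', x, M, hM, hn', hxm⟩ := CohenLib.exists_primary_family R
  obtain rfl : n' = n := by rw [hn] at hn'; exact_mod_cast hn'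
  let f := CohenLib.psHom (maximalIdeal R) (algebraMap K R) x hxm
  let P := MvPowerSeries (Fin n') K
  haveI := CohenLib.isRegularLocalRing_mvPowerSeries K n'
  haveI := CohenLib.isAdicComplete_varsIdeal (n := n') K
  have hfC : ∀ c, f (MvPowerSeries.C c) = algebraMap K R c := CohenLib.psHom_C _ _ x hxm
  have hfX : ∀ i, f (MvPowerSeries.X i) = x i := CohenLib.psHom_X _ _ x hxm
  let J : Ideal R := (maximalIdeal P).map f
  have hJ : J = Ideal.span (Set.range x) := by
    show (maximalIdeal P).map f = _
    rw [CohenLib.maximalIdeal_mvPowerSeries_field, CohenLib.varsIdeal, Ideal.map_span, ← Set.range_comp]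
    exact congrArg (fun h => Ideal.span (Set.range h)) (funext hfX)
  have hJm : J ≤ maximalIdeal R := by
    rw [hJ, Ideal.span_le]
    rintro z ⟨i, rfl⟩
    exact hxm i
  haveI : IsHausdorff J R := ⟨fun z hz => IsHausdorff.haus (I := maximalIdeal R) inferInstance z fun k =>
    (hz k).mono (Submodule.smul_mono (Ideal.pow_right_mono hJm k) le_rfl)⟩
  letI : Algebra P R := f.toAlgebra
  haveI : Module.Finite P (ResidueField R) := by
    obtain ⟨t, ht⟩ := (inferInstance : Module.Finite K (ResidueField R)).fg_top
    refine ⟨⟨t, eq_top_iff.2 fun z hz0 => ?_⟩⟩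
    clear hz0
    have hz : z ∈ Submodule.span K (t : Set (ResidueField R)) := ht ▸ Submodule.mem_top
    induction hz using Submodule.span_induction with
    | mem y hy => exact Submodule.subset_span hy
    | zero => exact zero_mem _
    | add _ _ _ _ ha hb => exact add_mem ha hb
    | smul c y _ hy =>
      have h : c • y = (MvPowerSeries.C c : P) • y := by
        rw [Algebra.smul_def, Algebra.smul_def]
        exact congrArg (fun u => residue R u * y) (hfC c).symm
      rw [h]
      exact Submodule.smul_mem _ _ hy
  haveI hfinJ : Module.Finite P (R ⧸ J) := by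
    refine finite_of_pow_maximal_killed (P := P) (R := R) M (R ⧸ J) ?_
    rw [eq_bot_iff]
    refine Submodule.smul_le.2 fun a ha z _ => ?_
    obtain ⟨z, rfl⟩ := Ideal.Quotient.mk_surjective z
    rw [Submodule.mem_bot, Algebra.smul_def, Ideal.Quotient.algebraMap_eq, ← map_mul,
      Ideal.Quotient.eq_zero_iff_mem]
    exact Ideal.mul_mem_right _ _ (hJ ▸ hM ha)
  have hfin : f.Finite := by
    refine CohenLib.finite_of_complete J (CohenLib.varsIdeal K n') f
      (by rw [← CohenLib.maximalIdeal_mvPowerSeries_field]) ?_
    show (algebraMap P (R ⧸ J)).Finite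
    exact RingHom.finite_algebraMap.2 hfinJ
  refine ⟨{ f with commutes' := fun c => (congrArg f (by rw [MvPowerSeries.algebraMap_apply]; rfl)).trans (hfC c) },
    ?_, hfin, fun i => (hfX i).symm ▸ hxm i⟩
  show Function.Injective f
  rw [RingHom.injective_iff_ker_eq_bot]
  by_contra hker
  letI : Algebra (P ⧸ RingHom.ker f) R := (Ideal.Quotient.lift (RingHom.ker f) f fun _ h => h).toAlgebra
  haveI : IsScalarTower P (P ⧸ RingHom.ker f) R :=
    @IsScalarTower.of_algebraMap_eq P (P ⧸ RingHom.ker f) R _ _ _ _ _ _ fun _ => rfl
  haveI : Module.Finite P R := hfin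
  haveI : Module.Finite (P ⧸ RingHom.ker f) R := Module.Finite.of_restrictScalars_finite P _ R
  have h1 : ringKrullDim R ≤ ringKrullDim (P ⧸ RingHom.ker f) := CohenLib.ringKrullDim_le_of_isIntegral _ _
  have h2 := CommAlgDim.ringKrullDim_quotient_lt (R := P) (I := RingHom.ker f) hker
  rw [CohenLib.ringKrullDim_mvPowerSeries_field] at h2
  exact lt_irrefl _ (h1.trans_lt (h2.trans_eq hn'))

end CKaehlerLib
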