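import Groth.Agent.CKaehlerLib.Jacobian
import Groth.Agent.NagataLib.Criterion
import Groth.Agent.AdicFSLib.Main

/-!
# Generators of completed differentials and Jacobian minors
-/

set_option autoImplicit false
set_option linter.style.haveILetI false
set_option maxHeartbeats 1000000
set_option synthInstance.maxHeartbeats 200000

universe u

open IsLocalRing Groth.Agent

namespace CKaehlerLib

section

variable {k P : Type u} [Field k] [CommRing P] [IsLocalRing P] [IsNoetherianRing P] [Algebra k P] {s : ℕ}
  {Y : Fin s → P} {D : Fin s → Derivation k P P} {A : Type u} [CommRing A] [IsLocalRing A] [IsNoetherianRing A]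
  [Algebra k A] [IsAdicComplete (maximalIdeal A) A] [Algebra P A] [IsScalarTower k P A]
  [Algebra.EssFiniteType k (ResidueField A)]

/-- Few generators at a point give a large minor of the Jacobian. -/
theorem exists_minor_of_generated (hcov : IsCover k P Y D) (hsurj : Function.Surjective (algebraMap P A)) (p : Ideal A)
    [p.IsPrime] {n : ℕ} (t : Fin n → LocalizedModule p.primeCompl (AdicCompletion (maximalIdeal A) (Ω[A⁄k])))
    (ht : Submodule.span (Localization.AtPrime p) (Set.range t) = ⊤) {m : ℕ} (hm : m + n ≤ s) :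
    ∃ (f : Fin m → P) (σ : Fin m → Fin s), (∀ j, algebraMap P A (f j) = 0) ∧
      Matrix.det (Matrix.of fun i j => D (σ i) (f j)) ∉ p.comap (algebraMap P A) := by
  classical
  obtain ⟨Φ, hΦs, -, hΦk⟩ := exists_presentation A hcov hsurj
  let L := p.ResidueField
  let M := AdicCompletion (maximalIdeal A) (Ω[A⁄k])
  choose x u hxu using fun j => (show ∃ (x : M) (u : p.primeCompl), LocalizedModule.mk x u = t j by
    induction t j using LocalizedModule.induction_on with
    | h x u => exact ⟨x, u, rfl⟩)
  let row : RingHom.ker (algebraMap P A) → (Fin s → L) := fun f i => algebraMap A L (jacobianRow A D f.1 i)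
  obtain ⟨κ, τ, -, hτspan, hτli⟩ := exists_linearIndependent' L row
  haveI : Finite κ := hτli.finite
  haveI : Fintype κ := Fintype.ofFinite κ
  let ev : (Fin s → L) →ₗ[L] (κ → L) := LinearMap.pi fun a => ∑ i, row (τ a) i • LinearMap.proj i
  have hev : ∀ v a, ev v a = ∑ i, row (τ a) i * v i := fun v a => by simp [ev, LinearMap.sum_apply]
  -- functionals on the fibre
  have hfun : ∀ v : LinearMap.ker ev, ∃ g : M →ₗ[A] L, ∀ w, g (Φ w) = ∑ i, algebraMap A L (w i) * v.1 i := by
    intro v
    let G : (Fin s → A) →ₗ[A] L := Fintype.linearCombination A v.1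
    have hG : ∀ w, G w = ∑ i, algebraMap A L (w i) * v.1 i := fun w => by
      rw [Fintype.linearCombination_apply]
      exact Finset.sum_congr rfl fun i _ => Algebra.smul_def _ _
    have hle : LinearMap.ker Φ ≤ LinearMap.ker G := by
      rw [hΦk, Submodule.span_le]
      rintro _ ⟨f, hf, rfl⟩
      rw [SetLike.mem_coe, LinearMap.mem_ker, hG]
      have hmem : row ⟨f, hf⟩ ∈ Submodule.span L (Set.range (row ∘ τ)) := by
        rw [hτspan]
        exact Submodule.subset_span ⟨_, rfl⟩
      have key : ∀ r ∈ Submodule.span L (Set.range (row ∘ τ)), ∑ i, r i * v.1 i = 0 := by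
        intro r hr
        induction hr using Submodule.span_induction with
        | mem r hr =>
          obtain ⟨a, rfl⟩ := hr
          rw [Function.comp_apply, ← hev, LinearMap.mem_ker.1 v.2]
          rfl
        | zero => simp
        | add _ _ _ _ ha hb => simp [add_mul, Finset.sum_add_distrib, ha, hb]
        | smul c _ _ ha => simp [mul_assoc, ← Finset.mul_sum, ha]
      exact key _ hmem
    refine ⟨(LinearMap.ker Φ).liftQ G hle ∘ₗ (Φ.quotKerEquivOfSurjective hΦs).symm.toLinearMap, fun w => ?_⟩
    rw [← hG]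
    show (LinearMap.ker Φ).liftQ G hle ((Φ.quotKerEquivOfSurjective hΦs).symm (Φ w)) = G w
    rw [show (Φ.quotKerEquivOfSurjective hΦs).symm (Φ w) = Submodule.Quotient.mk w from
      (Φ.quotKerEquivOfSurjective hΦs).symm_apply_eq.2 rfl, Submodule.liftQ_apply]
  choose g hg using hfun
  choose wj hwj using fun j => hΦs (x j)
  let T : LinearMap.ker ev →ₗ[L] (Fin n → L) :=
    (LinearMap.pi fun j => ∑ i, algebraMap A L (wj j i) • LinearMap.proj i) ∘ₗ (LinearMap.ker ev).subtype
  have hT : ∀ v j, T v j = g v (x j) := fun v j => by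
    rw [← hwj j, hg]
    simp [T, LinearMap.sum_apply, Algebra.smul_def]
  have hTinj : Function.Injective T := by
    rw [injective_iff_map_eq_zero]
    intro v hv
    have hvx : ∀ j, g v (x j) = 0 := fun j => by rw [← hT, hv]; rfl
    have hgzero : ∀ y : M, g v y = 0 := by
      intro y
      obtain ⟨c, hc⟩ := (Submodule.mem_span_range_iff_exists_fun _).1
        (ht.ge (Submodule.mem_top (x := LocalizedModule.mkLinearMap p.primeCompl M y)))
      have hunit : ∀ u : p.primeCompl, IsUnit (algebraMap A L u) := fun u =>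
        isUnit_iff_ne_zero.2 fun h => u.2 (Ideal.algebraMap_residueField_eq_zero.1 h)
      have hend : ∀ u : p.primeCompl, IsUnit (algebraMap A (Module.End A L) u) := fun u => by
        rw [Module.End.isUnit_iff]
        refine ⟨fun a b hab => (hunit u).mul_left_cancel ?_, fun b => ⟨(hunit u).unit⁻¹ * b, ?_⟩⟩
        · simpa [Algebra.smul_def] using hab
        · show (u : A) • ((↑(hunit u).unit⁻¹ : L) * b) = b
          rw [Algebra.smul_def, ← mul_assoc, IsUnit.mul_val_inv, one_mul]
      let gp := LocalizedModule.lift p.primeCompl (g v) hend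
      have h0 : gp (LocalizedModule.mkLinearMap p.primeCompl M y) = 0 := by
        rw [← hc, map_sum]
        refine Finset.sum_eq_zero fun j _ => ?_
        obtain ⟨a, b, hab⟩ := IsLocalization.exists_mk'_eq p.primeCompl (c j)
        rw [← hab, ← hxu j, ← Localization.mk_eq_mk', LocalizedModule.mk_smul_mk, LocalizedModule.lift_mk, map_smul,
          hvx, smul_zero, map_zero]
      rw [LocalizedModule.mkLinearMap_apply, LocalizedModule.lift_mk] at h0
      simpa using h0
    refine Subtype.ext (funext fun i => ?_)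
    have h := hg v (Pi.single i 1)
    rw [hgzero, Finset.sum_eq_single i (fun l _ hl => by simp [hl]) (fun hn => absurd (Finset.mem_univ i) hn),
      Pi.single_eq_same, map_one, one_mul] at h
    exact h.symm
  have h1 := LinearMap.finrank_le_finrank_of_injective hTinj
  have h2 := ev.finrank_range_add_finrank_ker
  have h3 : Module.finrank L (LinearMap.range ev) ≤ Module.finrank L (κ → L) := Submodule.finrank_le _
  rw [Module.finrank_fintype_fun_eq_card] at h3
  rw [Module.finrank_fin_fun] at h1 h2
  have hcard : m ≤ Fintype.card κ := by omega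
  let a : Fin m → κ := fun j => (Fintype.equivFin κ).symm (Fin.castLE hcard j)
  have ha : Function.Injective a := fun i j h => Fin.castLE_injective hcard ((Fintype.equivFin κ).symm.injective h)
  have hli := hτli.comp a ha
  obtain ⟨σ, hσ⟩ := NagataLib.exists_minor (fun i j => row (τ (a j)) i) fun c hc => funext fun j =>
    Fintype.linearIndependent_iff.1 hli c (funext fun i => by
      rw [Finset.sum_apply]
      simpa [Pi.smul_apply, smul_eq_mul] using hc i) j
  refine ⟨fun j => (τ (a j)).1, σ, fun j => (τ (a j)).2, fun h => hσ ?_⟩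
  have h' : algebraMap A L (algebraMap P A (Matrix.det (Matrix.of fun i j => D (σ i) (τ (a j)).1))) = 0 :=
    Ideal.algebraMap_residueField_eq_zero.2 h
  rw [← RingHom.comp_apply, RingHom.map_det] at h'
  exact h'

omit [IsLocalRing A] [IsNoetherianRing A] [Algebra k A] [IsAdicComplete (maximalIdeal A) A] [IsScalarTower k P A]
  [Algebra.EssFiniteType k (ResidueField A)] in
/-- The prime cut out near a point by elements of the kernel with full Jacobian. -/
theorem height_data (hcov : IsCover k P Y D) [IsAdicComplete (maximalIdeal P) P] [Module.Finite k (ResidueField P)]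
    (hsurj : Function.Surjective (algebraMap P A)) (p q : Ideal A) [p.IsPrime] (hq : q ∈ minimalPrimes A) (hqp : q ≤ p)
    {n : ℕ} (hn : ringKrullDim (A ⧸ q) = n) {m : ℕ} (σ : Fin m → Fin s) (f : Fin m → P)
    (hf : ∀ j, algebraMap P A (f j) = 0)
    (hdet : Matrix.det (Matrix.of fun i j => D (σ i) (f j)) ∉ p.comap (algebraMap P A)) :
    (m + n = s → (RingHom.ker (algebraMap P A)).map (algebraMap P (Localization.AtPrime (p.comap (algebraMap P A)))) =
      Ideal.span (Set.range fun j => algebraMap P (Localization.AtPrime (p.comap (algebraMap P A))) (f j))) ∧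
    ((RingHom.ker (algebraMap P A)).map (algebraMap P (Localization.AtPrime (p.comap (algebraMap P A)))) =
      Ideal.span (Set.range fun j => algebraMap P (Localization.AtPrime (p.comap (algebraMap P A))) (f j)) →
      m + n = s) := by
  classical
  haveI : q.IsPrime := hq.1.1
  let 𝔭 := p.comap (algebraMap P A)
  let 𝔮 := q.comap (algebraMap P A)
  let Pp := Localization.AtPrime 𝔭
  have hf𝔮 : ∀ j, f j ∈ 𝔮 := fun j => by rw [Ideal.mem_comap, hf]; exact zero_mem _
  have h𝔮𝔭 : 𝔮 ≤ 𝔭 := Ideal.comap_mono hqp
  obtain ⟨𝔣, h𝔣, h𝔣𝔭, hf𝔣, hht, hmap⟩ := exists_prime_of_det hcov 𝔭 σ f (fun j => h𝔮𝔭 (hf𝔮 j)) hdet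
  have hspan : Ideal.span (Set.range fun j => algebraMap P Pp (f j)) = (Ideal.span (Set.range f)).map (algebraMap P Pp) := by
    rw [Ideal.map_span, ← Set.range_comp]
    rfl
  have h𝔣𝔮 : 𝔣 ≤ 𝔮 := fun z hz => by
    have h := Ideal.mem_map_of_mem (algebraMap P Pp) hz
    rw [hmap, hspan] at h
    obtain ⟨u, hu, huz⟩ := (IsLocalization.algebraMap_mem_map_algebraMap_iff 𝔭.primeCompl Pp _ z).1 h
    have h' : u * z ∈ 𝔮 := Ideal.span_le.2 (by rintro _ ⟨j, rfl⟩; exact hf𝔮 j) huz
    exact (Ideal.IsPrime.mem_or_mem inferInstance h').resolve_left fun hu' => hu (h𝔮𝔭 hu')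
  have hdim : ringKrullDim (P ⧸ 𝔮) = n := by
    rw [← hn]
    refine ringKrullDim_eq_of_ringEquiv ((Ideal.quotEquivOfEq ?_).trans (RingHom.quotientKerEquivOfSurjective
      (f := (Ideal.Quotient.mk q).comp (algebraMap P A)) (Ideal.Quotient.mk_surjective.comp hsurj)))
    rw [← RingHom.comap_ker, Ideal.mk_ker]
  have hsum := dim_quotient_add_height hcov 𝔮
  rw [hdim] at hsum
  refine ⟨fun hmn => ?_, fun hgen => ?_⟩
  · have heq : 𝔣 = 𝔮 := by
      rcases eq_or_lt_of_le h𝔣𝔮 with h | h
      · exact h
      · exfalso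
        have hlt := Ideal.height_strict_mono_of_isPrime_of_isPrime h
        have h1 : (𝔣.height : WithBot ℕ∞) = (𝔮.height : WithBot ℕ∞) := by
          rw [hht]
          have hne : 𝔮.height ≠ ⊤ := Ideal.height_ne_top (Ideal.IsPrime.ne_top inferInstance)
          obtain ⟨h0, hh0⟩ := ENat.ne_top_iff_exists.1 hne
          rw [← hh0] at hsum ⊢
          have : n + h0 = s := by exact_mod_cast hsum
          exact_mod_cast (show m = h0 by omega)
        exact hlt.ne (WithBot.coe_injective h1)
    refine le_antisymm ?_ ?_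
    · refine le_of_le_of_eq (Ideal.map_mono fun z hz => ?_) hmap
      rw [heq, Ideal.mem_comap, RingHom.mem_ker.1 hz]
      exact zero_mem _
    · rw [Ideal.span_le]
      rintro _ ⟨j, rfl⟩
      exact Ideal.mem_map_of_mem _ (hf j)
  · have hker : RingHom.ker (algebraMap P A) ≤ 𝔣 := fun z hz => by
      have h := Ideal.mem_map_of_mem (algebraMap P Pp) hz
      rw [hgen, hspan] at h
      obtain ⟨u, hu, huz⟩ := (IsLocalization.algebraMap_mem_map_algebraMap_iff 𝔭.primeCompl Pp _ z).1 h
      have h' : u * z ∈ 𝔣 := Ideal.span_le.2 (by rintro _ ⟨j, rfl⟩; exact hf𝔣 j) huz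
      exact (Ideal.IsPrime.mem_or_mem inferInstance h').resolve_left fun hu' => hu (h𝔣𝔭 hu')
    have hle : 𝔣.map (algebraMap P A) ≤ q :=
      (Ideal.map_mono h𝔣𝔮).trans Ideal.map_comap_le
    haveI : (𝔣.map (algebraMap P A)).IsPrime := Ideal.map_isPrime_of_surjective hsurj hker
    have heq : 𝔣 = 𝔮 := by
      refine le_antisymm h𝔣𝔮 ?_
      have h := Ideal.comap_mono (f := algebraMap P A) (hq.2 ⟨inferInstance, bot_le⟩ hle)
      rwa [Ideal.comap_map_of_surjective _ hsurj, ← RingHom.ker_eq_comap_bot, sup_eq_left.2 hker] at h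
    rw [← heq, hht] at hsum
    have : n + m = s := by exact_mod_cast hsum
    omega

end

/-- Adic formal smoothness passes along isomorphisms of local algebras. -/
theorem adicFS_of_algEquiv {k R S : Type u} [CommRing k] [CommRing R] [CommRing S] [IsLocalRing R] [IsLocalRing S]
    [Algebra k R] [Algebra k S] (E : R ≃ₐ[k] S) (h : CAlgX.IsAdicFormallySmooth k R (maximalIdeal R)) :
    CAlgX.IsAdicFormallySmooth k S (maximalIdeal S) := by
  intro C _ _ J hJ ψ ⟨l, hl⟩
  obtain ⟨χ, hχ⟩ := h C J hJ (ψ.comp E.toAlgHom) ⟨l, fun x hx => hl _ (by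
    have h := Ideal.mem_map_of_mem E.toRingEquiv.toRingHom hx
    rw [Ideal.map_pow] at h
    haveI : IsLocalHom E.toRingEquiv.toRingHom := IsLocalHom.of_surjective _ E.surjective
    exact Ideal.pow_right_mono (IsLocalRing.map_maximalIdeal_le E.toRingEquiv.toRingHom) l h)⟩
  refine ⟨χ.comp E.symm.toAlgHom, AlgHom.ext fun z => ?_⟩
  exact (AlgHom.congr_fun hχ (E.symm z)).trans (congrArg ψ (E.apply_symm_apply z))

/-- The localisation of a quotient presentation is the localisation at the point. -/
theorem exists_algEquiv_localization {k P A : Type u} [CommRing k] [CommRing P] [CommRing A] [Algebra k P] [Algebra k A]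
    [Algebra P A] [IsScalarTower k P A] (hsurj : Function.Surjective (algebraMap P A)) (p : Ideal A) [p.IsPrime]
    [((p.comap (algebraMap P A)).map (Ideal.Quotient.mk (RingHom.ker (algebraMap P A)))).IsPrime] :
    Nonempty (Localization.AtPrime ((p.comap (algebraMap P A)).map (Ideal.Quotient.mk (RingHom.ker (algebraMap P A))))
      ≃ₐ[k] Localization.AtPrime p) := by
  let q := RingHom.ker (algebraMap P A)
  let 𝔭 := p.comap (algebraMap P A)
  have hq : q ≤ 𝔭 := fun x hx => by rw [Ideal.mem_comap, RingHom.mem_ker.1 hx]; exact zero_mem _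
  let e : (P ⧸ q) ≃+* A := RingHom.quotientKerEquivOfSurjective hsurj
  let B := Localization.AtPrime (𝔭.map (Ideal.Quotient.mk q))
  let Ap := Localization.AtPrime p
  have hH : (𝔭.map (Ideal.Quotient.mk q)).primeCompl.map e.toMonoidHom = p.primeCompl := by
    ext a
    constructor
    · rintro ⟨z, hz, rfl⟩ ha
      obtain ⟨z, rfl⟩ := Ideal.Quotient.mk_surjective z
      exact hz (Ideal.mem_map_of_mem _ (Ideal.mem_comap.2 ha))
    · intro ha
      obtain ⟨g, rfl⟩ := hsurj a
      refine ⟨Ideal.Quotient.mk q g, fun h => ha ?_, rfl⟩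
      show g ∈ 𝔭
      rw [SetLike.mem_coe, Ideal.mem_map_iff_of_surjective _ Ideal.Quotient.mk_surjective] at h
      obtain ⟨g', hg', hgg'⟩ := h
      rw [Ideal.Quotient.eq] at hgg'
      have h0 := sub_mem hg' (hq hgg')
      rwa [sub_sub_cancel] at h0
  let E := IsLocalization.ringEquivOfRingEquiv B Ap e hH
  have hEk : ∀ c : k, E (algebraMap k B c) = algebraMap k Ap c := fun c => by
    rw [IsScalarTower.algebraMap_apply k (P ⧸ q) B, IsLocalization.ringEquivOfRingEquiv_eq,
      IsScalarTower.algebraMap_apply k A Ap, IsScalarTower.algebraMap_apply k P A]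
    rfl
  exact ⟨AlgEquiv.ofRingEquiv (f := E) hEk⟩

end CKaehlerLib
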