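import Groth.Agent.CKaehlerLib.BaseField
import Groth.Agent.CKaehlerLib.Points
import Groth.Agent.CKaehlerLib.Normalize
import Groth.Agent.S2471
import Groth.Agent.CohenLib.DerExt
import Groth.Agent.PerfectFieldLib.FormallySmooth
import Groth.Agent.GRingLib.Radical

/-!
# Regularity after completed base change
-/

set_option autoImplicit false
set_option linter.style.haveILetI false
set_option maxHeartbeats 1000000
set_option synthInstance.maxHeartbeats 200000

universe u

open IsLocalRing Groth.Agent TensorProduct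

namespace CKaehlerLib

attribute [local instance] Algebra.TensorProduct.rightAlgebra

/-- Derivations of a perfect field extend to every extension field. -/
theorem exists_extend_of_perfectField (k L : Type u) [Field k] [PerfectField k] [Field L] [Algebra k L]
    (D : Derivation ℤ k L) : ∃ D' : Derivation ℤ L L, ∀ c, D' (algebraMap k L c) = D c := by
  haveI := PerfectFieldLib.formallySmooth_of_perfectField k L
  let σ : k →+* TrivSqZeroExt L L :=
    { toFun := fun c => TrivSqZeroExt.inl (algebraMap k L c) + TrivSqZeroExt.inr (D c)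
      map_one' := by ext <;> simp
      map_mul' := fun a b => by
        ext <;> simp [mul_comm]
        all_goals simp only [Algebra.smul_def]
        all_goals ring
      map_zero' := by ext <;> simp
      map_add' := fun a b => by ext <;> simp }
  letI : Algebra k (TrivSqZeroExt L L) := σ.toAlgebra
  let J : Ideal (TrivSqZeroExt L L) := RingHom.ker (TrivSqZeroExt.fstHom L L L).toRingHom
  have hJ : J ^ 2 = ⊥ := by
    rw [eq_bot_iff, pow_two, Ideal.mul_le]
    intro y hy z hz
    rw [Ideal.mem_bot]
    have hy' : y.fst = 0 := hy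
    have hz' : z.fst = 0 := hz
    ext <;> simp [hy', hz']
  let ψ : L →ₐ[k] TrivSqZeroExt L L ⧸ J :=
    { (Ideal.Quotient.mk J).comp (TrivSqZeroExt.inlHom L L) with
      commutes' := fun c => by
        show Ideal.Quotient.mk J (TrivSqZeroExt.inl (algebraMap k L c)) = Ideal.Quotient.mk J (σ c)
        rw [Ideal.Quotient.eq]
        show (TrivSqZeroExt.inl (algebraMap k L c) - σ c).fst = 0
        simp [σ] }
  obtain ⟨χ, hχ⟩ := Algebra.FormallySmooth.comp_surjective k L J hJ ψ
  have hfst : ∀ a, (χ a).fst = a := fun a => by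
    have h := AlgHom.congr_fun hχ a
    change Ideal.Quotient.mk J (χ a) = Ideal.Quotient.mk J (TrivSqZeroExt.inl a) at h
    rw [Ideal.Quotient.eq] at h
    exact sub_eq_zero.1 (by simpa [J, RingHom.mem_ker] using h)
  refine ⟨NagataLib.mkDerTo (AddMonoidHom.mk' (fun a => (χ a).snd) fun a b => by
    rw [map_add, TrivSqZeroExt.snd_add]) fun a b => ?_, fun c => ?_⟩
  · show (χ (a * b)).snd = a • (χ b).snd + b • (χ a).snd
    rw [map_mul, TrivSqZeroExt.snd_mul, hfst, hfst, op_smul_eq_smul, smul_eq_mul, smul_eq_mul]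
  · show (χ (algebraMap k L c)).snd = _
    rw [χ.commutes]
    show (σ c).snd = _
    simp [σ]

/-- Over a perfect field regular local algebras are formally smooth. -/
theorem adicFS_of_perfect {k A : Type u} [Field k] [PerfectField k] [CommRing A] [Algebra k A]
    [IsRegularLocalRing A] : CAlgX.IsAdicFormallySmooth k A (maximalIdeal A) := by
  refine Groth.Agent.S2471.result.2 ⟨inferInstance, (CohenLib.injective_lTensor_iff ℤ k A (ResidueField A)).2 fun D => ?_⟩
  obtain ⟨D', hD'⟩ := exists_extend_of_perfectField k (ResidueField A) D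
  refine ⟨NagataLib.mkDerTo (D'.toLinearMap.toAddMonoidHom.comp (residue A).toAddMonoidHom) fun a b => ?_, fun c => ?_⟩
  · show D' (residue A (a * b)) = a • D' (residue A b) + b • D' (residue A a)
    rw [map_mul, Derivation.leibniz]
    rfl
  · show D' (residue A (algebraMap k A c)) = D c
    exact hD' c

/-- The cover property for targets separated for the maximal ideal. -/
theorem derivation_ext_cover {k P : Type u} [Field k] [CommRing P] [IsLocalRing P] [IsNoetherianRing P] [Algebra k P]
    [Module.Finite k (ResidueField P)] {s : ℕ} {Y : Fin s → P} {D : Fin s → Derivation k P P}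
    (hcov : IsCover k P Y D) {N : Type u} [AddCommGroup N] [Module P N] [Module k N] [IsScalarTower k P N]
    (hN : ∀ x : N, (∀ j, x ∈ (maximalIdeal P ^ j • ⊤ : Submodule P N)) → x = 0)
    (δ : Derivation k P N) (h : ∀ i, δ (Y i) = 0) : δ = 0 := by
  classical
  have hpow : ∀ (j : ℕ) (x : P), x ∈ maximalIdeal P ^ (j + 1) → δ x ∈ maximalIdeal P ^ j • (⊤ : Submodule P N) := by
    intro j
    induction j with
    | zero => intro x _; simp
    | succ j ih =>
      intro x hx
      rw [pow_succ] at hx
      refine Submodule.mul_induction_on hx (fun a ha b hb => ?_) fun a b ha hb => by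
        rw [map_add]; exact add_mem ha hb
      rw [Derivation.leibniz]
      refine add_mem (Submodule.smul_mem_smul ha trivial) ?_
      rw [pow_succ', Submodule.mul_smul]
      exact Submodule.smul_mem_smul hb (ih a ha)
  refine Derivation.ext fun x => hN _ fun j => ?_
  let δj : Derivation k P (N ⧸ (maximalIdeal P ^ j • ⊤ : Submodule P N)) :=
    (maximalIdeal P ^ j • ⊤ : Submodule P N).mkQ.compDer δ
  haveI : Module.Finite k (P ⧸ maximalIdeal P ^ (j + 1)) :=
    finite_of_pow_maximal_killed (P := k) (R := P) (j + 1) _ (by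
      rw [eq_bot_iff]
      refine Submodule.smul_le.2 fun a ha z _ => ?_
      obtain ⟨z, rfl⟩ := Ideal.Quotient.mk_surjective z
      rw [Submodule.mem_bot, Algebra.smul_def, Ideal.Quotient.algebraMap_eq, ← map_mul,
        Ideal.Quotient.eq_zero_iff_mem]
      exact Ideal.mul_mem_right _ _ ha)
  obtain ⟨r, c, hc⟩ := Module.Finite.exists_fin (R := k) (M := P ⧸ maximalIdeal P ^ (j + 1))
  choose a ha using fun i => Ideal.Quotient.mk_surjective (c i)
  let W : Submodule P (N ⧸ (maximalIdeal P ^ j • ⊤ : Submodule P N)) := Submodule.span P (Set.range fun i => δj (a i))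
  haveI : Module.Finite P W := Module.Finite.span_of_finite P (Set.finite_range _)
  have hW : ∀ y, δj y ∈ W := fun y => by
    obtain ⟨co, hco⟩ := (Submodule.mem_span_range_iff_exists_fun k).1
      (hc.ge (Submodule.mem_top (x := Ideal.Quotient.mk (maximalIdeal P ^ (j + 1)) y)))
    have hy : y - ∑ i, co i • a i ∈ maximalIdeal P ^ (j + 1) := by
      rw [← Ideal.Quotient.eq, ← hco, map_sum]
      refine Finset.sum_congr rfl fun i _ => ?_
      rw [← ha]
      rfl
    have h0 : δj (y - ∑ i, co i • a i) = 0 := (Submodule.Quotient.mk_eq_zero _).2 (hpow j _ hy)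
    rw [map_sub, sub_eq_zero] at h0
    rw [h0, map_sum]
    refine Submodule.sum_mem _ fun i _ => ?_
    rw [Derivation.map_smul]
    exact W.smul_of_tower_mem _ (Submodule.subset_span ⟨i, rfl⟩)
  let δW : Derivation k P W := Derivation.mk' (LinearMap.codRestrict (W.restrictScalars k) δj.toLinearMap hW)
    fun u v => Subtype.ext (δj.leibniz u v)
  have h1 := Derivation.congr_fun (hcov.2.2 W δW fun i => Subtype.ext (show δj (Y i) = 0 by
    show (maximalIdeal P ^ j • ⊤ : Submodule P N).mkQ (δ (Y i)) = 0
    rw [h i, map_zero])) x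
  exact (Submodule.Quotient.mk_eq_zero _).1 (congrArg Subtype.val h1)

section BaseChange

variable {k P k' : Type u} [Field k] [CommRing P] [Algebra k P] [Field k'] [Algebra k k'] (I : Ideal (P ⊗[k] k'))

/-- A derivation extends to the completed base change, killing the extension field. -/
theorem exists_derivation_baseChange (D : Derivation k P P) :
    ∃ D' : Derivation ℤ (AdicCompletion I (P ⊗[k] k')) (AdicCompletion I (P ⊗[k] k')),
      (∀ a, D' (algebraMap (P ⊗[k] k') _ (a ⊗ₜ[k] 1)) = algebraMap (P ⊗[k] k') _ (D a ⊗ₜ[k] 1)) ∧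
      ∀ c : k', D' (algebraMap (P ⊗[k] k') _ ((1 : P) ⊗ₜ[k] c)) = 0 := by
  let f := D.toLinearMap.rTensor k'
  have hf : ∀ a b, f (a * b) = a * f b + b * f a := by
    intro a b
    induction a using TensorProduct.induction_on with
    | zero => simp
    | add x y hx hy => simp only [add_mul, map_add, hx, hy, mul_add]; abel
    | tmul x l =>
      induction b using TensorProduct.induction_on with
      | zero => simp
      | add u v hu hv => simp only [mul_add, map_add, hu, hv, add_mul]; abel
      | tmul u v =>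
        simp only [f, Algebra.TensorProduct.tmul_mul_tmul, LinearMap.rTensor_tmul, Derivation.coeFn_coe,
          Derivation.leibniz, smul_eq_mul, TensorProduct.add_tmul]
        rw [mul_comm v l]
  obtain ⟨Dh, hDh⟩ := GRingLib.exists_derivation_completion (P ⊗[k] k') I (NagataLib.mkDer f.toAddMonoidHom hf)
  refine ⟨Dh, fun a => (hDh _).trans (congrArg _ ?_), fun c => (hDh _).trans ?_⟩
  · exact LinearMap.rTensor_tmul _ _ _ _
  · rw [← map_zero (algebraMap (P ⊗[k] k') (AdicCompletion I (P ⊗[k] k')))]
    refine congrArg _ ?_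
    show f ((1 : P) ⊗ₜ[k] c) = 0
    simp [f]

variable [IsLocalRing P] [IsNoetherianRing P] (hI : I = (maximalIdeal P).map (algebraMap P (P ⊗[k] k')))

include hI

/-- Completed base change preserves adic formal smoothness. -/
theorem adicFS_baseChange (hP : CAlgX.IsAdicFormallySmooth k P (maximalIdeal P))
    (M : MaximalSpectrum (AdicCompletion I (P ⊗[k] k')))
    [IsLocalHom (algebraMap P (Localization.AtPrime M.asIdeal))] :
    CAlgX.IsAdicFormallySmooth k' (Localization.AtPrime M.asIdeal) (maximalIdeal (Localization.AtPrime M.asIdeal)) := by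
  classical
  let T := P ⊗[k] k'
  let CT := AdicCompletion I (P ⊗[k] k')
  let L := Localization.AtPrime M.asIdeal
  intro C _ _ Jc hJ ψ ⟨l, hl⟩
  letI : Algebra k C := ((algebraMap k' C).comp (algebraMap k k')).toAlgebra
  haveI : IsScalarTower k k' C := IsScalarTower.of_algebraMap_eq fun _ => rfl
  let ι : T →+* L := (algebraMap CT L).comp (algebraMap T CT)
  have hιP : ∀ a, ι (a ⊗ₜ[k] 1) = algebraMap P L a := fun a => by
    show algebraMap CT L (algebraMap T CT (a ⊗ₜ[k] 1)) = _
    rw [IsScalarTower.algebraMap_apply P CT L, algebraMap_completion (A := P) (T := P ⊗[k] k') I a]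
    rfl
  have hιk : ∀ c : k', ι ((1 : P) ⊗ₜ[k] c) = algebraMap k' L c := fun c => by
    show algebraMap CT L (algebraMap T CT ((1 : P) ⊗ₜ[k] c)) = _
    rw [IsScalarTower.algebraMap_apply k' CT L, IsScalarTower.algebraMap_apply k' T CT]
    rfl
  let ψ₀ : P →ₐ[k] C ⧸ Jc :=
    { ψ.toRingHom.comp (algebraMap P L) with
      commutes' := fun c => by
        show ψ (algebraMap P L (algebraMap k P c)) = algebraMap k (C ⧸ Jc) c
        rw [← hιP, show (algebraMap k P c) ⊗ₜ[k] (1 : k') = (1 : P) ⊗ₜ[k] algebraMap k k' c by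
          rw [Algebra.algebraMap_eq_smul_one, Algebra.algebraMap_eq_smul_one, TensorProduct.smul_tmul],
          hιk, AlgHom.commutes, ← IsScalarTower.algebraMap_apply k k' (C ⧸ Jc)] }
  have hmap : ∀ (j : ℕ) (a : P), a ∈ maximalIdeal P ^ j → algebraMap P L a ∈ maximalIdeal L ^ j := fun j a ha => by
    have h := Ideal.mem_map_of_mem (algebraMap P L) ha
    rw [Ideal.map_pow] at h
    exact Ideal.pow_right_mono (IsLocalRing.map_maximalIdeal_le (algebraMap P L)) j h
  obtain ⟨χ₀, hχ₀⟩ := hP C Jc hJ ψ₀ ⟨l, fun a ha => hl _ (hmap l a ha)⟩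
  have hmod : ∀ a, Ideal.Quotient.mk Jc (χ₀ a) = ψ (algebraMap P L a) := fun a => AlgHom.congr_fun hχ₀ a
  let χ₁ : T →ₐ[k] C := Algebra.TensorProduct.lift χ₀ (IsScalarTower.toAlgHom k k' C) fun _ _ => Commute.all _ _
  have hlift : ∀ a c, χ₁ (a ⊗ₜ[k] c) = χ₀ a * algebraMap k' C c := fun a c =>
    Algebra.TensorProduct.lift_tmul χ₀ (IsScalarTower.toAlgHom k k' C) (fun _ _ => Commute.all _ _) a c
  have hkill : I ^ (l + l) ≤ RingHom.ker χ₁.toRingHom := by
    rw [hI, ← Ideal.map_pow, Ideal.map_le_iff_le_comap, pow_add, Ideal.mul_le]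
    intro a ha b hb
    show χ₁ (algebraMap P T (a * b)) = 0
    have hmem : ∀ x ∈ maximalIdeal P ^ l, χ₀ x ∈ Jc := fun x hx => by
      rw [← Ideal.Quotient.eq_zero_iff_mem, hmod]
      exact hl _ (hmap l x hx)
    have h2 : χ₀ (a * b) ∈ Jc ^ 2 := by
      rw [map_mul, pow_two]
      exact Ideal.mul_mem_mul (hmem a ha) (hmem b hb)
    rw [hJ, Ideal.mem_bot] at h2
    show χ₁ ((a * b) ⊗ₜ[k] (1 : k')) = 0
    rw [hlift, h2, zero_mul]
  let σ : CT →+* C := (Ideal.Quotient.lift (I ^ (l + l)) χ₁.toRingHom hkill).comp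
    (AdicCompletion.evalₐ I (l + l)).toRingHom
  have hσ : ∀ t, σ (algebraMap T CT t) = χ₁ t := fun t => by
    show Ideal.Quotient.lift (I ^ (l + l)) χ₁.toRingHom hkill (AdicCompletion.evalₐ I (l + l) (algebraMap T CT t)) = _
    rw [AlgHom.commutes]
    rfl
  have hagreeT : ∀ t, Ideal.Quotient.mk Jc (χ₁ t) = ψ (ι t) := by
    intro t
    induction t using TensorProduct.induction_on with
    | zero => simp
    | add x y hx hy => simp only [map_add, hx, hy]
    | tmul a c =>
      rw [show a ⊗ₜ[k] c = (a ⊗ₜ[k] (1 : k')) * ((1 : P) ⊗ₜ[k] c) by simp, map_mul, map_mul, map_mul, map_mul, hιP, hιk,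
        AlgHom.commutes, ← hmod]
      simp [hlift]
  have hagree : ∀ y, Ideal.Quotient.mk Jc (σ y) = ψ (algebraMap CT L y) := by
    intro y
    obtain ⟨t, ht⟩ := Ideal.Quotient.mk_surjective (AdicCompletion.evalₐ I (l + l) y)
    have hd : y - algebraMap T CT t ∈ (I ^ (l + l)).map (algebraMap T CT) := by
      have h0 : AdicCompletion.eval I T (l + l) (y - algebraMap T CT t) = 0 := by
        have h : AdicCompletion.evalₐ I (l + l) (y - algebraMap T CT t) = 0 := by
          rw [map_sub, AlgHom.commutes, sub_eq_zero]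
          exact ht.symm
        exact (Ideal.quotientEquivAlgOfEq T (show (I ^ (l + l) • ⊤ : Ideal T) = I ^ (l + l) by
          rw [smul_eq_mul, Ideal.mul_top])).injective (h.trans (map_zero _).symm)
      rw [← LinearMap.mem_ker, ← AdicCompletion.pow_smul_top_eq_ker_eval (fg_map_maximal I hI),
        Ideal.smul_top_eq_map] at h0
      exact h0
    have h1 : σ y = σ (algebraMap T CT t) := by
      show Ideal.Quotient.lift (I ^ (l + l)) χ₁.toRingHom hkill (AdicCompletion.evalₐ I (l + l) y) = _
      rw [hσ, ← ht]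
      rfl
    have h2 : algebraMap CT L (y - algebraMap T CT t) ∈ maximalIdeal L ^ l := by
      have h := Ideal.mem_map_of_mem (algebraMap CT L) hd
      rw [Ideal.map_map, Ideal.map_pow] at h
      refine Ideal.pow_le_pow_right (Nat.le_add_right l l) (Ideal.pow_right_mono ?_ _ h)
      rw [show I.map ((algebraMap CT L).comp (algebraMap T CT)) = ((maximalIdeal P).map (algebraMap P T)).map
        ((algebraMap CT L).comp (algebraMap T CT)) from congrArg (fun J : Ideal T => J.map ((algebraMap CT L).comp (algebraMap T CT))) hI,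
        Ideal.map_map]
      refine le_of_eq_of_le ?_ (IsLocalRing.map_maximalIdeal_le (algebraMap P L))
      exact congrArg (fun f => Ideal.map f (maximalIdeal P)) (RingHom.ext hιP)
    have h3 := hl _ h2
    rw [map_sub, map_sub, sub_eq_zero] at h3
    rw [h1, hσ, hagreeT, h3]
    rfl
  have hunit : ∀ u : M.asIdeal.primeCompl, IsUnit (σ u) := fun u => by
    have h : IsUnit (Ideal.Quotient.mk Jc (σ u)) := by
      rw [hagree]
      exact (IsLocalization.map_units L u).map ψ
    haveI : IsLocalHom (Ideal.Quotient.mk Jc) :=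
      isLocalHom_of_le_jacobson_bot Jc (fun z hz => Ideal.mem_jacobson_bot.2 fun y => by
        refine IsNilpotent.isUnit_add_one (Commute.isNilpotent_mul_right (Commute.all _ _) ⟨2, ?_⟩)
        have := Ideal.pow_mem_pow hz 2
        rwa [hJ, Ideal.mem_bot] at this)
    exact isUnit_of_map_unit (Ideal.Quotient.mk Jc) _ h
  let σL : L →+* C := IsLocalization.lift hunit
  let χ : L →ₐ[k'] C :=
    { σL with
      commutes' := fun c => by
        show σL (algebraMap k' L c) = algebraMap k' C c
        rw [← hιk]
        show σL (algebraMap CT L (algebraMap T CT ((1 : P) ⊗ₜ[k] c))) = _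
        rw [IsLocalization.lift_eq, hσ, hlift, map_one, one_mul] }
  refine ⟨χ, AlgHom.coe_ringHom_injective (IsLocalization.ringHom_ext M.asIdeal.primeCompl (RingHom.ext fun y => ?_))⟩
  show Ideal.Quotient.mk Jc (σL (algebraMap CT L y)) = ψ (algebraMap CT L y)
  rw [IsLocalization.lift_eq, hagree]

end BaseChange

end CKaehlerLib
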