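import Groth.Agent.CompleteLib.Basic
import Mathlib.RingTheory.AdicCompletion.Functoriality
import Mathlib.RingTheory.AdicCompletion.Completeness
import Mathlib.RingTheory.Kaehler.Basic
import Mathlib.LinearAlgebra.TensorProduct.Quotient
import Mathlib.RingTheory.EssentialFiniteness
import Mathlib.RingTheory.LocalRing.ResidueField.Basic

/-!
# Completed modules of differentials
-/

set_option autoImplicit false
set_option linter.style.haveILetI false

universe u v w

open IsLocalRing TensorProduct

namespace CKaehlerLib

section Module

variable {B : Type u} [CommRing B] (I : Ideal B) {M : Type v} [AddCommGroup M] [Module B M]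

/-- Over a complete ring a module which is finite modulo `I` maps onto its completion. -/
theorem of_surjective_of_finite [IsAdicComplete I B] [Module.Finite B (M ⧸ (I • ⊤ : Submodule B M))] :
    Function.Surjective (AdicCompletion.of I M) := by
  obtain ⟨r, s, hs⟩ := Module.Finite.exists_fin (R := B) (M := M ⧸ (I • ⊤ : Submodule B M))
  choose x hx using fun i => Submodule.mkQ_surjective (I • ⊤ : Submodule B M) (s i)
  let f : (Fin r → B) →ₗ[B] M := Fintype.linearCombination B x
  have hf : Function.Surjective ((I • ⊤ : Submodule B M).mkQ ∘ₗ f) := by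
    rw [← LinearMap.range_eq_top, LinearMap.range_comp, Fintype.range_linearCombination, Submodule.map_span,
      ← Set.range_comp]
    rw [show (I • ⊤ : Submodule B M).mkQ ∘ x = s from funext hx]
    exact hs
  intro y
  obtain ⟨y', rfl⟩ := AdicCompletion.map_surjective_of_mkQ_comp_surjective hf y
  haveI := CompleteLib.isPrecomplete_pi (I := I) r
  obtain ⟨b, rfl⟩ := AdicCompletion.of_surjective I (Fin r → B) y'
  exact ⟨f b, (AdicCompletion.map_of I f b).symm⟩

/-- The completion of such a module is finite. -/
theorem finite_completion [IsAdicComplete I B] [Module.Finite B (M ⧸ (I • ⊤ : Submodule B M))] :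
    Module.Finite B (AdicCompletion I M) := by
  obtain ⟨r, s, hs⟩ := Module.Finite.exists_fin (R := B) (M := M ⧸ (I • ⊤ : Submodule B M))
  choose x hx using fun i => Submodule.mkQ_surjective (I • ⊤ : Submodule B M) (s i)
  let f : (Fin r → B) →ₗ[B] M := Fintype.linearCombination B x
  have hf : Function.Surjective ((I • ⊤ : Submodule B M).mkQ ∘ₗ f) := by
    rw [← LinearMap.range_eq_top, LinearMap.range_comp, Fintype.range_linearCombination, Submodule.map_span,
      ← Set.range_comp]
    rw [show (I • ⊤ : Submodule B M).mkQ ∘ x = s from funext hx]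
    exact hs
  refine Module.Finite.of_surjective ((AdicCompletion.of I M).comp f) fun y => ?_
  obtain ⟨y', rfl⟩ := AdicCompletion.map_surjective_of_mkQ_comp_surjective hf y
  haveI := CompleteLib.isPrecomplete_pi (I := I) r
  obtain ⟨b, rfl⟩ := AdicCompletion.of_surjective I (Fin r → B) y'
  exact ⟨b, (AdicCompletion.map_of I f b).symm⟩

/-- Linear maps to complete modules extend to the completion. -/
theorem exists_lift {N : Type w} [AddCommGroup N] [Module B N] [IsAdicComplete I N] (f : M →ₗ[B] N) :
    ∃ g : AdicCompletion I M →ₗ[B] N, ∀ x, g (AdicCompletion.of I M x) = f x :=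
  ⟨(AdicCompletion.ofLinearEquiv I N).symm.toLinearMap ∘ₗ (AdicCompletion.map I f).restrictScalars B, fun x => by
    show (AdicCompletion.ofLinearEquiv I N).symm (AdicCompletion.map I f (AdicCompletion.of I M x)) = f x
    rw [AdicCompletion.map_of, AdicCompletion.ofLinearEquiv_symm_of]⟩

end Module

section Kaehler

variable (A : Type u) {B : Type u} [CommRing A] [CommRing B] [Algebra A B] (𝔫 : Ideal B)

/-- Finiteness of differentials modulo an ideal. -/
theorem finite_kaehler_mod [Module.Finite (B ⧸ 𝔫) (Ω[B ⧸ 𝔫⁄A])] [Module.Finite (B ⧸ 𝔫) 𝔫.Cotangent] :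
    Module.Finite B ((Ω[B⁄A]) ⧸ (𝔫 • ⊤ : Submodule B (Ω[B⁄A]))) := by
  let B₀ := B ⧸ 𝔫
  have hk : RingHom.ker (algebraMap B B₀) = 𝔫 := Ideal.mk_ker
  haveI : Module.Finite B B₀ := Module.Finite.of_surjective (Algebra.linearMap B B₀) Ideal.Quotient.mk_surjective
  haveI : Module.Finite B (Ω[B ⧸ 𝔫⁄A]) := Module.Finite.trans B₀ _
  haveI : Module.Finite B 𝔫.Cotangent := Module.Finite.trans B₀ _
  haveI : Module.Finite B (RingHom.ker (algebraMap B B₀)).Cotangent := by rw [hk]; infer_instance
  have hex := KaehlerDifferential.exact_kerCotangentToTensor_mapBaseChange A B B₀ Ideal.Quotient.mk_surjective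
  let g := (KaehlerDifferential.mapBaseChange A B B₀).restrictScalars B
  haveI : Module.Finite B (LinearMap.range ((KaehlerDifferential.kerCotangentToTensor A B B₀))) :=
    Module.Finite.range _
  have hle : LinearMap.range (KaehlerDifferential.kerCotangentToTensor A B B₀) = LinearMap.ker g :=
    SetLike.ext fun z => (hex z).symm
  haveI : Module.Finite B (LinearMap.ker g) := Module.Finite.equiv (LinearEquiv.ofEq _ _ hle)
  have hg : Function.Surjective g :=
    KaehlerDifferential.mapBaseChange_surjective A B B₀ Ideal.Quotient.mk_surjective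
  haveI : Module.Finite B ((B₀ ⊗[B] Ω[B⁄A]) ⧸ LinearMap.ker g) :=
    Module.Finite.equiv (g.quotKerEquivOfSurjective hg).symm
  haveI : Module.Finite B (B₀ ⊗[B] Ω[B⁄A]) := Module.Finite.of_submodule_quotient (LinearMap.ker g)
  exact Module.Finite.equiv (TensorProduct.quotTensorEquivQuotSMul (Ω[B⁄A]) 𝔫)

end Kaehler

section Local

variable (k : Type u) (A : Type u) [CommRing k] [CommRing A] [IsLocalRing A] [IsNoetherianRing A] [Algebra k A]

/-- Differentials modulo the maximal ideal are finite for residue fields essentially of finite type. -/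
theorem finite_kaehler_mod_maximal [Algebra.EssFiniteType k (ResidueField A)] :
    Module.Finite A ((Ω[A⁄k]) ⧸ (maximalIdeal A • ⊤ : Submodule A (Ω[A⁄k]))) := by
  haveI : Module.Finite (A ⧸ maximalIdeal A) (Ω[A ⧸ maximalIdeal A⁄k]) :=
    (inferInstance : Module.Finite (ResidueField A) (Ω[ResidueField A⁄k]))
  haveI : Module.Finite A (maximalIdeal A).Cotangent :=
    Module.Finite.of_surjective (maximalIdeal A).toCotangent (Ideal.toCotangent_surjective _)
  haveI : Module.Finite (A ⧸ maximalIdeal A) (maximalIdeal A).Cotangent := Module.Finite.of_restrictScalars_finite A _ _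
  exact finite_kaehler_mod k (maximalIdeal A)

variable [Algebra.EssFiniteType k (ResidueField A)] [IsAdicComplete (maximalIdeal A) A]

/-- The completed differentials are finite. -/
theorem finite_completedKaehler : Module.Finite A (AdicCompletion (maximalIdeal A) (Ω[A⁄k])) :=
  haveI := finite_kaehler_mod_maximal k A
  finite_completion (maximalIdeal A)

/-- Differentials map onto their completion. -/
theorem of_kaehler_surjective : Function.Surjective (AdicCompletion.of (maximalIdeal A) (Ω[A⁄k])) :=
  haveI := finite_kaehler_mod_maximal k A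
  of_surjective_of_finite (maximalIdeal A)

/-- The universal derivation of the completed differentials. -/
noncomputable def dHat : Derivation k A (AdicCompletion (maximalIdeal A) (Ω[A⁄k])) :=
  (AdicCompletion.of (maximalIdeal A) (Ω[A⁄k])).compDer (KaehlerDifferential.D k A)

omit [IsNoetherianRing A] [Algebra.EssFiniteType k (ResidueField A)] [IsAdicComplete (maximalIdeal A) A] in
theorem dHat_apply (a : A) :
    dHat k A a = AdicCompletion.of (maximalIdeal A) (Ω[A⁄k]) (KaehlerDifferential.D k A a) := rfl

/-- The completed differentials are generated by differentials. -/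
theorem span_dHat : Submodule.span A (Set.range (dHat k A)) = ⊤ := by
  have h : Set.range (dHat k A) =
      AdicCompletion.of (maximalIdeal A) (Ω[A⁄k]) '' Set.range (KaehlerDifferential.D k A) := by
    rw [← Set.range_comp]
    rfl
  rw [h, Submodule.span_image, KaehlerDifferential.span_range_derivation, Submodule.map_top,
    LinearMap.range_eq_top.2 (of_kaehler_surjective k A)]

/-- Linear maps out of the completed differentials are determined by differentials. -/
theorem hom_ext {N : Type v} [AddCommGroup N] [Module A N] {f g : AdicCompletion (maximalIdeal A) (Ω[A⁄k]) →ₗ[A] N}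
    (h : ∀ a, f (dHat k A a) = g (dHat k A a)) : f = g :=
  LinearMap.ext_on_range (span_dHat k A) h

omit [Algebra.EssFiniteType k (ResidueField A)] in
/-- Derivations into finite modules factor through the completed differentials. -/
theorem exists_hom {N : Type u} [AddCommGroup N] [Module A N] [Module k N] [IsScalarTower k A N] [Module.Finite A N]
    (δ : Derivation k A N) :
    ∃ g : AdicCompletion (maximalIdeal A) (Ω[A⁄k]) →ₗ[A] N, ∀ a, g (dHat k A a) = δ a := by
  haveI : IsAdicComplete (maximalIdeal A) N := CompleteLib.isAdicComplete_of_finite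
  obtain ⟨g, hg⟩ := exists_lift (maximalIdeal A) δ.liftKaehlerDifferential
  exact ⟨g, fun a => (hg _).trans (δ.liftKaehlerDifferential_comp_D a)⟩

end Local

end CKaehlerLib
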