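import Groth.Agent.CKaehlerLib.Basic
import Groth.Agent.CompleteLib.CompletionHom
import Groth.Agent.CohenLib.FlatUnramified
import Groth.Agent.CohenLib.PSHom
import Groth.Agent.AdicFSLib.CompletionFG
import Groth.Agent.GRingLib.Radical
import Groth.Agent.NagataLib.Extend
import Groth.Agent.NagataLib.Criterion
import Groth.Agent.S2476
import Mathlib.Algebra.MvPolynomial.PDeriv
import Mathlib.RingTheory.Smooth.Basic

/-!
# Complete regular covers with dual derivations
-/

set_option autoImplicit false
set_option linter.style.haveILetI false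
set_option maxHeartbeats 1000000
set_option synthInstance.maxHeartbeats 200000

universe u

open IsLocalRing Groth.Agent

namespace CKaehlerLib

/-- Coordinates on a complete algebra with dual derivations, dense and adically formally smooth. -/
def IsCover (k P : Type u) [Field k] [CommRing P] [IsLocalRing P] [Algebra k P] {s : ℕ} (Y : Fin s → P)
    (D : Fin s → Derivation k P P) : Prop :=
  CAlgX.IsAdicFormallySmooth k P (maximalIdeal P) ∧ (∀ i j, D i (Y j) = if i = j then 1 else 0) ∧
    ∀ (M : Type u) [AddCommGroup M] [Module P M] [Module k M] [IsScalarTower k P M] [Module.Finite P M]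
      (δ : Derivation k P M), (∀ i, δ (Y i) = 0) → δ = 0

/-- A derivation with values in a finite module killing a dense subring is zero. -/
theorem derivation_ext_of_dense {k S P : Type u} [CommRing k] [CommRing S] [CommRing P] [IsLocalRing P]
    [IsNoetherianRing P] [Algebra k P] [Algebra S P]
    (hdense : ∀ (n : ℕ) (x : P), ∃ a : S, x - algebraMap S P a ∈ maximalIdeal P ^ n)
    {N : Type u} [AddCommGroup N] [Module P N] [Module k N] [IsScalarTower k P N] [Module.Finite P N]
    (δ : Derivation k P N) (h : ∀ a : S, δ (algebraMap S P a) = 0) : δ = 0 := by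
  have hpow : ∀ (M : ℕ) (x : P), x ∈ maximalIdeal P ^ (M + 1) → δ x ∈ maximalIdeal P ^ M • (⊤ : Submodule P N) := by
    intro M
    induction M with
    | zero => intro x _; simp
    | succ M ih =>
      intro x hx
      rw [pow_succ] at hx
      refine Submodule.mul_induction_on hx (fun a ha b hb => ?_) fun a b ha hb => by
        rw [map_add]; exact add_mem ha hb
      rw [Derivation.leibniz]
      refine add_mem (Submodule.smul_mem_smul ha trivial) ?_
      rw [pow_succ', Submodule.mul_smul]
      exact Submodule.smul_mem_smul hb (ih a ha)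
  refine Derivation.ext fun x => ?_
  have hmem : δ x ∈ ⨅ M : ℕ, maximalIdeal P ^ M • (⊤ : Submodule P N) := by
    rw [Submodule.mem_iInf]
    intro M
    obtain ⟨a, ha⟩ := hdense (M + 1) x
    have h1 := hpow M _ ha
    rwa [map_sub, h, sub_zero] at h1
  rw [Ideal.iInf_pow_smul_eq_bot_of_isLocalRing _ (maximalIdeal.isMaximal P).ne_top, Submodule.mem_bot] at hmem
  exact hmem

/-- A derivation over the base extends to the completion of a localisation. -/
theorem exists_derivation_cover {k S₀ : Type u} [CommRing k] [CommRing S₀] [Algebra k S₀] (M : Submonoid S₀)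
    (S : Type u) [CommRing S] [Algebra S₀ S] [IsLocalization M S] [Algebra k S] [IsScalarTower k S₀ S] (I : Ideal S)
    (d : Derivation k S₀ S₀) :
    ∃ D : Derivation k (AdicCompletion I S) (AdicCompletion I S),
      ∀ z, D (algebraMap S (AdicCompletion I S) (algebraMap S₀ S z)) =
        algebraMap S (AdicCompletion I S) (algebraMap S₀ S (d z)) := by
  obtain ⟨d₁, hd₁⟩ := GRingLib.exists_derivation_localization M S
    (NagataLib.mkDer d.toLinearMap.toAddMonoidHom d.leibniz)
  obtain ⟨d₂, hd₂⟩ := GRingLib.exists_derivation_completion S I d₁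
  have hd : ∀ z, d₂ (algebraMap S (AdicCompletion I S) (algebraMap S₀ S z)) =
      algebraMap S (AdicCompletion I S) (algebraMap S₀ S (d z)) := fun z => by
    rw [hd₂, hd₁]
    rfl
  have hk : ∀ c, d₂ (algebraMap k (AdicCompletion I S) c) = 0 := fun c => by
    rw [IsScalarTower.algebraMap_apply k S (AdicCompletion I S), IsScalarTower.algebraMap_apply k S₀ S, hd,
      Derivation.map_algebraMap, map_zero, map_zero]
  exact ⟨Derivation.mk'
    { toFun := fun z => d₂ z
      map_add' := fun a b => map_add d₂ a b
      map_smul' := fun c a => by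
        rw [Algebra.smul_def, Derivation.leibniz, hk, smul_zero, add_zero, smul_eq_mul, RingHom.id_apply,
          Algebra.smul_def] } fun a b => d₂.leibniz a b, hd⟩

/-- Every complete local algebra with finitely generated residue extension is a quotient of a cover. -/
theorem exists_cover (k A : Type u) [Field k] [CommRing A] [IsLocalRing A] [IsNoetherianRing A] [Algebra k A]
    [IsAdicComplete (maximalIdeal A) A] [Module.Finite k (ResidueField A)] :
    ∃ (P : Type u) (_ : CommRing P) (_ : IsLocalRing P) (_ : IsNoetherianRing P) (_ : Algebra k P)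
      (_ : IsAdicComplete (maximalIdeal P) P) (π : P →ₐ[k] A) (s : ℕ) (Y : Fin s → P)
      (D : Fin s → Derivation k P P), Function.Surjective π ∧ IsCover k P Y D ∧ Module.Finite k (ResidueField P) := by
  classical
  obtain ⟨s₁, c, hc⟩ := Module.Finite.exists_fin (R := k) (M := ResidueField A)
  obtain ⟨s₂, m, hm⟩ := Submodule.fg_iff_exists_fin_generating_family.1 (IsNoetherian.noetherian (maximalIdeal A))
  choose a ha using fun j => residue_surjective (R := A) (c j)
  let y : Fin (s₁ + s₂) → A := Fin.append a m
  let S₀ := MvPolynomial (Fin (s₁ + s₂)) k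
  let ev : S₀ →ₐ[k] A := MvPolynomial.aeval y
  let M : Ideal S₀ := RingHom.ker ((residue A).comp ev.toRingHom)
  have hsurj : Function.Surjective ((residue A).comp ev.toRingHom) := fun z => by
    obtain ⟨b, rfl⟩ := (Submodule.mem_span_range_iff_exists_fun k).1 (hc.ge (Submodule.mem_top (x := z)))
    refine ⟨∑ j, b j • MvPolynomial.X (Fin.castAdd s₂ j), ?_⟩
    rw [map_sum]
    refine Finset.sum_congr rfl fun j _ => ?_
    show residue A (ev (b j • MvPolynomial.X (Fin.castAdd s₂ j))) = _
    rw [map_smul, MvPolynomial.aeval_X, Algebra.smul_def, map_mul,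
      show y (Fin.castAdd s₂ j) = a j from Fin.append_left _ _ j, ha, Algebra.smul_def]
    rfl
  haveI hM : M.IsMaximal := RingHom.ker_isMaximal_of_surjective _ hsurj
  let S := Localization.AtPrime M
  have hunit : ∀ z : M.primeCompl, IsUnit (ev.toRingHom z) := fun z => by
    by_contra h
    exact z.2 (RingHom.mem_ker.2 ((residue_eq_zero_iff _).2 h))
  let θ : S →+* A := IsLocalization.lift hunit
  have hθ : ∀ z, θ (algebraMap S₀ S z) = ev z := fun z => IsLocalization.lift_eq hunit z
  have hθm : (maximalIdeal S).map θ ≤ maximalIdeal A := by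
    rw [← IsLocalization.AtPrime.map_eq_maximalIdeal M S, Ideal.map_map, Ideal.map_le_iff_le_comap]
    intro z hz
    rw [Ideal.mem_comap, RingHom.comp_apply, hθ]
    exact (residue_eq_zero_iff _).1 hz
  haveI : IsNoetherianRing S := IsLocalization.isNoetherianRing M.primeCompl S inferInstance
  obtain ⟨_, _, _, hmax, hres⟩ := CohenLib.completion_facts S (maximalIdeal S) (maximalIdeal.isMaximal S).ne_top
  let P := AdicCompletion (maximalIdeal S) S
  haveI : IsAdicComplete (maximalIdeal P) P := by
    rw [← hmax]
    exact (IsAdicComplete.map_algebraMap_iff _ _).2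
      (AdicCompletion.isAdicComplete (M := S) (IsNoetherian.noetherian _))
  let π₀ : P →+* A := CompleteLib.completionLift (maximalIdeal S) (maximalIdeal A) θ hθm
  have hπ₀ : ∀ z, π₀ (algebraMap S P z) = θ z := CompleteLib.completionLift_algebraMap _ _ θ hθm
  let π : P →ₐ[k] A :=
    { π₀ with
      commutes' := fun c => by
        show π₀ (algebraMap k P c) = _
        rw [IsScalarTower.algebraMap_apply k S P, hπ₀, IsScalarTower.algebraMap_apply k S₀ S, hθ, AlgHom.commutes] }
  have hπX : ∀ i, π₀ (algebraMap S P (algebraMap S₀ S (MvPolynomial.X i))) = y i := fun i => by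
    rw [hπ₀, hθ, MvPolynomial.aeval_X]
  -- surjectivity
  have hXmem : ∀ j, algebraMap S P (algebraMap S₀ S (MvPolynomial.X (Fin.natAdd s₁ j))) ∈ maximalIdeal P := fun j => by
    rw [← hmax]
    refine Ideal.mem_map_of_mem _ ?_
    rw [← IsLocalization.AtPrime.map_eq_maximalIdeal M S]
    refine Ideal.mem_map_of_mem _ (RingHom.mem_ker.2 ?_)
    show residue A (ev (MvPolynomial.X (Fin.natAdd s₁ j))) = 0
    rw [MvPolynomial.aeval_X, residue_eq_zero_iff, show y (Fin.natAdd s₁ j) = m j from Fin.append_right _ _ j]
    exact hm.le (Submodule.subset_span ⟨j, rfl⟩)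
  have hmap : (maximalIdeal P).map π₀ = maximalIdeal A := by
    refine le_antisymm ?_ ?_
    · rw [← hmax, Ideal.map_map]
      refine le_trans ?_ hθm
      rw [show π₀.comp (algebraMap S P) = θ from RingHom.ext hπ₀]
    · refine hm.ge.trans (Submodule.span_le.2 ?_)
      rintro _ ⟨j, rfl⟩
      rw [SetLike.mem_coe, show m j = y (Fin.natAdd s₁ j) from (Fin.append_right a m j).symm, ← hπX]
      exact Ideal.mem_map_of_mem _ (hXmem j)
  have hπsurj : Function.Surjective π := CohenLib.surjective_of_complete (I := maximalIdeal A) (maximalIdeal P) π₀ hmap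
    fun r => by
      obtain ⟨z, hz⟩ := hsurj (residue A r)
      refine ⟨algebraMap S P (algebraMap S₀ S z), ?_⟩
      rw [hπ₀, hθ, ← residue_eq_zero_iff, map_sub, sub_eq_zero]
      exact hz.symm
  -- formal smoothness
  have hfs : CAlgX.IsAdicFormallySmooth k P (maximalIdeal P) := by
    rw [← hmax]
    refine (AdicFSLib.adicFS_completion_iff (maximalIdeal S) (IsNoetherian.noetherian _)).1 ?_
    haveI : Algebra.FormallySmooth k S :=
      haveI : Algebra.FormallySmooth S₀ S := Algebra.FormallySmooth.of_isLocalization M.primeCompl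
      Algebra.FormallySmooth.comp k S₀ S
    intro C _ _ J hJ ψ _
    exact Algebra.FormallySmooth.comp_surjective k S J hJ ψ
  -- derivations
  have hD : ∀ i, ∃ D : Derivation k P P, ∀ j,
      D (algebraMap S P (algebraMap S₀ S (MvPolynomial.X j))) = if i = j then 1 else 0 := by
    intro i
    obtain ⟨D, hD⟩ := exists_derivation_cover M.primeCompl S (maximalIdeal S) (MvPolynomial.pderiv i)
    refine ⟨D, fun j => ?_⟩
    rw [hD, MvPolynomial.pderiv_X]
    by_cases h : i = j <;> simp [h, Pi.single_apply, eq_comm]
  choose D hD using hD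
  -- density
  have hdense : ∀ (n : ℕ) (x : P), ∃ z : S, x - algebraMap S P z ∈ maximalIdeal P ^ n := fun n x => by
    rw [← hmax]
    exact AdicFSLib.exists_sub_mem_map_pow (maximalIdeal S) (IsNoetherian.noetherian _) n x
  refine ⟨P, inferInstance, inferInstance, inferInstance, inferInstance, inferInstance, π, s₁ + s₂,
    fun j => algebraMap S P (algebraMap S₀ S (MvPolynomial.X j)), D, hπsurj, ⟨hfs, hD, fun N _ _ _ _ _ δ hδ => ?_⟩, ?_⟩
  · have h0 : ∀ z : S₀, δ (algebraMap S P (algebraMap S₀ S z)) = 0 := fun z => by
      induction z using MvPolynomial.induction_on with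
      | C c =>
        rw [show (MvPolynomial.C c : S₀) = algebraMap k S₀ c from rfl, ← IsScalarTower.algebraMap_apply k S₀ S,
          ← IsScalarTower.algebraMap_apply k S P, Derivation.map_algebraMap]
      | add f g hf hg => rw [map_add, map_add, map_add, hf, hg, add_zero]
      | mul_X f i hf => rw [map_mul, map_mul, Derivation.leibniz, hf, hδ, smul_zero, smul_zero, add_zero]
    refine derivation_ext_of_dense (S := S) hdense δ fun z => ?_
    obtain ⟨z, u, rfl⟩ := IsLocalization.exists_mk'_eq M.primeCompl z
    have h1 := congrArg (fun w => δ (algebraMap S P w)) (IsLocalization.mk'_spec S z u)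
    simp only [map_mul, Derivation.leibniz, h0, smul_zero, zero_add] at h1
    exact ((IsLocalization.map_units S u).map (algebraMap S P)).smul_eq_zero.1 h1
  · haveI : IsLocalHom π₀ := IsLocalHom.of_surjective _ hπsurj
    let e : ResidueField P →ₗ[k] ResidueField A :=
      { toFun := ResidueField.map π₀
        map_add' := map_add _
        map_smul' := fun c x => by
          obtain ⟨x, rfl⟩ := residue_surjective x
          show residue A (π (c • x)) = c • residue A (π x)
          rw [map_smul]
          rfl }
    exact Module.Finite.of_injective e (ResidueField.map π₀).injective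

end CKaehlerLib
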