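import Mathlib.RingTheory.LocalRing.Module
import Mathlib.RingTheory.Support
import Mathlib.LinearAlgebra.Dual.Lemmas
import Mathlib.LinearAlgebra.TensorProduct.RightExactness
import Mathlib.RingTheory.TensorProduct.Basic

/-!
# Ranks of fibres of finite modules
-/

set_option autoImplicit false
set_option linter.style.haveILetI false

universe u v

open TensorProduct

namespace CKaehlerLib

variable {A : Type u} [CommRing A] (M : Type v) [AddCommGroup M] [Module A M] [Module.Finite A M]

/-- The rank of the fibre of a finite module can only drop under generalisation. -/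
theorem finrank_fibre_le (q p : Ideal A) [q.IsPrime] [p.IsPrime] (hqp : q ≤ p) :
    Module.finrank q.ResidueField (q.ResidueField ⊗[A] M) ≤ Module.finrank p.ResidueField (p.ResidueField ⊗[A] M) := by
  classical
  let kp := p.ResidueField
  let kq := q.ResidueField
  obtain ⟨n, g, hg⟩ := Module.Finite.exists_fin (R := A) (M := M)
  have hspan : Submodule.span kp (Set.range fun i => (1 : kp) ⊗ₜ[A] g i) = ⊤ := by
    have h := Submodule.baseChange_span (R := A) (A := kp) (M := M) (Set.range g)
    rw [hg, Submodule.baseChange_top, ← Set.range_comp] at h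
    exact h.symm
  obtain ⟨κ, σ, -, hσspan, hσli⟩ := exists_linearIndependent' kp fun i => (1 : kp) ⊗ₜ[A] g i
  haveI : Finite κ := hσli.finite
  haveI : Fintype κ := Fintype.ofFinite κ
  let b := Module.Basis.mk hσli (by rw [hσspan, hspan])
  let m : κ → M := fun i => g (σ i)
  have hrank : Module.finrank kp (kp ⊗[A] M) = Fintype.card κ := Module.finrank_eq_card_basis b
  let φ : (κ → A) →ₗ[A] M := Fintype.linearCombination A m
  let C := M ⧸ LinearMap.range φ
  have hcp : ¬ Nontrivial (kp ⊗[A] C) := by
    rw [not_nontrivial_iff_subsingleton, subsingleton_iff_forall_eq 0]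
    intro z
    obtain ⟨y, rfl⟩ := LinearMap.lTensor_surjective kp (LinearMap.range φ).mkQ_surjective z
    have hy : y ∈ Submodule.span kp (Set.range b) := b.span_eq ▸ Submodule.mem_top
    induction hy using Submodule.span_induction with
    | mem w hw =>
      obtain ⟨i, rfl⟩ := hw
      rw [Module.Basis.mk_apply, Function.comp_apply, LinearMap.lTensor_tmul,
        show (LinearMap.range φ).mkQ (g (σ i)) = 0 from
          (Submodule.Quotient.mk_eq_zero _).2 ⟨Pi.single i 1, by simp [φ, m]⟩, TensorProduct.tmul_zero]
    | zero => exact map_zero _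
    | add _ _ _ _ ha hb => rw [map_add, ha, hb, add_zero]
    | smul c w _ hw =>
      rw [show (LinearMap.range φ).mkQ.lTensor kp (c • w) = c • (LinearMap.range φ).mkQ.lTensor kp w from
        map_smul ((LinearMap.range φ).mkQ.baseChange kp) c w, hw, smul_zero]
  have hcq : ¬ Nontrivial (kq ⊗[A] C) := fun h => hcp
    ((Module.mem_support_iff_nontrivial_residueField_tensorProduct ⟨p, ‹_›⟩).1
      (Module.mem_support_mono (show (⟨q, ‹_›⟩ : PrimeSpectrum A) ≤ ⟨p, ‹_›⟩ from hqp)
        ((Module.mem_support_iff_nontrivial_residueField_tensorProduct ⟨q, ‹_›⟩).2 h)))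
  rw [not_nontrivial_iff_subsingleton] at hcq
  have hsurj : Function.Surjective (φ.baseChange kq) := fun z => by
    have hex := lTensor_exact kq (LinearMap.exact_map_mkQ_range φ) (LinearMap.range φ).mkQ_surjective
    exact (hex z).1 (Subsingleton.elim _ _)
  haveI : Nontrivial A := RingHom.domain_nontrivial (algebraMap A kq)
  calc Module.finrank kq (kq ⊗[A] M) ≤ Module.finrank kq (kq ⊗[A] (κ → A)) :=
        LinearMap.finrank_le_finrank_of_surjective hsurj
    _ = Fintype.card κ := by rw [Module.finrank_baseChange, Module.finrank_fintype_fun_eq_card]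
    _ = _ := hrank.symm

omit [Module.Finite A M] in
/-- The rank of a fibre counts the linear maps to the field. -/
theorem finrank_fibre_eq_hom {L : Type u} [Field L] [Algebra A L] :
    Module.finrank L (L ⊗[A] M) = Module.finrank L (M →ₗ[A] L) :=
  (Subspace.dual_finrank_eq (K := L) (V := L ⊗[A] M)).symm.trans
    (LinearMap.liftBaseChangeEquiv (R := A) L (M := M) (N := L)).finrank_eq.symm

omit [Module.Finite A M] in
/-- Independent linear maps bound the rank of a fibre from below. -/
theorem card_le_finrank_fibre {L : Type u} [Field L] [Algebra A L] [Module.Finite A M] {n : ℕ}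
    (g : Fin n → (M →ₗ[A] L)) (hg : LinearIndependent L g) : n ≤ Module.finrank L (L ⊗[A] M) := by
  rw [finrank_fibre_eq_hom]
  haveI : Module.Finite L (M →ₗ[A] L) := Module.Finite.equiv (LinearMap.liftBaseChangeEquiv (R := A) L).symm
  simpa using hg.fintype_card_le_finrank

end CKaehlerLib
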