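import Groth.Agent.CKaehlerLib.Unramified
import Groth.Agent.ImperfLib.Tower
import Groth.Agent.NagataLib.Extend
import Groth.Agent.CplExcLib.PSSubring
import Mathlib.RingTheory.Etale.Kaehler

/-!
# Differentials of fraction fields of power series rings
-/

set_option autoImplicit false
set_option linter.style.haveILetI false
set_option maxHeartbeats 1000000

universe u

open IsLocalRing

namespace CKaehlerLib

/-- Power series in `p`-th powers of the variables with coefficients in the `p`-th powers are `p`-th powers. -/
theorem exists_pow_eq_of_mem_psSubring (p : ℕ) [Fact p.Prime] {k : Type u} [Field k] [CharP k p] [ExpChar k p] {n : ℕ}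
    {g : MvPowerSeries (Fin n) k} (hg : g ∈ CplExcLib.psSubring p (frobenius k p).fieldRange) : ∃ h, h ^ p = g := by
  have hp : p ≠ 0 := (Fact.out : p.Prime).ne_zero
  choose a ha using fun J : Fin n →₀ ℕ => RingHom.mem_fieldRange.1 (hg (p • J)).1
  let A₀ : MvPowerSeries (Fin n) k := a
  refine ⟨A₀, ?_⟩
  rw [← MvPowerSeries.map_frobenius_expand p hp]
  refine MvPowerSeries.ext fun I => ?_
  rw [MvPowerSeries.coeff_map]
  by_cases hI : ∀ i, p ∣ I i
  · obtain ⟨J, rfl⟩ : ∃ J : Fin n →₀ ℕ, I = p • J := ⟨Finsupp.equivFunOnFinite.symm fun i => I i / p,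
      Finsupp.ext fun i => by simp [Nat.mul_div_cancel' (hI i)]⟩
    rw [MvPowerSeries.coeff_expand_smul]
    exact ha J
  · push Not at hI
    obtain ⟨i, hi⟩ := hI
    rw [MvPowerSeries.coeff_expand_of_not_dvd p _ _ hi, map_zero]
    by_contra h
    exact hi ((hg I).2 (fun h0 => h h0.symm) i)

/-- Over a field finite over its `p`-th powers, finite algebras over power series have finite differentials. -/
theorem finite_kaehler_of_frobenius (p : ℕ) [Fact p.Prime] {k C : Type u} [Field k] [CharP k p] [ExpChar k p]
    (hk : Module.Finite (frobenius k p).fieldRange k) [CommRing C] [Algebra k C] {n : ℕ}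
    (φ : MvPowerSeries (Fin n) k →ₐ[k] C) (hφ : φ.toRingHom.Finite) : Module.Finite C (Ω[C⁄k]) := by
  classical
  letI : Algebra (MvPowerSeries (Fin n) k) C := φ.toRingHom.toAlgebra
  haveI : Module.Finite (MvPowerSeries (Fin n) k) C := hφ
  haveI : Module.Finite (CplExcLib.psSubring (n := n) p (frobenius k p).fieldRange) (MvPowerSeries (Fin n) k) :=
    CplExcLib.finite_psSubring p _ (Fact.out : p.Prime).pos
  haveI : Module.Finite (CplExcLib.psSubring (n := n) p (frobenius k p).fieldRange) C :=
    Module.Finite.trans (MvPowerSeries (Fin n) k) C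
  obtain ⟨G, hG⟩ := (inferInstance : Module.Finite (CplExcLib.psSubring (n := n) p (frobenius k p).fieldRange) C).fg_top
  refine ⟨⟨G.image (KaehlerDifferential.D k C), eq_top_iff.2 ?_⟩⟩
  rw [← KaehlerDifferential.span_range_derivation, Submodule.span_le]
  rintro _ ⟨a, rfl⟩
  have ha : a ∈ Submodule.span (CplExcLib.psSubring (n := n) p (frobenius k p).fieldRange) (G : Set C) :=
    hG ▸ Submodule.mem_top
  induction ha using Submodule.span_induction with
  | mem z hz => exact Submodule.subset_span (Finset.mem_coe.2 (Finset.mem_image_of_mem _ hz))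
  | zero => rw [map_zero]; exact zero_mem _
  | add _ _ _ _ ha hb => rw [map_add]; exact add_mem ha hb
  | smul g z _ hz =>
    obtain ⟨h, hh⟩ := exists_pow_eq_of_mem_psSubring p g.2
    have hD : KaehlerDifferential.D k C (algebraMap (MvPowerSeries (Fin n) k) C g.1) = 0 := by
      rw [← hh, map_pow, Derivation.leibniz_pow, ← Nat.cast_smul_eq_nsmul k, CharP.cast_eq_zero, zero_smul]
    rw [show g • z = algebraMap (MvPowerSeries (Fin n) k) C g.1 * z from Algebra.smul_def g z, Derivation.leibniz,
      hD, smul_zero, add_zero]
    exact Submodule.smul_mem _ _ hz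

section Frac

variable {k K : Type u} [Field k] [Field K] {n : ℕ} [Algebra (MvPowerSeries (Fin n) k) K]
  [IsFractionRing (MvPowerSeries (Fin n) k) K] [Algebra k K] [IsScalarTower k (MvPowerSeries (Fin n) k) K]

omit [IsFractionRing (MvPowerSeries (Fin n) k) K] in
theorem algebraMap_C (c : k) : algebraMap (MvPowerSeries (Fin n) k) K (MvPowerSeries.C c) = algebraMap k K c := by
  rw [IsScalarTower.algebraMap_apply k (MvPowerSeries (Fin n) k) K, MvPowerSeries.algebraMap_apply]
  rfl

end Frac

/-- The fraction field of a power series ring is separable over the coefficients. -/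
theorem injective_fracPowerSeries {k K : Type u} [Field k] [Field K] (n : ℕ) [Algebra (MvPowerSeries (Fin n) k) K]
    [IsFractionRing (MvPowerSeries (Fin n) k) K] [Algebra k K] [IsScalarTower k (MvPowerSeries (Fin n) k) K] :
    Function.Injective (KaehlerDifferential.mapBaseChange ℤ k K) := by
  refine ImperfLib.injective_mapBaseChange_of_extend k K fun D => ?_
  obtain ⟨D', hD'⟩ := NagataLib.exists_extend (nonZeroDivisors (MvPowerSeries (Fin n) k)) K (L := K)
    (NagataLib.mkDerTo ((algebraMap (MvPowerSeries (Fin n) k) K).toAddMonoidHom.comp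
      (NagataLib.coeffMap D)) fun a b => by
      show algebraMap _ K (NagataLib.coeffMap D (a * b)) = a • algebraMap _ K _ + b • algebraMap _ K _
      rw [NagataLib.coeffMap_mul, map_add, map_mul, map_mul, Algebra.smul_def, Algebra.smul_def])
  refine ⟨D', fun c => ?_⟩
  rw [← algebraMap_C (n := n), hD', ← algebraMap_C (n := n), NagataLib.mkDerTo_apply]
  show algebraMap _ K (NagataLib.coeffMap D (MvPowerSeries.C c)) = _
  congr 1
  classical
  refine MvPowerSeries.ext fun I => ?_
  rw [NagataLib.coeff_coeffMap, MvPowerSeries.coeff_C, MvPowerSeries.coeff_C, apply_ite D, map_zero]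

section Frac

variable {k K : Type u} [Field k] [Field K] {n : ℕ} [Algebra (MvPowerSeries (Fin n) k) K]
  [IsFractionRing (MvPowerSeries (Fin n) k) K] [Algebra k K] [IsScalarTower k (MvPowerSeries (Fin n) k) K]

variable (k K) in
/-- The differentials of the variables are independent. -/
theorem linearIndependent_dX :
    LinearIndependent K fun i : Fin n => KaehlerDifferential.D k K (algebraMap (MvPowerSeries (Fin n) k) K (MvPowerSeries.X i)) := by
  classical
  have hd : ∀ i, ∃ δ : Derivation k K K, ∀ g, δ (algebraMap (MvPowerSeries (Fin n) k) K g) =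
      algebraMap (MvPowerSeries (Fin n) k) K (MvPowerSeries.pderiv k i g) := by
    intro i
    obtain ⟨D', hD'⟩ := NagataLib.exists_extend (nonZeroDivisors (MvPowerSeries (Fin n) k)) K (L := K)
      (NagataLib.mkDerTo ((algebraMap (MvPowerSeries (Fin n) k) K).toAddMonoidHom.comp
        (MvPowerSeries.pderiv k i).toLinearMap.toAddMonoidHom) fun a b => by
        show algebraMap _ K (MvPowerSeries.pderiv k i (a * b)) = a • algebraMap _ K _ + b • algebraMap _ K _
        rw [Derivation.leibniz, smul_eq_mul, smul_eq_mul, map_add, map_mul, map_mul, Algebra.smul_def, Algebra.smul_def]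
        rfl)
    have hk : ∀ c, D' (algebraMap k K c) = 0 := fun c => by
      rw [← algebraMap_C (n := n), hD', NagataLib.mkDerTo_apply]
      show algebraMap _ K (MvPowerSeries.pderiv k i (MvPowerSeries.C c)) = 0
      rw [MvPowerSeries.pderiv_C, map_zero]
    refine ⟨Derivation.mk'
      { toFun := D'
        map_add' := map_add D'
        map_smul' := fun c a => by
          rw [Algebra.smul_def, Derivation.leibniz, hk, smul_zero, add_zero, RingHom.id_apply, smul_eq_mul,
            Algebra.smul_def] } D'.leibniz, fun g => ?_⟩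
    exact (hD' g).trans (NagataLib.mkDerTo_apply _ _ g)
  choose δ hδ using hd
  rw [Fintype.linearIndependent_iff]
  intro c hc j
  have h := congrArg (δ j).liftKaehlerDifferential hc
  simp only [map_sum, map_smul, Derivation.liftKaehlerDifferential_comp_D, hδ, MvPowerSeries.pderiv_X, map_zero] at h
  rw [Finset.sum_eq_single j (fun i _ hi => by simp [Pi.single_apply, hi, Ne.symm hi])
    (fun hn => absurd (Finset.mem_univ j) hn)] at h
  simpa using h

variable (k K) in
/-- If the differentials of power series are finite, those of the fraction field have rank the number of variables. -/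
theorem finrank_kaehler_frac [Module.Finite (MvPowerSeries (Fin n) k) (Ω[MvPowerSeries (Fin n) k⁄k])] :
    Module.Finite K (Ω[K⁄k]) ∧ Module.finrank K (Ω[K⁄k]) = n := by
  classical
  have htop : Submodule.span K (Set.range fun i : Fin n => KaehlerDifferential.D k K
      (algebraMap (MvPowerSeries (Fin n) k) K (MvPowerSeries.X i))) = ⊤ := by
    let W := Submodule.span (MvPowerSeries (Fin n) k)
      (Set.range fun i : Fin n => KaehlerDifferential.D k (MvPowerSeries (Fin n) k) (MvPowerSeries.X i))
    have hW : W = ⊤ := by
      let δ := W.mkQ.compDer (KaehlerDifferential.D k (MvPowerSeries (Fin n) k))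
      have h0 : ∀ g, δ g = 0 := fun g =>
        derivation_algebraMap_eq_zero (A := MvPowerSeries (Fin n) k) δ
          (fun i => (Submodule.Quotient.mk_eq_zero W).2 (Submodule.subset_span ⟨i, rfl⟩)) g
      rw [eq_top_iff, ← KaehlerDifferential.span_range_derivation, Submodule.span_le]
      rintro _ ⟨g, rfl⟩
      exact (Submodule.Quotient.mk_eq_zero W).1 (h0 g)
    have h := span_eq_top_of_isLocalizedModule K (nonZeroDivisors (MvPowerSeries (Fin n) k))
      (KaehlerDifferential.map k k (MvPowerSeries (Fin n) k) K) hW
    rw [← Set.range_comp] at h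
    simpa [Function.comp_def, KaehlerDifferential.map_D] using h
  let b := Module.Basis.mk (linearIndependent_dX k K) htop.ge
  exact ⟨Module.Finite.of_basis b, by rw [Module.finrank_eq_card_basis b, Fintype.card_fin]⟩

end Frac

/-- Differentials of the fraction field of a complete local domain with finite residue extension. -/
theorem fractionField_formula (k C L : Type u) [Field k] [CommRing C] [IsDomain C] [IsNoetherianRing C] [IsLocalRing C]
    [Algebra k C] [IsAdicComplete (maximalIdeal C) C] [Module.Finite k (ResidueField C)] {n : ℕ}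
    (hn : ringKrullDim C = n) [Field L] [Algebra C L] [IsFractionRing C L] [Algebra k L] [IsScalarTower k C L] :
    Module.Finite L (LinearMap.ker (KaehlerDifferential.mapBaseChange ℤ k L)) ∧
      (Module.Finite L (Ω[L⁄k]) →
        n + Module.finrank L (LinearMap.ker (KaehlerDifferential.mapBaseChange ℤ k L)) ≤ Module.finrank L (Ω[L⁄k])) ∧
      (Module.Finite (MvPowerSeries (Fin n) k) (Ω[MvPowerSeries (Fin n) k⁄k]) →
        Module.finrank L (Ω[L⁄k]) = n + Module.finrank L (LinearMap.ker (KaehlerDifferential.mapBaseChange ℤ k L))) := by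
  classical
  obtain ⟨φ, hφinj, hφfin, -⟩ := exists_finite_injective k C n hn
  haveI : IsDomain (MvPowerSeries (Fin n) k) := NoZeroDivisors.to_isDomain _
  letI : Algebra (MvPowerSeries (Fin n) k) C := φ.toRingHom.toAlgebra
  haveI : Module.Finite (MvPowerSeries (Fin n) k) C := hφfin
  letI : Algebra (MvPowerSeries (Fin n) k) L := ((algebraMap C L).comp φ.toRingHom).toAlgebra
  haveI : IsScalarTower (MvPowerSeries (Fin n) k) C L := IsScalarTower.of_algebraMap_eq fun _ => rfl
  haveI : FaithfulSMul (MvPowerSeries (Fin n) k) L :=
    (faithfulSMul_iff_algebraMap_injective (MvPowerSeries (Fin n) k) L).2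
      ((IsFractionRing.injective C L).comp hφinj)
  let K := FractionRing (MvPowerSeries (Fin n) k)
  letI : Algebra K L := FractionRing.liftAlgebra (MvPowerSeries (Fin n) k) L
  haveI : Module.Finite K L :=
    NormalLib.finiteDimensional_fractionRing (R := MvPowerSeries (Fin n) k) (S := C) K L hφinj
  haveI : IsScalarTower k (MvPowerSeries (Fin n) k) L := IsScalarTower.of_algebraMap_eq fun c => by
    show algebraMap k L c = algebraMap C L (φ (algebraMap k (MvPowerSeries (Fin n) k) c))
    rw [φ.commutes, ← IsScalarTower.algebraMap_apply]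
  haveI : IsScalarTower k K L := IsScalarTower.of_algebraMap_eq fun c => by
    rw [IsScalarTower.algebraMap_apply k (MvPowerSeries (Fin n) k) K,
      ← IsScalarTower.algebraMap_apply (MvPowerSeries (Fin n) k) K L, ← IsScalarTower.algebraMap_apply]
  obtain ⟨hU, hd, hf⟩ := ImperfLib.tower_formula k K L (injective_fracPowerSeries (k := k) (K := K) n)
  refine ⟨hU, fun h => ?_, fun h => ?_⟩
  · haveI := hd h
    rw [(hf inferInstance).2, add_le_add_iff_right]
    have h1 := (linearIndependent_dX (n := n) k K).cardinal_lift_le_rank
    have h2 : Module.rank L (TensorProduct K L (Ω[K⁄k])) = Module.rank K (Ω[K⁄k]) := by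
      rw [Module.rank_baseChange, Cardinal.lift_id]
    rw [← h2, ← Module.finrank_eq_rank] at h1
    simp only [Cardinal.mk_fintype, Fintype.card_fin, Cardinal.lift_natCast, Nat.cast_le] at h1
    exact h1
  · obtain ⟨h1, h2⟩ := finrank_kaehler_frac (n := n) k K
    rw [(hf inferInstance).2, Module.finrank_baseChange, h2]

end CKaehlerLib
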