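import Groth.Agent.CKaehlerLib.Presentation
import Groth.Agent.CKaehlerLib.Fibre
import Groth.Agent.CatLib.CM
import Mathlib.RingTheory.LocalRing.Module
import Mathlib.RingTheory.Ideal.Height

/-!
# Points where the Jacobian of the presentation has full rank
-/

set_option autoImplicit false
set_option linter.style.haveILetI false
set_option maxHeartbeats 1000000
set_option synthInstance.maxHeartbeats 200000

universe u

open IsLocalRing Groth.Agent

namespace CKaehlerLib

/-- A Jacobian of full rank bounds the embedding dimension from below. -/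
theorem le_spanFinrank_of_det {R : Type u} [CommRing R] (𝔣 : Ideal R) [𝔣.IsPrime] (Rf : Type u) [CommRing Rf]
    [Algebra R Rf] [IsLocalization.AtPrime Rf 𝔣] [IsLocalRing Rf] [IsNoetherianRing Rf] {m : ℕ}
    (f : Fin m → R) (hf : ∀ j, f j ∈ 𝔣) (d : Fin m → Derivation ℤ R R)
    (hdet : Matrix.det (Matrix.of fun i j => d i (f j)) ∉ 𝔣) :
    m ≤ (maximalIdeal Rf).spanFinrank := by
  classical
  let G := (maximalIdeal Rf).generators
  have hfg : (maximalIdeal Rf).FG := IsNoetherian.noetherian _
  haveI := (Submodule.FG.finite_generators hfg).fintype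
  have hcard : Fintype.card G = (maximalIdeal Rf).spanFinrank := by
    rw [← Submodule.FG.generators_ncard hfg, Set.ncard_eq_toFinset_card', Set.toFinset_card]
  choose d' hd' using fun i => GRingLib.exists_derivation_localization 𝔣.primeCompl Rf (d i)
  have hmem : ∀ j, algebraMap R Rf (f j) ∈ Submodule.span Rf (Set.range fun g : G => (g : Rf)) := fun j => by
    rw [Subtype.range_coe, Submodule.span_generators]
    rw [← IsLocalization.AtPrime.map_eq_maximalIdeal 𝔣 Rf]
    exact Ideal.mem_map_of_mem _ (hf j)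
  choose C hC using fun j => (Submodule.mem_span_range_iff_exists_fun Rf).1 (hmem j)
  let L := ResidueField Rf
  let M₁ : Matrix (Fin m) G L := Matrix.of fun i g => residue Rf (d' i g)
  let M₂ : Matrix G (Fin m) L := Matrix.of fun g j => residue Rf (C j g)
  have hmul : M₁ * M₂ = ((residue Rf).comp (algebraMap R Rf)).mapMatrix (Matrix.of fun i j => d i (f j)) := by
    ext i j
    rw [Matrix.mul_apply, RingHom.mapMatrix_apply, Matrix.map_apply, Matrix.of_apply, RingHom.comp_apply, ← hd', ← hC,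
      map_sum, map_sum]
    refine Finset.sum_congr rfl fun g _ => ?_
    rw [smul_eq_mul, Derivation.leibniz, smul_eq_mul, smul_eq_mul, map_add, map_mul, map_mul,
      (residue_eq_zero_iff _).2 (show (g : Rf) ∈ maximalIdeal Rf from
        (Submodule.span_generators (maximalIdeal Rf)).le (Submodule.subset_span g.2)), zero_mul, add_zero, mul_comm]
    rfl
  have hunit : IsUnit (M₁ * M₂) := by
    rw [hmul, Matrix.isUnit_iff_isUnit_det, ← RingHom.map_det]
    exact ((IsLocalization.map_units Rf (⟨_, hdet⟩ : 𝔣.primeCompl))).map (residue Rf)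
  have h := (Matrix.rank_mul_le_left M₁ M₂).trans (Matrix.rank_le_card_width M₁)
  rw [Matrix.rank_of_isUnit _ hunit, Fintype.card_fin, hcard] at h
  exact h

section Cover

variable {k P : Type u} [Field k] [CommRing P] [IsLocalRing P] [IsNoetherianRing P] [Algebra k P] {s : ℕ}
  {Y : Fin s → P} {D : Fin s → Derivation k P P}

/-- Elements with full Jacobian cut out a prime of the expected height near the point. -/
theorem exists_prime_of_det (hcov : IsCover k P Y D) (𝔭 : Ideal P) [𝔭.IsPrime] {m : ℕ} (σ : Fin m → Fin s)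
    (f : Fin m → P) (hf : ∀ j, f j ∈ 𝔭) (hdet : Matrix.det (Matrix.of fun i j => D (σ i) (f j)) ∉ 𝔭) :
    ∃ 𝔣 : Ideal P, 𝔣.IsPrime ∧ 𝔣 ≤ 𝔭 ∧ (∀ j, f j ∈ 𝔣) ∧ (𝔣.height : WithBot ℕ∞) = m ∧
      𝔣.map (algebraMap P (Localization.AtPrime 𝔭)) =
        Ideal.span (Set.range fun j => algebraMap P (Localization.AtPrime 𝔭) (f j)) := by
  classical
  let q₁ := Ideal.span (Set.range f)
  have hq₁ : q₁ ≤ 𝔭 := Ideal.span_le.2 (by rintro _ ⟨j, rfl⟩; exact hf j)
  haveI : (𝔭.map (Ideal.Quotient.mk q₁)).IsPrime :=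
    Ideal.map_isPrime_of_surjective Ideal.Quotient.mk_surjective (by rwa [Ideal.mk_ker])
  let Pp := Localization.AtPrime 𝔭
  have hgen : q₁.map (algebraMap P Pp) = Ideal.span (Set.range fun j => algebraMap P Pp (f j)) := by
    rw [Ideal.map_span, ← Set.range_comp]
    rfl
  have hB := NagataLib.adicFS_of_hasJacobian q₁ 𝔭 hq₁ (k := k) (Groth.Agent.S4574.result hcov.1 𝔭)
    (fun i => NagataLib.toAbs (D i)) (fun i c => (D i).map_algebraMap c)
    ⟨m, σ, f, fun j => Ideal.subset_span ⟨j, rfl⟩, hgen, hdet⟩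
  haveI hreg : IsRegularLocalRing (Localization.AtPrime (𝔭.map (Ideal.Quotient.mk q₁))) :=
    (Groth.Agent.S2471.result.1 hB).1
  haveI := CommAlgDim.isDomain_of_isRegularLocalRing (Localization.AtPrime (𝔭.map (Ideal.Quotient.mk q₁)))
  obtain ⟨π, hπs, hπk, -⟩ := NagataLib.exists_toQuotient q₁ 𝔭 hq₁
  let I := RingHom.ker π
  haveI : I.IsPrime := RingHom.ker_isPrime π
  have hI : I = Ideal.span (Set.range fun j => algebraMap P Pp (f j)) := hπk.trans hgen
  let 𝔣 := I.comap (algebraMap P Pp)
  have h𝔣map : 𝔣.map (algebraMap P Pp) = I := IsLocalization.map_comap 𝔭.primeCompl Pp I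
  have h𝔣le : 𝔣 ≤ 𝔭 := fun a ha => by
    rw [← IsLocalization.AtPrime.comap_maximalIdeal Pp 𝔭]
    exact le_maximalIdeal (Ideal.IsPrime.ne_top ‹I.IsPrime›) ha
  have hf𝔣 : ∀ j, f j ∈ 𝔣 := fun j => by
    show algebraMap P Pp (f j) ∈ I
    rw [hI]
    exact Ideal.subset_span ⟨j, rfl⟩
  refine ⟨𝔣, inferInstance, h𝔣le, hf𝔣, ?_, h𝔣map.trans hI⟩
  let Pf := Localization.AtPrime 𝔣
  haveI : IsRegularLocalRing Pf := (Groth.Agent.S2471.result.1 (Groth.Agent.S4574.result hcov.1 𝔣)).1
  have hmax : maximalIdeal Pf = Ideal.span (Set.range fun j => algebraMap P Pf (f j)) := by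
    refine le_antisymm ?_ (Ideal.span_le.2 ?_)
    · rw [← IsLocalization.AtPrime.map_eq_maximalIdeal 𝔣 Pf, Ideal.map_le_iff_le_comap]
      intro a ha
      have h : algebraMap P Pp a ∈ q₁.map (algebraMap P Pp) := by rw [← hπk]; exact ha
      obtain ⟨u, hu, hua⟩ := (IsLocalization.algebraMap_mem_map_algebraMap_iff 𝔭.primeCompl Pp q₁ a).1 h
      have h2 := Ideal.mem_map_of_mem (algebraMap P Pf) hua
      rw [Ideal.map_span, ← Set.range_comp, map_mul] at h2
      rw [Ideal.mem_comap]
      exact (Ideal.unit_mul_mem_iff_mem _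
        (IsLocalization.map_units Pf (⟨u, fun h' => hu (h𝔣le h')⟩ : 𝔣.primeCompl))).1 h2
    · rintro _ ⟨j, rfl⟩
      rw [← IsLocalization.AtPrime.map_eq_maximalIdeal 𝔣 Pf]
      exact Ideal.mem_map_of_mem _ (hf𝔣 j)
  rw [← IsLocalization.AtPrime.ringKrullDim_eq_height 𝔣 Pf, ← (isRegularLocalRing_iff Pf).1 inferInstance]
  have h1 : (maximalIdeal Pf).spanFinrank ≤ m := by
    rw [hmax]
    refine (Submodule.spanFinrank_span_le_ncard_of_finite (Set.finite_range _)).trans ?_
    rw [← Set.image_univ]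
    exact (Set.ncard_image_le Set.finite_univ).trans (by simp [Set.ncard_univ])
  have h2 := le_spanFinrank_of_det 𝔣 Pf f hf𝔣 (fun i => NagataLib.toAbs (D (σ i))) fun h => hdet (h𝔣le h)
  rw [le_antisymm h1 h2]

/-- The height of a prime of a cover. -/
theorem dim_quotient_add_height [IsAdicComplete (maximalIdeal P) P] [Module.Finite k (ResidueField P)]
    (hcov : IsCover k P Y D) (𝔮 : Ideal P) [𝔮.IsPrime] :
    ringKrullDim (P ⧸ 𝔮) + (𝔮.height : WithBot ℕ∞) = s := by
  haveI : IsRegularLocalRing P := (Groth.Agent.S2471.result.1 hcov.1).1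
  rw [CatLib.ringKrullDim_quotient_add_height (CommAlgDim.isCM_of_isRegularLocalRing _) 𝔮, dim_eq_of_isCover hcov]

end Cover

section Point

variable {k P : Type u} [Field k] [CommRing P] [IsLocalRing P] [IsNoetherianRing P] [Algebra k P] {s : ℕ}
  {Y : Fin s → P} {D : Fin s → Derivation k P P} {A : Type u} [CommRing A] [IsLocalRing A] [IsNoetherianRing A]
  [Algebra k A] [IsAdicComplete (maximalIdeal A) A] [Algebra P A] [IsScalarTower k P A]
  [Algebra.EssFiniteType k (ResidueField A)]

/-- At a point with generators of full Jacobian the completed differentials are free. -/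
theorem free_of_jacobian (hcov : IsCover k P Y D) (hsurj : Function.Surjective (algebraMap P A)) (p : Ideal A)
    [p.IsPrime] [(p.comap (algebraMap P A)).IsPrime] {m : ℕ} (σ : Fin m → Fin s) (f : Fin m → P)
    (hf : ∀ j, algebraMap P A (f j) = 0)
    (hgen : (RingHom.ker (algebraMap P A)).map (algebraMap P (Localization.AtPrime (p.comap (algebraMap P A)))) =
      Ideal.span (Set.range fun j => algebraMap P (Localization.AtPrime (p.comap (algebraMap P A))) (f j)))
    (hdet : Matrix.det (Matrix.of fun i j => D (σ i) (f j)) ∉ p.comap (algebraMap P A)) :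
    Module.Free (Localization.AtPrime p) (LocalizedModule p.primeCompl (AdicCompletion (maximalIdeal A) (Ω[A⁄k]))) ∧
      Module.finrank (Localization.AtPrime p)
        (LocalizedModule p.primeCompl (AdicCompletion (maximalIdeal A) (Ω[A⁄k]))) + m = s := by
  classical
  obtain ⟨Φ, hΦs, -, hΦk⟩ := exists_presentation A hcov hsurj
  let M := AdicCompletion (maximalIdeal A) (Ω[A⁄k])
  let Ap := Localization.AtPrime p
  let Mp := LocalizedModule p.primeCompl M
  let ι := LocalizedModule.mkLinearMap p.primeCompl M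
  let toAp : P →+* Ap := (algebraMap A Ap).comp (algebraMap P A)
  let ψ : (Fin s → Ap) →ₗ[Ap] Mp := Fintype.linearCombination Ap fun i => ι (Φ (Pi.single i 1))
  have hψ : ∀ w : Fin s → A, ψ (fun i => algebraMap A Ap (w i)) = ι (Φ w) := fun w => by
    conv_rhs => rw [pi_eq_sum_univ' w, map_sum, map_sum]
    rw [Fintype.linearCombination_apply]
    exact Finset.sum_congr rfl fun i _ => by rw [algebraMap_smul, map_smul, map_smul]
  have hψs : Function.Surjective ψ := fun z => by
    induction z using LocalizedModule.induction_on with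
    | h x u =>
      obtain ⟨w, rfl⟩ := hΦs x
      refine ⟨IsLocalization.mk' Ap 1 u • fun i => algebraMap A Ap (w i), ?_⟩
      rw [map_smul, hψ, LocalizedModule.mkLinearMap_apply, ← Localization.mk_eq_mk', LocalizedModule.mk_smul_mk,
        one_smul, mul_one]
  let J : Matrix (Fin s) (Fin m) Ap := Matrix.of fun i j => toAp (D i (f j))
  let N : Matrix (Fin m) (Fin m) Ap := J.submatrix σ id
  have hN : IsUnit N.det := by
    have h : N = toAp.mapMatrix (Matrix.of fun i j => D (σ i) (f j)) := rfl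
    rw [h, ← RingHom.map_det]
    exact IsLocalization.map_units Ap (⟨algebraMap P A _, hdet⟩ : p.primeCompl)
  have hψJ : ∀ c, ψ (J.mulVec c) = 0 := by
    have h0 : ∀ j, ψ (fun i => J i j) = 0 := fun j => by
      rw [show (fun i => J i j) = fun i => algebraMap A Ap (jacobianRow A D (f j) i) from rfl, hψ]
      have h : Φ (jacobianRow A D (f j)) = 0 := by
        rw [← LinearMap.mem_ker, hΦk]
        exact Submodule.subset_span ⟨f j, hf j, rfl⟩
      rw [h, map_zero]
    intro c
    rw [show J.mulVec c = ∑ j, c j • fun i => J i j by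
      funext i
      simp [Matrix.mulVec, dotProduct, Finset.sum_apply, mul_comm], map_sum]
    exact Finset.sum_eq_zero fun j _ => by rw [map_smul, h0, smul_zero]
  have hker : ∀ v, ψ v = 0 → ∃ c, J.mulVec c = v := by
    intro v hv
    obtain ⟨⟨u, hu⟩, hw⟩ := IsLocalization.exist_integer_multiples p.primeCompl Finset.univ v
    choose w hw using fun i => hw i (Finset.mem_univ i)
    have hwv : (fun i => algebraMap A Ap (w i)) = algebraMap A Ap u • v :=
      funext fun i => (hw i).trans (Algebra.smul_def u (v i))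
    have h1 : ι (Φ w) = 0 := by rw [← hψ, hwv, map_smul, hv, smul_zero]
    obtain ⟨⟨u', hu'⟩, h2⟩ := (IsLocalizedModule.eq_zero_iff p.primeCompl ι).1 h1
    have h3 : u' • w ∈ LinearMap.ker Φ := by
      rw [LinearMap.mem_ker, map_smul]
      exact h2
    rw [hΦk] at h3
    have h4 : ∀ y ∈ Submodule.span A (jacobianRow A D '' (RingHom.ker (algebraMap P A) : Set P)),
        ∃ c, J.mulVec c = fun i => algebraMap A Ap (y i) := by
      intro y hy
      induction hy using Submodule.span_induction with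
      | mem y hy =>
        obtain ⟨g, hg, rfl⟩ := hy
        have hg' := Ideal.mem_map_of_mem (algebraMap P (Localization.AtPrime (p.comap (algebraMap P A)))) hg
        rw [hgen, Set.range_comp', ← Ideal.map_span] at hg'
        obtain ⟨a, ha, hag⟩ := (IsLocalization.algebraMap_mem_map_algebraMap_iff
          (p.comap (algebraMap P A)).primeCompl _ _ g).1 hg'
        obtain ⟨c, hc⟩ := Ideal.mem_span_range_iff_exists_fun.1 hag
        obtain ⟨au, hau⟩ := IsLocalization.map_units Ap (⟨algebraMap P A a, ha⟩ : p.primeCompl)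
        refine ⟨fun j => ↑au⁻¹ * toAp (c j), funext fun i => ?_⟩
        have h5 := congrArg (fun z => toAp (D i z)) hc
        have hg0 : toAp g = 0 := by
          rw [RingHom.comp_apply, RingHom.mem_ker.1 hg, map_zero]
        have hf0 : ∀ j, toAp (f j) = 0 := fun j => by rw [RingHom.comp_apply, hf j, map_zero]
        simp only [map_sum, Derivation.leibniz, smul_eq_mul, map_add, map_mul, hg0, hf0, zero_mul, add_zero] at h5
        show ∑ j, toAp (D i (f j)) * (↑au⁻¹ * toAp (c j)) = toAp (D i g)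
        rw [show toAp (D i g) = ↑au⁻¹ * (toAp a * toAp (D i g)) by
          rw [← mul_assoc, show toAp a = (au : Ap) from hau.symm, Units.inv_mul, one_mul], ← h5, Finset.mul_sum]
        exact Finset.sum_congr rfl fun j _ => by ring
      | zero => exact ⟨0, by funext i; simp⟩
      | add y₁ y₂ _ _ h₁ h₂ =>
        obtain ⟨c₁, hc₁⟩ := h₁
        obtain ⟨c₂, hc₂⟩ := h₂
        exact ⟨c₁ + c₂, by rw [Matrix.mulVec_add, hc₁, hc₂]; funext i; simp⟩
      | smul a y _ h =>
        obtain ⟨c, hc⟩ := h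
        exact ⟨algebraMap A Ap a • c, by rw [Matrix.mulVec_smul, hc]; funext i; simp⟩
    obtain ⟨c, hc⟩ := h4 _ h3
    obtain ⟨uu, huu⟩ := IsLocalization.map_units Ap (⟨u' * u, p.primeCompl.mul_mem hu' hu⟩ : p.primeCompl)
    refine ⟨(↑uu⁻¹ : Ap) • c, ?_⟩
    rw [Matrix.mulVec_smul, hc]
    funext i
    have h6 := congrFun hwv i
    simp only [Pi.smul_apply, smul_eq_mul] at h6 ⊢
    rw [map_mul, h6, ← mul_assoc (algebraMap A Ap u'), ← map_mul, ← mul_assoc,
      show algebraMap A Ap (u' * u) = (uu : Ap) from huu.symm, Units.inv_mul, one_mul]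
  -- the complement
  let ρ : (Fin s → Ap) →ₗ[Ap] (Fin m → Ap) := Matrix.mulVecLin N⁻¹ ∘ₗ LinearMap.funLeft Ap Ap σ
  have hρJ : ∀ c, ρ (J.mulVec c) = c := fun c => by
    show N⁻¹.mulVec (N.mulVec c) = c
    rw [Matrix.mulVec_mulVec, Matrix.nonsing_inv_mul N hN, Matrix.one_mulVec]
  let K := LinearMap.ker ρ
  let e : K →ₗ[Ap] Mp := ψ ∘ₗ K.subtype
  have he : Function.Bijective e := by
    refine ⟨(injective_iff_map_eq_zero _).2 fun v hv => ?_, fun z => ?_⟩
    · obtain ⟨c, hc⟩ := hker v.1 hv
      have h := hρJ c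
      rw [hc, LinearMap.mem_ker.1 v.2] at h
      exact Subtype.ext (by rw [← hc, ← h, Matrix.mulVec_zero]; rfl)
    · obtain ⟨v, rfl⟩ := hψs z
      refine ⟨⟨v - J.mulVec (ρ v), by rw [LinearMap.mem_ker, map_sub, hρJ, sub_self]⟩, ?_⟩
      show ψ (v - J.mulVec (ρ v)) = ψ v
      rw [map_sub, hψJ, sub_zero]
  let pr : (Fin s → Ap) →ₗ[Ap] K :=
    LinearMap.codRestrict K (LinearMap.id - Matrix.mulVecLin J ∘ₗ ρ) fun v => by
      rw [LinearMap.mem_ker, LinearMap.sub_apply, map_sub]
      exact sub_eq_zero.2 (hρJ _).symm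
  have hpr : pr ∘ₗ K.subtype = LinearMap.id := LinearMap.ext fun v => Subtype.ext (by
    show v.1 - J.mulVec (ρ v.1) = v.1
    rw [LinearMap.mem_ker.1 v.2, Matrix.mulVec_zero, sub_zero])
  haveI : Module.Projective Ap K := Module.Projective.of_split K.subtype pr hpr
  haveI : Module.Finite Ap K := Module.Finite.of_surjective pr fun v => ⟨v.1, LinearMap.congr_fun hpr v⟩
  haveI : Module.Free Ap K := Module.free_of_flat_of_isLocalRing
  let ek := LinearEquiv.ofBijective e he
  refine ⟨Module.Free.of_equiv ek, ?_⟩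
  rw [← ek.finrank_eq]
  let E : (Fin s → Ap) ≃ₗ[Ap] K × (Fin m → Ap) :=
    LinearEquiv.ofLinearMap (pr.prod ρ) (LinearMap.coprod K.subtype (Matrix.mulVecLin J))
      (LinearMap.ext fun x => by
        have h : ρ (x.1.1 + J.mulVec x.2) = x.2 := by rw [map_add, hρJ, LinearMap.mem_ker.1 x.1.2, zero_add]
        refine Prod.ext (Subtype.ext ?_) h
        show x.1.1 + J.mulVec x.2 - J.mulVec (ρ (x.1.1 + J.mulVec x.2)) = x.1.1
        rw [h, add_sub_cancel_right])
      (LinearMap.ext fun v => by
        show v - J.mulVec (ρ v) + J.mulVec (ρ v) = v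
        rw [sub_add_cancel])
  have h := E.finrank_eq
  rw [Module.finrank_fin_fun, Module.finrank_prod, Module.finrank_fin_fun] at h
  exact h.symm

/-- Formal smoothness at such a point. -/
theorem adicFS_of_jacobian (hcov : IsCover k P Y D) (hsurj : Function.Surjective (algebraMap P A)) (p : Ideal A)
    [p.IsPrime] {m : ℕ} (σ : Fin m → Fin s) (f : Fin m → P) (hf : ∀ j, algebraMap P A (f j) = 0)
    (hgen : (RingHom.ker (algebraMap P A)).map (algebraMap P (Localization.AtPrime (p.comap (algebraMap P A)))) =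
      Ideal.span (Set.range fun j => algebraMap P (Localization.AtPrime (p.comap (algebraMap P A))) (f j)))
    (hdet : Matrix.det (Matrix.of fun i j => D (σ i) (f j)) ∉ p.comap (algebraMap P A)) :
    CAlgX.IsAdicFormallySmooth k (Localization.AtPrime p) (maximalIdeal (Localization.AtPrime p)) := by
  classical
  let q := RingHom.ker (algebraMap P A)
  let 𝔭 := p.comap (algebraMap P A)
  have hq : q ≤ 𝔭 := fun x hx => by rw [Ideal.mem_comap, RingHom.mem_ker.1 hx]; exact zero_mem _
  haveI : (𝔭.map (Ideal.Quotient.mk q)).IsPrime :=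
    Ideal.map_isPrime_of_surjective Ideal.Quotient.mk_surjective (by rwa [Ideal.mk_ker])
  have hB := NagataLib.adicFS_of_hasJacobian q 𝔭 hq (k := k) (Groth.Agent.S4574.result hcov.1 𝔭)
    (fun i => NagataLib.toAbs (D i)) (fun i c => (D i).map_algebraMap c)
    ⟨m, σ, f, fun j => hf j, hgen, hdet⟩
  let e : (P ⧸ q) ≃+* A := RingHom.quotientKerEquivOfSurjective hsurj
  let B := Localization.AtPrime (𝔭.map (Ideal.Quotient.mk q))
  let Ap := Localization.AtPrime p
  have hH : (𝔭.map (Ideal.Quotient.mk q)).primeCompl.map e.toMonoidHom = p.primeCompl := by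
    ext a
    constructor
    · rintro ⟨z, hz, rfl⟩ ha
      obtain ⟨z, rfl⟩ := Ideal.Quotient.mk_surjective z
      exact hz (Ideal.mem_map_of_mem _ (Ideal.mem_comap.2 ha))
    · intro ha
      obtain ⟨g, rfl⟩ := hsurj a
      refine ⟨Ideal.Quotient.mk q g, fun h => ha ?_, rfl⟩
      show g ∈ 𝔭
      rw [SetLike.mem_coe, Ideal.mem_map_iff_of_surjective _ Ideal.Quotient.mk_surjective] at h
      obtain ⟨g', hg', hgg'⟩ := h
      rw [Ideal.Quotient.eq] at hgg'
      have h0 := sub_mem hg' (hq hgg')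
      rwa [sub_sub_cancel] at h0
  let E := IsLocalization.ringEquivOfRingEquiv B Ap e hH
  have hEk : ∀ c : k, E (algebraMap k B c) = algebraMap k Ap c := fun c => by
    rw [IsScalarTower.algebraMap_apply k (P ⧸ q) B, IsLocalization.ringEquivOfRingEquiv_eq,
      IsScalarTower.algebraMap_apply k A Ap, IsScalarTower.algebraMap_apply k P A]
    rfl
  let Ek : B ≃ₐ[k] Ap := AlgEquiv.ofRingEquiv (f := E) hEk
  intro C _ _ J hJ ψ ⟨l, hl⟩
  obtain ⟨χ, hχ⟩ := hB C J hJ (ψ.comp Ek.toAlgHom) ⟨l, fun x hx => hl _ (by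
    have h := Ideal.mem_map_of_mem E.toRingHom hx
    rw [Ideal.map_pow] at h
    haveI : IsLocalHom E.toRingHom := IsLocalHom.of_surjective _ E.surjective
    exact Ideal.pow_right_mono (IsLocalRing.map_maximalIdeal_le E.toRingHom) l h)⟩
  refine ⟨χ.comp Ek.symm.toAlgHom, AlgHom.ext fun z => ?_⟩
  have h := AlgHom.congr_fun hχ (Ek.symm z)
  exact h.trans (congrArg ψ (Ek.apply_symm_apply z))

end Point

end CKaehlerLib
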