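import Groth.Agent.CKaehlerLib.Basic
import Groth.Agent.CKaehlerLib.Fibre
import Groth.Agent.CKaehlerLib.Normalize
import Groth.Agent.NagataLib.SubfieldChoice
import Groth.Agent.NagataLib.Extend
import Groth.Agent.NormalLib.CompleteLocal
import Groth.Agent.NormalLib.Transfer
import Groth.Agent.PerfectFieldLib.FormallySmooth
import Mathlib.RingTheory.MvPowerSeries.Derivative

/-!
# Lower bounds for the rank of the completed differentials
-/

set_option autoImplicit false
set_option linter.style.haveILetI false
set_option maxHeartbeats 1000000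
set_option synthInstance.maxHeartbeats 200000

universe u

open IsLocalRing TensorProduct Groth.Agent MvPowerSeries

namespace CKaehlerLib

section Derivations

variable {k A : Type u} [Field k] [CommRing A] [IsLocalRing A] [IsNoetherianRing A] [Algebra k A]
  [Algebra.EssFiniteType k (ResidueField A)] [IsAdicComplete (maximalIdeal A) A] {L : Type u} [Field L] [Algebra A L]
  [Algebra k L] [IsScalarTower k A L]

omit [Algebra.EssFiniteType k (ResidueField A)] in
/-- A derivation with values in a finite submodule gives a linear map on the completed differentials. -/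
theorem exists_hom_of_bounded (δ : Derivation k A L) (N : Submodule A L) (hN : N.FG) (hδ : ∀ a, δ a ∈ N) :
    ∃ g : AdicCompletion (maximalIdeal A) (Ω[A⁄k]) →ₗ[A] L, ∀ a, g (dHat k A a) = δ a := by
  haveI : Module.Finite A N := Module.Finite.iff_fg.2 hN
  let δN : Derivation k A N := Derivation.mk'
    { toFun := fun a => ⟨δ a, hδ a⟩
      map_add' := fun a b => Subtype.ext (map_add δ a b)
      map_smul' := fun c a => Subtype.ext (δ.map_smul c a) } fun a b => Subtype.ext (δ.leibniz a b)
  obtain ⟨g, hg⟩ := exists_hom k A δN
  exact ⟨N.subtype ∘ₗ g, fun a => congrArg Subtype.val (hg a)⟩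

/-- Independent bounded derivations bound the fibre of the completed differentials from below. -/
theorem card_le_finrank_of_derivations {n : ℕ} (δ : Fin n → Derivation k A L)
    (hfg : ∀ i, ∃ N : Submodule A L, N.FG ∧ ∀ a, δ i a ∈ N)
    (hli : ∀ c : Fin n → L, (∀ a, ∑ i, c i * δ i a = 0) → c = 0) :
    n ≤ Module.finrank L (L ⊗[A] AdicCompletion (maximalIdeal A) (Ω[A⁄k])) := by
  haveI := finite_completedKaehler k A
  choose N hN hδ using hfg
  choose g hg using fun i => exists_hom_of_bounded (δ i) (N i) (hN i) (hδ i)
  refine card_le_finrank_fibre _ g (Fintype.linearIndependent_iff.2 fun c hc i => congrFun (hli c fun a => ?_) i)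
  have h := LinearMap.congr_fun hc (dHat k A a)
  simpa [hg] using h

end Derivations

section CharP

variable (p : ℕ) [Fact p.Prime] {k : Type u} [Field k] [CharP k p] {n : ℕ} {L : Type u} [Field L]
  [Algebra (MvPowerSeries (Fin n) k) L] (K' : Type u) [Field K'] [Algebra (MvPowerSeries (Fin n) k) K']
  [IsFractionRing (MvPowerSeries (Fin n) k) K'] [Algebra K' L] [IsScalarTower (MvPowerSeries (Fin n) k) K' L]
  [FiniteDimensional K' L]

include K' in
/-- A finite extension of the fraction field of a power series ring has many derivations over the `p`-th powers. -/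
theorem exists_pBasis_card_le :
    ∃ T : Set L, T.Finite ∧ EGA41.IsPBasis p (CplExcLib.psSubring (n := n) p (⊤ : Subfield k)) (Subtype.val : T → L) ∧
      n ≤ T.ncard := by
  classical
  let R := MvPowerSeries (Fin n) k
  haveI : IsDomain R := NoZeroDivisors.to_isDomain _
  haveI : CharP R p := charP_of_injective_ringHom (MvPowerSeries.C (σ := Fin n) (R := k)).injective p
  haveI : CharP K' p := charP_of_injective_ringHom (IsFractionRing.injective R K') p
  haveI : CharP L p := charP_of_injective_ringHom (algebraMap K' L).injective p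
  haveI : ExpChar L p := ExpChar.prime (Fact.out : p.Prime)
  let RS := CplExcLib.psSubring (n := n) p (⊤ : Subfield k)
  let KS := Subfield.closure (algebraMap R K' '' (RS : Set R))
  let P := EGA41.pPowerSubalgebra p RS L
  have hpow : ∀ g : R, g ^ p ∈ RS := fun g => CplExcLib.pow_mem_psSubring p ⊤ (fun _ => trivial) g
  have hKP : ∀ a ∈ KS, algebraMap K' L a ∈ P := by
    intro a ha
    induction ha using Subfield.closure_induction with
    | mem x hx =>
      obtain ⟨r, hr, rfl⟩ := hx
      rw [← IsScalarTower.algebraMap_apply]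
      exact P.algebraMap_mem ⟨r, hr⟩
    | one => rw [map_one]; exact one_mem _
    | add _ _ _ _ ha hb => rw [map_add]; exact add_mem ha hb
    | neg _ _ ha => rw [map_neg]; exact neg_mem ha
    | inv x _ ha =>
      rw [map_inv₀]
      exact (Algebra.mem_bot.mp (PBasisLib.inv_mem_of_pPow_le p
        (C := (⊥ : Subalgebra P L)) (Algebra.mem_bot.mpr ⟨⟨_, ha⟩, rfl⟩))).choose_spec ▸ SetLike.coe_mem _
    | mul _ _ _ _ ha hb => rw [map_mul]; exact mul_mem ha hb
  obtain ⟨G, hG⟩ := NagataLib.exists_span_psSubring (k := k) (n := n) p (Fact.out : p.Prime).pos ⊤ (κ := Unit)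
    (fun _ => (1 : k)) fun x => ⟨fun _ => ⟨x, trivial⟩, by simp⟩
  let d := Module.finrank K' L
  let bL := Module.finBasis K' L
  -- a finite set of generators
  let S : Set L := Set.range (fun y => algebraMap R L (G y)) ∪ Set.range bL
  have hgen : EGA41.IsPGenerating p RS (Subtype.val : S → L) := by
    rw [PBasisLib.isPGenerating_iff, Subtype.range_coe, eq_top_iff]
    intro z _
    rw [← bL.sum_repr z]
    refine Subalgebra.sum_mem _ fun i _ => ?_
    obtain ⟨a, b, hb, hab⟩ := IsFractionRing.div_surjective R (bL.repr z i)
    have hb0 : algebraMap R K' b ≠ 0 :=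
      (map_ne_zero_iff _ (IsFractionRing.injective R K')).mpr (nonZeroDivisors.ne_zero hb)
    obtain ⟨c, hc, hcs⟩ := hG (a * b ^ (p - 1))
    have hrew : bL.repr z i = ∑ y, (algebraMap R K' (c y) / algebraMap R K' (b ^ p)) * algebraMap R K' (G y) := by
      simp only [div_mul_eq_mul_div, ← map_mul, ← Finset.sum_div]
      rw [← map_sum, hcs, ← hab, map_pow, map_mul, map_pow, div_eq_div_iff hb0 (pow_ne_zero _ hb0), mul_assoc,
        ← pow_succ, Nat.sub_add_cancel (Fact.out : p.Prime).one_le]
    rw [Algebra.smul_def, hrew, map_sum, Finset.sum_mul]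
    refine Subalgebra.sum_mem _ fun y _ => ?_
    rw [map_mul, ← IsScalarTower.algebraMap_apply R K' L]
    exact mul_mem (mul_mem (Subalgebra.algebraMap_mem _ (⟨_, hKP _ (KS.div_mem (Subfield.subset_closure ⟨_, hc y, rfl⟩)
      (Subfield.subset_closure ⟨_, hpow b, rfl⟩))⟩ : P)) (Algebra.subset_adjoin (Or.inl ⟨y, rfl⟩)))
      (Algebra.subset_adjoin (Or.inr ⟨i, rfl⟩))
  obtain ⟨T, -, hTS, hT⟩ := PBasisLib.exists_pBasis_between (A := RS) p S ∅ (Set.empty_subset _) hgen
    (PBasisLib.setIndep_empty (A := RS) p)
  have hTfin : T.Finite := ((Set.finite_range _).union (Set.finite_range _)).subset hTS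
  refine ⟨T, hTfin, hT, ?_⟩
  haveI : Fintype T := hTfin.fintype
  -- monomials in the variables times a basis are independent
  let a' : (Fin n → Fin p) → (Fin n →₀ ℕ) := fun a => Finsupp.equivFunOnFinite.symm fun i => (a i : ℕ)
  let u : (Fin n → Fin p) × Fin d → L := fun x => algebraMap R L (monomial (a' x.1) (1 : k)) * bL x.2
  have hu : LinearIndependent KS u := by
    rw [Fintype.linearIndependent_iff]
    intro g hg x
    refine Subtype.ext ?_
    have hfrac : ∀ y : KS, ∃ a b : R, a ∈ RS ∧ b ∈ RS ∧ b ≠ 0 ∧ algebraMap R K' a = (y : K') * algebraMap R K' b := by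
      intro y
      obtain ⟨a, ha, b, hb, hy⟩ := Subfield.mem_closure_iff.mp y.2
      rw [show Subring.closure (algebraMap R K' '' (RS : Set R)) = RS.map (algebraMap R K') by
        rw [← RingHom.map_closure, Subring.closure_eq]] at ha hb
      obtain ⟨a, ha', rfl⟩ := ha
      obtain ⟨b, hb', rfl⟩ := hb
      by_cases hb0 : b = 0
      · refine ⟨0, 1, zero_mem _, one_mem _, one_ne_zero, ?_⟩
        rw [← hy, hb0, map_zero, div_zero, zero_mul]
      · refine ⟨a, b, ha', hb', hb0, ?_⟩
        rw [← hy, div_mul_cancel₀]
        exact (map_ne_zero_iff _ (IsFractionRing.injective R K')).mpr hb0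
    choose num den hnum hden hden0 heq using hfrac
    let D : R := ∏ y, den (g y)
    let c : (Fin n → Fin p) → R := fun a => num (g (a, x.2)) * ∏ y ∈ Finset.univ.erase (a, x.2), den (g y)
    have hc : ∀ a, c a ∈ RS := fun a => mul_mem (hnum _) (prod_mem fun y _ => hden _)
    have hcK : ∀ a, algebraMap R K' (c a) = (g (a, x.2) : K') * algebraMap R K' D := fun a => by
      rw [map_mul, heq, mul_assoc, ← map_mul, Finset.mul_prod_erase Finset.univ (fun y => den (g y)) (Finset.mem_univ _)]
    have hsum : ∑ a, (g (a, x.2) : K') * algebraMap R K' (monomial (a' a) (1 : k)) = 0 := by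
      refine Fintype.linearIndependent_iff.mp bL.linearIndependent
        (fun i => ∑ a, (g (a, i) : K') * algebraMap R K' (monomial (a' a) (1 : k))) ?_ x.2
      rw [← hg, Fintype.sum_prod_type_right]
      refine Finset.sum_congr rfl fun i _ => ?_
      rw [Finset.sum_smul]
      refine Finset.sum_congr rfl fun a _ => ?_
      show _ = (g (a, i) : K') • (algebraMap R L (monomial (a' a) (1 : k)) * bL i)
      rw [mul_smul, Algebra.smul_def (algebraMap R K' (monomial (a' a) (1 : k))), ← IsScalarTower.algebraMap_apply]
    have hzero : ∑ a, c a * monomial (a' a) (1 : k) = 0 := IsFractionRing.injective R K' (by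
      rw [map_zero, map_sum, ← mul_zero (algebraMap R K' D), ← hsum, Finset.mul_sum]
      refine Finset.sum_congr rfl fun a _ => ?_
      rw [map_mul, hcK]
      ring)
    have hc0 : c x.1 = 0 := by
      refine MvPowerSeries.ext fun J => ?_
      rw [map_zero]
      by_contra hne
      have hJ := (hc x.1 J).2 hne
      have h := congrArg (coeff (J + a' x.1)) hzero
      rw [map_sum, map_zero, Finset.sum_eq_single x.1] at h
      · rw [coeff_add_mul_monomial, mul_one] at h
        exact hne h
      · intro a _ ha
        rw [coeff_mul_monomial]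
        split_ifs with hle
        · rw [mul_one]
          by_contra hne'
          refine ha (funext fun i => Fin.ext ?_)
          obtain ⟨t, ht⟩ := (hc a _).2 hne' i
          obtain ⟨t', ht'⟩ := hJ i
          have hi : a' a i ≤ (J + a' x.1) i := hle i
          rw [Finsupp.tsub_apply, Finsupp.add_apply] at ht
          rw [Finsupp.add_apply] at hi
          have h1 : a' a i = (a i : ℕ) := rfl
          have h2 : a' x.1 i = (x.1 i : ℕ) := rfl
          rw [h1, h2] at ht hi
          rw [ht'] at ht hi
          have h3 : (a i : ℕ) + p * t = (x.1 i : ℕ) + p * t' := by omega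
          have h4 := congrArg (· % p) h3
          simp only [Nat.add_mul_mod_self_left, Nat.mod_eq_of_lt (a i).2, Nat.mod_eq_of_lt (x.1 i).2] at h4
          exact h4
        · rfl
      · exact fun h' => absurd (Finset.mem_univ _) h'
    have hD : algebraMap R K' D ≠ 0 :=
      (map_ne_zero_iff _ (IsFractionRing.injective R K')).mpr (Finset.prod_ne_zero_iff.mpr fun y _ => hden0 _)
    have h := hcK x.1
    rw [hc0, map_zero, eq_comm, mul_eq_zero, or_iff_left hD] at h
    exact h
  -- monomials in the basis times powers span
  let E := {e : T →₀ ℕ // ∀ i, e i < p}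
  let eT : E ≃ (T → Fin p) :=
    { toFun := fun e i => ⟨e.1 i, e.2 i⟩
      invFun := fun f => ⟨Finsupp.equivFunOnFinite.symm fun i => (f i : ℕ), fun i => (f i).2⟩
      left_inv := fun e => Subtype.ext (Finsupp.ext fun i => rfl)
      right_inv := fun f => rfl }
  letI : Fintype E := Fintype.ofEquiv _ eT.symm
  let w : E × Fin d → L := fun x => bL x.2 ^ p * EGA41.pMonomial (Subtype.val : T → L) x.1.1
  have hKSpow : ∀ x : K', x ^ p ∈ KS := fun x => by
    obtain ⟨a, b, -, rfl⟩ := IsFractionRing.div_surjective R x
    rw [div_pow, ← map_pow, ← map_pow]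
    exact KS.div_mem (Subfield.subset_closure ⟨_, hpow a, rfl⟩) (Subfield.subset_closure ⟨_, hpow b, rfl⟩)
  let W : Submodule KS L := Submodule.span KS (Set.range fun i => bL i ^ p)
  have hWpow : ∀ x : L, x ^ p ∈ W := fun x => by
    rw [← bL.sum_repr x, sum_pow_char p]
    refine Submodule.sum_mem _ fun i _ => ?_
    rw [Algebra.smul_def, mul_pow, ← map_pow, ← Algebra.smul_def]
    exact Submodule.smul_mem _ (⟨_, hKSpow (bL.repr x i)⟩ : KS) (Submodule.subset_span ⟨i, rfl⟩)
  have hWmul : ∀ x ∈ W, ∀ y ∈ W, x * y ∈ W := fun x hx y hy => by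
    induction hx using Submodule.span_induction with
    | mem x hx =>
      induction hy using Submodule.span_induction with
      | mem y hy =>
        obtain ⟨i, rfl⟩ := hx
        obtain ⟨j, rfl⟩ := hy
        rw [← mul_pow]
        exact hWpow _
      | zero => rw [mul_zero]; exact zero_mem _
      | add _ _ _ _ ha hb => rw [mul_add]; exact add_mem ha hb
      | smul c y _ hy => rw [mul_smul_comm]; exact Submodule.smul_mem _ c hy
    | zero => rw [zero_mul]; exact zero_mem _
    | add _ _ _ _ ha hb => rw [add_mul]; exact add_mem ha hb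
    | smul c y _ hy => rw [smul_mul_assoc]; exact Submodule.smul_mem _ c hy
  have hPW : ∀ x ∈ P, x ∈ W := fun x hx => by
    induction hx using Algebra.adjoin_induction with
    | mem _ h => obtain ⟨b, rfl⟩ := h; exact hWpow b
    | algebraMap a =>
      have h := Submodule.smul_mem W (⟨_, Subfield.subset_closure ⟨a.1, a.2, rfl⟩⟩ : KS) (hWpow 1)
      rw [one_pow, Subfield.smul_def, Algebra.smul_def, mul_one, ← IsScalarTower.algebraMap_apply] at h
      exact h
    | add _ _ _ _ ha hb => exact add_mem ha hb
    | mul _ _ _ _ ha hb => exact hWmul _ ha _ hb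
  have hspan : Submodule.span KS (Set.range w) = ⊤ := by
    refine eq_top_iff.mpr fun z _ => ?_
    obtain ⟨c, rfl⟩ := (Submodule.mem_span_range_iff_exists_fun P).mp (hT.2.ge (Submodule.mem_top (x := z)))
    refine Submodule.sum_mem _ fun e _ => ?_
    obtain ⟨g, hg⟩ := (Submodule.mem_span_range_iff_exists_fun KS).mp (hPW _ (c e).2)
    rw [Subalgebra.smul_def, smul_eq_mul, ← hg, Finset.sum_mul]
    refine Submodule.sum_mem _ fun i _ => ?_
    rw [smul_mul_assoc]
    exact Submodule.smul_mem _ _ (Submodule.subset_span ⟨(e, i), rfl⟩)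
  have h := linearIndependent_le_span u hu (Set.range w) hspan
  rw [Cardinal.mk_fintype, Nat.cast_le] at h
  have h2 := h.trans (Fintype.card_range_le _)
  simp only [Fintype.card_prod, Fintype.card_fin, Fintype.card_fun, Fintype.card_congr eT] at h2
  have h3 := Nat.le_of_mul_le_mul_right h2 Module.finrank_pos
  rw [Nat.pow_le_pow_iff_right (Fact.out : p.Prime).one_lt] at h3
  rwa [← Nat.card_coe_set_eq, Nat.card_eq_fintype_card]

end CharP

section Domain

variable {k C : Type u} [Field k] [CommRing C] [IsDomain C] [IsLocalRing C] [IsNoetherianRing C] [Algebra k C]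
  [IsAdicComplete (maximalIdeal C) C] [Module.Finite k (ResidueField C)]

/-- A complete domain has as many independent bounded derivations as its dimension. -/
theorem exists_derivations {n : ℕ} (hn : ringKrullDim C = n) (L : Type u) [Field L] [Algebra C L] [IsFractionRing C L]
    [Algebra k L] [IsScalarTower k C L] :
    ∃ δ : Fin n → Derivation k C L, (∀ i, ∃ N : Submodule C L, N.FG ∧ ∀ a, δ i a ∈ N) ∧
      ∀ c : Fin n → L, (∀ a, ∑ i, c i * δ i a = 0) → c = 0 := by
  classical
  obtain ⟨φ, hφinj, hφfin, -⟩ := exists_finite_injective k C n hn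
  let R := MvPowerSeries (Fin n) k
  haveI : IsDomain R := NoZeroDivisors.to_isDomain _
  letI : Algebra R C := φ.toRingHom.toAlgebra
  haveI : Module.Finite R C := hφfin
  letI : Algebra R L := ((algebraMap C L).comp φ.toRingHom).toAlgebra
  haveI : IsScalarTower R C L := IsScalarTower.of_algebraMap_eq fun _ => rfl
  have hRk : ∀ c : k, algebraMap R L (MvPowerSeries.C c) = algebraMap k L c := fun c => by
    show algebraMap C L (φ (MvPowerSeries.C c)) = _
    rw [show φ (MvPowerSeries.C c) = algebraMap k C c from (congrArg φ (by
      rw [MvPowerSeries.algebraMap_apply]; rfl)).trans (φ.commutes c), ← IsScalarTower.algebraMap_apply]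
  haveI : FaithfulSMul R L :=
    (faithfulSMul_iff_algebraMap_injective R L).2 ((IsFractionRing.injective C L).comp hφinj)
  letI : Algebra (FractionRing R) L := FractionRing.liftAlgebra R L
  haveI : FiniteDimensional (FractionRing R) L :=
    NormalLib.finiteDimensional_fractionRing (R := R) (S := C) (FractionRing R) L hφinj
  have hfrac : ∀ (δ : Fin n → Derivation ℤ L L) (c : Fin n → L), (∀ a, ∑ i, c i * δ i (algebraMap C L a) = 0) →
      ∀ z, ∑ i, c i * δ i z = 0 := by
    intro δ c hc z
    obtain ⟨a, b, hb, rfl⟩ := IsFractionRing.div_surjective C z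
    simp only [NagataLib.derivation_div _ _ _ (IsFractionRing.to_map_ne_zero_of_mem_nonZeroDivisors hb), smul_eq_mul,
      mul_sub, Finset.sum_sub_distrib]
    simp only [mul_left_comm (c _), ← Finset.mul_sum, hc, mul_zero, sub_zero]
  suffices h : ∃ δ : Fin n → Derivation ℤ L L, (∀ i c, δ i (algebraMap k L c) = 0) ∧
      (∀ i, ∃ N : Submodule C L, N.FG ∧ ∀ a, δ i (algebraMap C L a) ∈ N) ∧
      ∀ c : Fin n → L, (∀ z, ∑ i, c i * δ i z = 0) → c = 0 by
    obtain ⟨δ, hk, hfg, hli⟩ := h
    refine ⟨fun i => Derivation.mk'
      { toFun := fun a => δ i (algebraMap C L a)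
        map_add' := fun a b => by rw [map_add, map_add]
        map_smul' := fun c a => by
          rw [Algebra.smul_def, map_mul, Derivation.leibniz, ← IsScalarTower.algebraMap_apply k C L, hk, smul_zero,
            add_zero, smul_eq_mul, RingHom.id_apply, Algebra.smul_def] }
      fun a b => by
        show δ i (algebraMap C L (a * b)) = a • δ i (algebraMap C L b) + b • δ i (algebraMap C L a)
        rw [map_mul, Derivation.leibniz, algebraMap_smul, algebraMap_smul], hfg, fun c hc => hli c (hfrac δ c hc)⟩
  obtain ⟨G, hG⟩ := (inferInstance : Module.Finite R C).fg_top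
  rcases CharP.exists' k with hk0 | ⟨p, hp, hkp⟩
  · -- characteristic zero: the partial derivatives extend
    haveI : CharZero R := charZero_of_injective_ringHom (MvPowerSeries.C (σ := Fin n) (R := k)).injective
    haveI : CharZero (FractionRing R) := charZero_of_injective_ringHom (IsFractionRing.injective R _)
    haveI := PerfectFieldLib.formallySmooth_of_perfectField (FractionRing R) L
    have hext : ∀ i, ∃ δ : Derivation ℤ L L,
        ∀ g : R, δ (algebraMap R L g) = algebraMap R L (MvPowerSeries.pderiv k i g) := by
      intro i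
      let d₀ := NagataLib.mkDerTo (R := R) (L := L)
        ((algebraMap R L).toAddMonoidHom.comp (MvPowerSeries.pderiv k i).toLinearMap.toAddMonoidHom) fun a b => by
          show algebraMap R L (MvPowerSeries.pderiv k i (a * b)) = a • algebraMap R L _ + b • algebraMap R L _
          rw [Derivation.leibniz, smul_eq_mul, smul_eq_mul, map_add, map_mul, map_mul, Algebra.smul_def,
            Algebra.smul_def]
          rfl
      obtain ⟨d₁, hd₁⟩ := NagataLib.exists_extend (nonZeroDivisors R) (FractionRing R) d₀
      let σ : FractionRing R →+* TrivSqZeroExt L L :=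
        { toFun := fun c => TrivSqZeroExt.inl (algebraMap (FractionRing R) L c) + TrivSqZeroExt.inr (d₁ c)
          map_one' := by ext <;> simp
          map_mul' := fun a b => by
            ext <;> simp [mul_comm]
            all_goals simp only [Algebra.smul_def]
            all_goals ring
          map_zero' := by ext <;> simp
          map_add' := fun a b => by ext <;> simp }
      letI : Algebra (FractionRing R) (TrivSqZeroExt L L) := σ.toAlgebra
      let J : Ideal (TrivSqZeroExt L L) := RingHom.ker (TrivSqZeroExt.fstHom L L L).toRingHom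
      have hJ : J ^ 2 = ⊥ := by
        rw [eq_bot_iff, pow_two, Ideal.mul_le]
        intro y hy z hz
        rw [Ideal.mem_bot]
        have hy' : y.fst = 0 := hy
        have hz' : z.fst = 0 := hz
        ext <;> simp [hy', hz']
      let ψ : L →ₐ[FractionRing R] TrivSqZeroExt L L ⧸ J :=
        { (Ideal.Quotient.mk J).comp (TrivSqZeroExt.inlHom L L) with
          commutes' := fun c => by
            show Ideal.Quotient.mk J (TrivSqZeroExt.inl (algebraMap (FractionRing R) L c)) = Ideal.Quotient.mk J (σ c)
            rw [Ideal.Quotient.eq]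
            show (TrivSqZeroExt.inl (algebraMap (FractionRing R) L c) - σ c).fst = 0
            simp [σ] }
      obtain ⟨χ, hχ⟩ := Algebra.FormallySmooth.comp_surjective (FractionRing R) L J hJ ψ
      have hfst : ∀ a, (χ a).fst = a := fun a => by
        have h := AlgHom.congr_fun hχ a
        change Ideal.Quotient.mk J (χ a) = Ideal.Quotient.mk J (TrivSqZeroExt.inl a) at h
        rw [Ideal.Quotient.eq] at h
        exact sub_eq_zero.1 (by simpa [J, RingHom.mem_ker] using h)
      refine ⟨NagataLib.mkDerTo (AddMonoidHom.mk' (fun a => (χ a).snd) fun a b => by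
        rw [map_add, TrivSqZeroExt.snd_add]) fun a b => ?_, fun g => ?_⟩
      · show (χ (a * b)).snd = a • (χ b).snd + b • (χ a).snd
        rw [map_mul, TrivSqZeroExt.snd_mul, hfst, hfst, op_smul_eq_smul, smul_eq_mul, smul_eq_mul]
      · show (χ (algebraMap R L g)).snd = _
        rw [IsScalarTower.algebraMap_apply R (FractionRing R) L, χ.commutes]
        show (σ _).snd = _
        simp [σ, hd₁, d₀, NagataLib.mkDerTo_apply]
        rw [Algebra.smul_def, mul_one]
    choose δ hδ using hext
    refine ⟨δ, fun i c => ?_, fun i => ?_, fun c hc => funext fun j => ?_⟩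
    · rw [← hRk, hδ, MvPowerSeries.pderiv_C, map_zero]
    · refine ⟨Submodule.span C (insert (1 : L) ((fun y => δ i (algebraMap C L y)) '' (G : Set C))),
        Submodule.fg_span ((G.finite_toSet.image _).insert _), fun a => ?_⟩
      have : a ∈ Submodule.span R (G : Set C) := hG ▸ Submodule.mem_top
      induction this using Submodule.span_induction with
      | mem z hz => exact Submodule.subset_span (Set.mem_insert_of_mem _ ⟨z, hz, rfl⟩)
      | zero => rw [map_zero, map_zero]; exact zero_mem _
      | add _ _ _ _ ha hb => rw [map_add, map_add]; exact add_mem ha hb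
      | smul g z _ hz =>
        rw [Algebra.smul_def, map_mul, ← IsScalarTower.algebraMap_apply R C L, Derivation.leibniz, hδ,
          IsScalarTower.algebraMap_apply R C L g, IsScalarTower.algebraMap_apply R C L (MvPowerSeries.pderiv k i g),
          algebraMap_smul, smul_eq_mul, ← map_mul]
        refine add_mem (Submodule.smul_mem _ _ hz) ?_
        rw [← mul_one (algebraMap C L _), ← Algebra.smul_def]
        exact Submodule.smul_mem _ _ (Submodule.subset_span (Set.mem_insert _ _))
    · have h := hc (algebraMap R L (MvPowerSeries.X j))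
      simp only [hδ, MvPowerSeries.pderiv_X] at h
      rw [Finset.sum_eq_single j (fun i _ hi => by simp [Pi.single_apply, Ne.symm hi])
        (fun hn => absurd (Finset.mem_univ j) hn)] at h
      simpa using h
  · -- characteristic `p`: derivations over the `p`-th powers
    haveI : CharP R p := charP_of_injective_ringHom (MvPowerSeries.C (σ := Fin n) (R := k)).injective p
    haveI : CharP L p := charP_of_injective_ringHom
      (f := algebraMap R L) ((IsFractionRing.injective C L).comp hφinj) p
    obtain ⟨T, hTfin, hT, hcard⟩ := exists_pBasis_card_le p (k := k) (n := n) (L := L) (FractionRing R)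
    let RS := CplExcLib.psSubring (n := n) p (⊤ : Subfield k)
    haveI : Fintype T := hTfin.fintype
    rw [← Nat.card_coe_set_eq, Nat.card_eq_fintype_card] at hcard
    let ι : Fin n → T := fun i => (Fintype.equivFin T).symm (Fin.castLE hcard i)
    have hι : Function.Injective ι := fun a b h => Fin.castLE_injective hcard ((Fintype.equivFin T).symm.injective h)
    choose δ hδ using fun i => PBasisLib.exists_derivation_base (A := RS) (L := L) p hT fun t =>
      if ι i = t then (1 : L) else 0
    refine ⟨fun i => NagataLib.mkDerTo (δ i).toLinearMap.toAddMonoidHom (δ i).leibniz, fun i c => ?_, fun i => ?_,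
      fun c hc => funext fun j => ?_⟩
    · show δ i (algebraMap k L c) = 0
      rw [← hRk]
      exact (δ i).map_algebraMap ⟨MvPowerSeries.C c, fun I => ⟨trivial, fun h i => by
        rw [MvPowerSeries.coeff_C] at h
        split_ifs at h with hI
        · simp [hI]
        · exact absurd rfl h⟩⟩
    · haveI : Module.Finite (⊤ : Subfield k) k :=
        Module.Finite.of_surjective (Algebra.linearMap (⊤ : Subfield k) k) fun x => ⟨⟨x, trivial⟩, rfl⟩
      haveI : Module.Finite RS R := CplExcLib.finite_psSubring p ⊤ (Fact.out : p.Prime).pos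
      haveI : Module.Finite RS C := Module.Finite.trans R C
      obtain ⟨G', hG'⟩ := (inferInstance : Module.Finite RS C).fg_top
      refine ⟨Submodule.span C ((fun y => δ i (algebraMap C L y)) '' (G' : Set C)),
        Submodule.fg_span (G'.finite_toSet.image _), fun a => ?_⟩
      show δ i (algebraMap C L a) ∈ _
      have : a ∈ Submodule.span RS (G' : Set C) := hG' ▸ Submodule.mem_top
      induction this using Submodule.span_induction with
      | mem z hz => exact Submodule.subset_span ⟨z, hz, rfl⟩
      | zero => rw [map_zero, map_zero]; exact zero_mem _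
      | add _ _ _ _ ha hb => rw [map_add, map_add]; exact add_mem ha hb
      | smul g z _ hz =>
        rw [Algebra.smul_def, map_mul, ← IsScalarTower.algebraMap_apply RS C L, Derivation.leibniz,
          Derivation.map_algebraMap, smul_zero, add_zero, IsScalarTower.algebraMap_apply RS C L, algebraMap_smul]
        exact Submodule.smul_mem _ _ hz
    · have h := hc (ι j : L)
      have h' : ∀ i, δ i (ι j : L) = if i = j then 1 else 0 := fun i => by
        rw [hδ]
        simp [hι.eq_iff]
      have h2 : ∑ i, c i * δ i (ι j : L) = 0 := h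
      simpa [h'] using h2

end Domain

/-- The fibre of the completed differentials is at least the dimension of a component through the point. -/
theorem dim_le_finrank_fibre {k A : Type u} [Field k] [CommRing A] [IsLocalRing A] [IsNoetherianRing A] [Algebra k A]
    [IsAdicComplete (maximalIdeal A) A] [Module.Finite k (ResidueField A)] (q : Ideal A) [q.IsPrime] {n : ℕ}
    (hn : ringKrullDim (A ⧸ q) = n) :
    n ≤ Module.finrank q.ResidueField (q.ResidueField ⊗[A] AdicCompletion (maximalIdeal A) (Ω[A⁄k])) := by
  haveI : Nontrivial (A ⧸ q) := Ideal.Quotient.nontrivial_iff.2 (Ideal.IsPrime.ne_top ‹_›)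
  haveI : IsLocalRing (A ⧸ q) := IsLocalRing.of_surjective' _ Ideal.Quotient.mk_surjective
  haveI : IsAdicComplete (maximalIdeal (A ⧸ q)) (A ⧸ q) := NormalLib.isAdicComplete_quotient_local q
  haveI : Module.Finite k (ResidueField (A ⧸ q)) := by
    haveI : IsLocalHom (Ideal.Quotient.mk q) := IsLocalHom.of_surjective _ Ideal.Quotient.mk_surjective
    let f : ResidueField A →ₗ[k] ResidueField (A ⧸ q) :=
      { toFun := ResidueField.map (Ideal.Quotient.mk q)
        map_add' := map_add _
        map_smul' := fun c x => by
          obtain ⟨x, rfl⟩ := residue_surjective x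
          rfl }
    refine Module.Finite.of_surjective f fun z => ?_
    obtain ⟨z, rfl⟩ := residue_surjective z
    obtain ⟨z, rfl⟩ := Ideal.Quotient.mk_surjective z
    exact ⟨residue A z, rfl⟩
  let L := q.ResidueField
  haveI : IsScalarTower k (A ⧸ q) L := IsScalarTower.of_algebraMap_eq fun c => by
    rw [← Ideal.Quotient.mk_algebraMap, ← Ideal.Quotient.algebraMap_eq, ← IsScalarTower.algebraMap_apply A (A ⧸ q) L,
      ← IsScalarTower.algebraMap_apply]
  obtain ⟨δ, hfg, hli⟩ := exists_derivations (k := k) (C := A ⧸ q) hn L
  refine card_le_finrank_of_derivations (fun i => (δ i).compAlgebraMap A) (fun i => ?_)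
    fun c hc => hli c fun a => ?_
  · obtain ⟨N, ⟨s, hs⟩, hδ⟩ := hfg i
    refine ⟨Submodule.span A (s : Set L), Submodule.fg_span s.finite_toSet, fun a => ?_⟩
    have h := hδ (algebraMap A (A ⧸ q) a)
    rw [← hs, ← Submodule.restrictScalars_mem A,
      Submodule.restrictScalars_span A (A ⧸ q) Ideal.Quotient.mk_surjective] at h
    exact h
  · obtain ⟨a, rfl⟩ := Ideal.Quotient.mk_surjective a
    exact hc a

end CKaehlerLib
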