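import Mathlib
import Groth.Agent.PBasisLib.Fields

/-!
# Degrees of a field over the fields generated by its high `p`-th powers
-/

set_option autoImplicit false
set_option linter.style.haveILetI false
set_option maxHeartbeats 1000000

universe u

namespace CKaehlerLib

variable (p : ℕ) [Fact p.Prime] (k L : Type u) [Field k] [Field L] [Algebra k L] [CharP L p]

/-- The field generated over `k` by the `p^e`-th powers. -/
noncomputable def powField (e : ℕ) : IntermediateField k L :=
  IntermediateField.adjoin k (Set.range fun a : L => a ^ p ^ e)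

variable {p k L}

omit [Fact p.Prime] [CharP L p] in
theorem pow_mem_powField (e : ℕ) (a : L) : a ^ p ^ e ∈ powField p k L e :=
  IntermediateField.subset_adjoin k _ ⟨a, rfl⟩

omit [Fact p.Prime] [CharP L p] in
theorem powField_zero : powField p k L 0 = ⊤ :=
  eq_top_iff.2 fun a _ => by simpa using pow_mem_powField (p := p) (k := k) 0 a

omit [Fact p.Prime] [CharP L p] in
theorem powField_succ_le (e : ℕ) : powField p k L (e + 1) ≤ powField p k L e := by
  refine IntermediateField.adjoin_le_iff.2 ?_
  rintro _ ⟨a, rfl⟩
  show a ^ p ^ (e + 1) ∈ powField p k L e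
  rw [pow_succ, pow_mul]
  exact pow_mem (pow_mem_powField e a) p

theorem pow_mem_powField_succ {e : ℕ} {a : L} (ha : a ∈ powField p k L e) : a ^ p ∈ powField p k L (e + 1) := by
  induction ha using IntermediateField.adjoin_induction with
  | mem x hx =>
    obtain ⟨b, rfl⟩ := hx
    show (b ^ p ^ e) ^ p ∈ _
    rw [← pow_mul, ← pow_succ]
    exact pow_mem_powField (e + 1) b
  | algebraMap c => exact pow_mem (IntermediateField.algebraMap_mem _ c) p
  | add x y _ _ hx hy => rw [add_pow_char]; exact add_mem hx hy
  | inv x _ hx => rw [inv_pow]; exact inv_mem hx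
  | mul x y _ _ hx hy => rw [mul_pow]; exact mul_mem hx hy

/-- If `K` is generated over its `p`-th powers by `n` elements, `[L : k(L^(p^e))] ≤ [L : K] p^(n e)`. -/
theorem finrank_powField_le (K : Type u) [Field K] [Algebra k K] [Algebra K L] [IsScalarTower k K L]
    [Module.Finite K L] {n : ℕ} {t : Fin n → K}
    (ht : Algebra.adjoin (EGA41.pPowerSubalgebra p k K) (Set.range t) = ⊤) (e : ℕ) :
    Module.Finite (powField p k L e) L ∧
      Module.finrank (powField p k L e) L ≤ Module.finrank K L * p ^ (n * e) := by
  classical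
  let s : Fin n → L := fun i => algebraMap K L (t i)
  have key : ∀ e : ℕ, ∀ y : K, algebraMap K L y ∈ Algebra.adjoin (powField p k L e) (Set.range s) := by
    intro e
    induction e with
    | zero =>
      exact fun y => (Algebra.adjoin (powField p k L 0) (Set.range s)).algebraMap_mem
        ⟨algebraMap K L y, by rw [powField_zero]; trivial⟩
    | succ e ih =>
      let T := Algebra.adjoin (powField p k L (e + 1)) (Set.range s)
      have hk : ∀ c : k, algebraMap k L c ∈ T := fun c =>
        T.algebraMap_mem ⟨_, IntermediateField.algebraMap_mem _ c⟩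
      have hpow : ∀ z ∈ Algebra.adjoin (powField p k L e) (Set.range s), z ^ p ∈ T := by
        intro z hz
        induction hz using Algebra.adjoin_induction with
        | mem x hx => exact pow_mem (Algebra.subset_adjoin hx) p
        | algebraMap c => exact T.algebraMap_mem ⟨(c : L) ^ p, pow_mem_powField_succ c.2⟩
        | add x y _ _ hx hy => rw [add_pow_char]; exact add_mem hx hy
        | mul x y _ _ hx hy => rw [mul_pow]; exact mul_mem hx hy
      have hP : ∀ z ∈ EGA41.pPowerSubalgebra p k K, algebraMap K L z ∈ T := by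
        intro z hz
        induction hz using Algebra.adjoin_induction with
        | mem x hx =>
          obtain ⟨w, rfl⟩ := hx
          show algebraMap K L (w ^ p) ∈ T
          rw [map_pow]
          exact hpow _ (ih w)
        | algebraMap c => rw [← IsScalarTower.algebraMap_apply]; exact hk c
        | add x y _ _ hx hy => rw [map_add]; exact add_mem hx hy
        | mul x y _ _ hx hy => rw [map_mul]; exact mul_mem hx hy
      intro y
      have hy : y ∈ Algebra.adjoin (EGA41.pPowerSubalgebra p k K) (Set.range t) := by rw [ht]; trivial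
      induction hy using Algebra.adjoin_induction with
      | mem x hx =>
        obtain ⟨i, rfl⟩ := hx
        exact Algebra.subset_adjoin ⟨i, rfl⟩
      | algebraMap c => exact hP _ c.2
      | add x y _ _ hx hy => rw [map_add]; exact add_mem hx hy
      | mul x y _ _ hx hy => rw [map_mul]; exact mul_mem hx hy
  let M := powField p k L e
  let mon : (Fin n → Fin (p ^ e)) → L := fun α => ∏ i, s i ^ (α i : ℕ)
  have hspan : ∀ z ∈ Algebra.adjoin M (Set.range s), z ∈ Submodule.span M (Set.range mon) := by
    intro z hz
    rw [Algebra.adjoin_range_eq_range_aeval] at hz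
    obtain ⟨P, rfl⟩ := hz
    induction P using MvPolynomial.induction_on' with
    | monomial a c =>
      show MvPolynomial.aeval s (MvPolynomial.monomial a c) ∈ _
      rw [MvPolynomial.aeval_monomial, ← Algebra.smul_def, Finsupp.prod_fintype _ _ (fun i => pow_zero _)]
      refine Submodule.smul_mem _ _ ?_
      have h : ∏ i, s i ^ a i = (∏ i, (s i ^ p ^ e) ^ (a i / p ^ e)) * ∏ i, s i ^ (a i % p ^ e) := by
        rw [← Finset.prod_mul_distrib]
        exact Finset.prod_congr rfl fun i _ => by rw [← pow_mul, ← pow_add, Nat.div_add_mod]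
      have hc : ∏ i, (s i ^ p ^ e) ^ (a i / p ^ e) ∈ M :=
        prod_mem fun i _ => pow_mem (pow_mem_powField e (s i)) _
      rw [h]
      exact Submodule.smul_mem (Submodule.span M (Set.range mon)) (⟨_, hc⟩ : M)
        (Submodule.subset_span ⟨fun i => ⟨a i % p ^ e,
          Nat.mod_lt _ (pow_pos (Fact.out : p.Prime).pos e)⟩, rfl⟩)
    | add P Q hP hQ =>
      show MvPolynomial.aeval s (P + Q) ∈ _
      rw [map_add]
      exact add_mem hP hQ
  let b := Module.finBasis K L
  have htop : Submodule.span M
      (Set.range fun x : (Fin n → Fin (p ^ e)) × Fin (Module.finrank K L) => mon x.1 * b x.2) = ⊤ := by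
    refine eq_top_iff.2 fun z _ => ?_
    rw [← b.sum_repr z]
    refine Submodule.sum_mem _ fun j _ => ?_
    rw [Algebra.smul_def]
    have h := Submodule.mem_map_of_mem (f := LinearMap.mulRight M (b j)) (hspan _ (key e (b.repr z j)))
    rw [Submodule.map_span, ← Set.range_comp] at h
    refine Submodule.span_mono ?_ h
    rintro _ ⟨α, rfl⟩
    exact ⟨(α, j), rfl⟩
  have hfin : Module.Finite M L := ⟨⟨Finset.univ.image
    fun x : (Fin n → Fin (p ^ e)) × Fin (Module.finrank K L) => mon x.1 * b x.2, by
      rw [Finset.coe_image, Finset.coe_univ, Set.image_univ]; exact htop⟩⟩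
  refine ⟨hfin, ?_⟩
  have h := finrank_range_le_card (R := M)
    fun x : (Fin n → Fin (p ^ e)) × Fin (Module.finrank K L) => mon x.1 * b x.2
  rw [Set.finrank, htop, finrank_top, Fintype.card_prod, Fintype.card_fun, Fintype.card_fin, Fintype.card_fin,
    Fintype.card_fin, ← pow_mul, mul_comm e n, mul_comm] at h
  exact h

/-- Some step of the tower of `p^e`-th powers has degree less than `p^(n+1)`. -/
theorem exists_relfinrank_lt {C n : ℕ}
    (h : ∀ e, Module.Finite (powField p k L e) L ∧ Module.finrank (powField p k L e) L ≤ C * p ^ (n * e)) :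
    ∃ e, IntermediateField.relfinrank (powField p k L (e + 1)) (powField p k L e) < p ^ (n + 1) := by
  by_contra! hc
  have hp := (Fact.out : p.Prime)
  have hlow : ∀ e, p ^ ((n + 1) * e) ≤ Module.finrank (powField p k L e) L := by
    intro e
    induction e with
    | zero =>
      haveI := (h 0).1
      exact Module.finrank_pos
    | succ e ih =>
      rw [← IntermediateField.relfinrank_mul_finrank_top (powField_succ_le e), mul_add, mul_one, pow_add, mul_comm]
      exact Nat.mul_le_mul (hc e) ih
  obtain ⟨e, he⟩ := pow_unbounded_of_one_lt C hp.one_lt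
  have h1 := (hlow e).trans (h e).2
  rw [add_mul, one_mul, pow_add, mul_comm] at h1
  exact absurd (Nat.le_of_mul_le_mul_right h1 (pow_pos hp.pos _)) (not_le.2 he)

/-- A small step of the tower gives few `p`-generators. -/
theorem exists_generators_of_relfinrank_lt {e n : ℕ} [Module.Finite (powField p k L (e + 1)) L]
    (h : IntermediateField.relfinrank (powField p k L (e + 1)) (powField p k L e) < p ^ (n + 1)) :
    ∃ x : Fin n → L, (∀ i, x i ∈ powField p k L e) ∧ ∀ S : Subfield L, (∀ c : k, algebraMap k L c ∈ S) →
      (∀ a ∈ powField p k L e, a ^ p ∈ S) → (∀ i, x i ∈ S) → ∀ a ∈ powField p k L e, a ∈ S := by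
  classical
  let M := powField p k L e
  haveI : CharP M p := RingHom.charP (algebraMap M L) (algebraMap M L).injective p
  let P := EGA41.pPowerSubalgebra p k M
  obtain ⟨T, -, -, hT⟩ := Groth.Agent.PBasisLib.exists_pBasis_between (A := k) p (Set.univ : Set M) ∅
    (Set.empty_subset _) (Groth.Agent.PBasisLib.isPGenerating_univ p) (Groth.Agent.PBasisLib.setIndep_empty p)
  have hP : ∀ a ∈ powField p k L (e + 1), ∃ z ∈ P, (z : L) = a := by
    intro a ha
    induction ha using IntermediateField.adjoin_induction with
    | mem x hx =>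
      obtain ⟨b, rfl⟩ := hx
      refine ⟨(⟨b ^ p ^ e, pow_mem_powField e b⟩ : M) ^ p, Groth.Agent.PBasisLib.pow_mem_pPow p _, ?_⟩
      show (b ^ p ^ e) ^ p = b ^ p ^ (e + 1)
      rw [pow_succ, pow_mul]
    | algebraMap c => exact ⟨algebraMap k M c, P.algebraMap_mem c, rfl⟩
    | add x y _ _ hx hy =>
      obtain ⟨z, hz, rfl⟩ := hx
      obtain ⟨w, hw, rfl⟩ := hy
      exact ⟨z + w, add_mem hz hw, rfl⟩
    | inv x _ hx =>
      obtain ⟨z, hz, rfl⟩ := hx
      refine ⟨z⁻¹, ?_, rfl⟩
      obtain ⟨c, hc⟩ := Algebra.mem_bot.1 (Groth.Agent.PBasisLib.inv_mem_of_pPow_le p (A := k) (C := ⊥)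
        (Algebra.mem_bot.2 ⟨⟨z, hz⟩, rfl⟩))
      exact hc ▸ c.2
    | mul x y _ _ hx hy =>
      obtain ⟨z, hz, rfl⟩ := hx
      obtain ⟨w, hw, rfl⟩ := hy
      exact ⟨z * w, mul_mem hz hw, rfl⟩
  have hsmall : ∀ f : Fin (n + 1) → T, ¬ Function.Injective f := by
    intro f hf
    have hind : EGA41.IsPIndependent p k (fun i : ULift.{u} (Fin (n + 1)) => (f i.down : M)) :=
      Groth.Agent.PBasisLib.isPIndependent_comp p hT.1 (hf.comp ULift.down_injective)
    let N := IntermediateField.extendScalars (powField_succ_le (p := p) (k := k) (L := L) e)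
    let g : (Fin (n + 1) → Fin p) → {a : ULift.{u} (Fin (n + 1)) →₀ ℕ // ∀ i, a i < p} := fun α =>
      ⟨Finsupp.equivFunOnFinite.symm fun i => (α i.down : ℕ), fun i => by simp⟩
    have hg : Function.Injective g := fun α β hαβ => funext fun i => Fin.ext (by
      simpa [g] using DFunLike.congr_fun (congrArg Subtype.val hαβ) ⟨i⟩)
    let w : (Fin (n + 1) → Fin p) → M := fun α => EGA41.pMonomial (fun i : ULift.{u} (Fin (n + 1)) => (f i.down : M)) (g α).1
    have hw : LinearIndependent P w := hind.comp g hg
    let v : (Fin (n + 1) → Fin p) → N := fun α => ⟨(w α : L), (w α).2⟩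
    have hv : LinearIndependent (powField p k L (e + 1)) v := by
      rw [Fintype.linearIndependent_iff]
      intro c hc α
      choose z hz hzc using fun β => hP _ (c β).2
      have h1 : ∑ β, (⟨z β, hz β⟩ : P) • w β = 0 := by
        refine Subtype.ext ?_
        have h2 := congrArg Subtype.val hc
        simp only [AddSubmonoidClass.coe_finset_sum, ZeroMemClass.coe_zero] at h2 ⊢
        refine Eq.trans (Finset.sum_congr rfl fun β _ => ?_) h2
        show (z β : L) * (w β : L) = (c β : L) * (w β : L)
        rw [hzc]
      have h3 := congrArg (fun q : P => ((q : M) : L)) (Fintype.linearIndependent_iff.1 hw _ h1 α)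
      exact Subtype.ext ((hzc α).symm.trans h3)
    haveI : Module.Finite (powField p k L (e + 1)) N := IntermediateField.finiteDimensional_left N
    have h4 := hv.fintype_card_le_finrank
    rw [Fintype.card_fun, Fintype.card_fin, Fintype.card_fin,
      ← IntermediateField.relfinrank_eq_finrank_of_le (powField_succ_le e)] at h4
    exact absurd h4 (not_le.2 h)
  haveI : Finite T := by
    by_contra hinf
    rw [not_finite_iff_infinite] at hinf
    exact hsmall ((Infinite.natEmbedding T) ∘ Fin.val) ((Infinite.natEmbedding T).injective.comp Fin.val_injective)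
  haveI := Fintype.ofFinite T
  have hcard : Fintype.card T ≤ n := by
    by_contra! hlt
    exact hsmall ((Fintype.equivFin T).symm ∘ Fin.castLE hlt)
      ((Fintype.equivFin T).symm.injective.comp (Fin.castLE_injective _))
  let x : Fin n → M := fun i => if hi : (i : ℕ) < Fintype.card T then ((Fintype.equivFin T).symm ⟨i, hi⟩ : M) else 0
  refine ⟨fun i => x i, fun i => (x i).2, fun S hk hp hx a ha => ?_⟩
  have hgen : (⟨a, ha⟩ : M) ∈ Algebra.adjoin P T := by
    have h0 := (Groth.Agent.PBasisLib.isPGenerating_iff p _).1 hT.2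
    rw [Subtype.range_coe] at h0
    rw [h0]; trivial
  have hPS : ∀ z ∈ P, (z : L) ∈ S := by
    intro z hz
    induction hz using Algebra.adjoin_induction with
    | mem y hy =>
      obtain ⟨b, rfl⟩ := hy
      exact hp _ b.2
    | algebraMap c => exact hk c
    | add _ _ _ _ h1 h2 => exact add_mem h1 h2
    | mul _ _ _ _ h1 h2 => exact mul_mem h1 h2
  suffices ∀ z ∈ Algebra.adjoin P T, (z : L) ∈ S from this _ hgen
  intro z hz
  induction hz using Algebra.adjoin_induction with
  | mem y hy =>
    have h1 := hx ⟨Fintype.equivFin T ⟨y, hy⟩, (Fintype.equivFin T ⟨y, hy⟩).isLt.trans_le hcard⟩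
    simp only [x, (Fintype.equivFin T ⟨y, hy⟩).isLt, dite_true, Equiv.symm_apply_apply, Fin.eta] at h1
    exact h1
  | algebraMap c => exact hPS _ c.2
  | add _ _ _ _ h1 h2 => exact add_mem h1 h2
  | mul _ _ _ _ h1 h2 => exact mul_mem h1 h2

end CKaehlerLib
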