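import Groth.Agent.CKaehlerLib.Basic
import Mathlib.RingTheory.Derivation.Basic
import Mathlib.RingTheory.Nakayama
import Mathlib.RingTheory.Localization.AtPrime.Basic
import Mathlib.Algebra.Module.LocalizedModule.Basic

/-!
# Generators of localised differentials by unit multiples
-/

set_option autoImplicit false

universe u

open IsLocalRing

namespace CKaehlerLib

/-- Over a local ring one can choose a minimal system of generators from given generating sets. -/
theorem exists_transversal {R N : Type u} [CommRing R] [IsLocalRing R] [AddCommGroup N] [Module R N] [Module.Finite R N]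
    {M : ℕ} {ι : Type u} [Nonempty ι] (e : Fin M → ι → N) (he : ∀ i, Submodule.span R (Set.range (e i)) = ⊤)
    (g₀ : Fin M → N) (hg₀ : Submodule.span R (Set.range g₀) = ⊤)
    (hmin : ∀ G : Finset N, Submodule.span R (↑G : Set N) = ⊤ → M ≤ G.card) :
    ∃ v : Fin M → ι, Submodule.span R (Set.range fun i => e i (v i)) = ⊤ := by
  classical
  have key : ∀ j ≤ M, ∃ (v : Fin M → ι) (g : Fin M → N), Submodule.span R (Set.range g) = ⊤ ∧
      ∀ i : Fin M, (i : ℕ) < j → g i = e i (v i) := by
    intro j
    induction j with
    | zero => exact fun _ => ⟨fun _ => Classical.arbitrary ι, g₀, hg₀, fun i hi => absurd hi (Nat.not_lt_zero _)⟩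
    | succ j ih =>
      intro hj
      obtain ⟨v, g, hg, hgv⟩ := ih (by omega)
      let j' : Fin M := ⟨j, by omega⟩
      by_cases hex : ∃ (a : ι) (c : Fin M → R) (l : Fin M), ∑ i, c i • g i = e j' a ∧ j ≤ (l : ℕ) ∧ IsUnit (c l)
      · obtain ⟨a, c, l, hc, hl, hunit⟩ := hex
        refine ⟨Function.update v j' a, Function.update (g ∘ Equiv.swap l j') j' (e j' a), ?_, fun i hi => ?_⟩
        · let g' := Function.update (g ∘ Equiv.swap l j') j' (e j' a)
          have hother : ∀ i, i ≠ l → g i ∈ Submodule.span R (Set.range g') := fun i hi => by
            refine Submodule.subset_span ⟨Equiv.swap l j' i, ?_⟩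
            have hne : Equiv.swap l j' i ≠ j' := fun h => hi ((Equiv.swap l j').injective (h.trans (Equiv.swap_apply_left l j').symm))
            show Function.update (g ∘ Equiv.swap l j') j' (e j' a) (Equiv.swap l j' i) = g i
            rw [Function.update_of_ne hne, Function.comp_apply, Equiv.swap_apply_self]
          refine top_le_iff.1 (hg.ge.trans (Submodule.span_le.2 ?_))
          rintro _ ⟨i, rfl⟩
          by_cases hi : i = l
          · subst hi
            have h : c i • g i = e j' a - ∑ t ∈ Finset.univ.erase i, c t • g t :=
              eq_sub_of_add_eq ((Finset.add_sum_erase _ (fun t => c t • g t) (Finset.mem_univ i)).trans hc)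
            refine (Submodule.smul_mem_iff_of_isUnit (Submodule.span R (Set.range g')) hunit).1 ?_
            rw [h]
            exact sub_mem (Submodule.subset_span ⟨j', Function.update_self ..⟩)
              (Submodule.sum_mem _ fun t ht => Submodule.smul_mem _ _ (hother t (Finset.ne_of_mem_erase ht)))
          · exact hother i hi
        · by_cases hij : i = j'
          · subst hij
            rw [Function.update_self, Function.update_self]
          · have hlt : (i : ℕ) < j := by
              have : (i : ℕ) ≠ j := fun h => hij (Fin.ext h)
              omega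
            rw [Function.update_of_ne hij, Function.update_of_ne hij, Function.comp_apply,
              Equiv.swap_apply_of_ne_of_ne (fun h => by rw [h] at hlt; omega) hij, hgv i hlt]
      · exfalso
        let G := ((Finset.univ.filter fun i : Fin M => (i : ℕ) < j).image g)
        have hle : (⊤ : Submodule R N) ≤ Submodule.span R (↑G : Set N) ⊔ maximalIdeal R • ⊤ := by
          rw [← he j', Submodule.span_le]
          rintro _ ⟨a, rfl⟩
          rw [he j']
          obtain ⟨c, hc⟩ := (Submodule.mem_span_range_iff_exists_fun R).1 (hg.ge (Submodule.mem_top (x := e j' a)))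
          rw [SetLike.mem_coe, ← hc]
          refine Submodule.sum_mem _ fun i _ => ?_
          by_cases hi : (i : ℕ) < j
          · exact Submodule.mem_sup_left (Submodule.smul_mem _ _ (Submodule.subset_span
              (Finset.mem_coe.2 (Finset.mem_image_of_mem _ (Finset.mem_filter.2 ⟨Finset.mem_univ _, hi⟩)))))
          · refine Submodule.mem_sup_right (Submodule.smul_mem_smul ?_ Submodule.mem_top)
            rw [mem_maximalIdeal, mem_nonunits_iff]
            exact fun hu => hex ⟨a, c, i, hc, not_lt.1 hi, hu⟩
        have htop : Submodule.span R (↑G : Set N) = ⊤ := top_le_iff.1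
          (Submodule.le_of_le_smul_of_le_jacobson_bot Module.Finite.fg_top (IsLocalRing.maximalIdeal_le_jacobson _) hle)
        have h := (hmin G htop).trans Finset.card_image_le
        have h' : (Finset.univ.filter fun i : Fin M => (i : ℕ) < j).card ≤ (Finset.range j).card :=
          Finset.card_le_card_of_injOn Fin.val (fun i hi => by simpa using hi) Fin.val_injective.injOn
        rw [Finset.card_range] at h'
        omega
  obtain ⟨v, g, hg, hgv⟩ := key M le_rfl
  exact ⟨v, by rwa [show (fun i => e i (v i)) = g from funext fun i => (hgv i i.2).symm]⟩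

/-- Unit multiples of an element outside the prime give generators of localised differentials. -/
theorem span_units_eq_top {k A N : Type u} [CommRing k] [CommRing A] [IsLocalRing A] [Algebra k A] [AddCommGroup N]
    [Module A N] [Module k N] (δ : Derivation k A N) (hδ : Submodule.span A (Set.range δ) = ⊤) (p : Ideal A) [p.IsPrime]
    (x : A) (hxp : x ∉ p) :
    Submodule.span (Localization.AtPrime p)
      (Set.range fun u : Aˣ => LocalizedModule.mkLinearMap p.primeCompl N (δ (u * x))) = ⊤ := by
  let ι := LocalizedModule.mkLinearMap p.primeCompl N
  let S := Submodule.span (Localization.AtPrime p) (Set.range fun u : Aˣ => ι (δ (u * x)))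
  have hS : ∀ {c : A} {z : LocalizedModule p.primeCompl N}, z ∈ S → c • z ∈ S := fun hz => S.smul_of_tower_mem _ hz
  have hu : ∀ u : Aˣ, ι (δ (u * x)) ∈ S := fun u => Submodule.subset_span ⟨u, rfl⟩
  have hunit : ∀ a : A, IsUnit a → x • ι (δ a) ∈ S := fun a ha => by
    have h0 := hu 1
    rw [Units.val_one, one_mul] at h0
    have h := sub_mem (hu ha.unit) (hS (c := a) h0)
    rwa [IsUnit.unit_spec, Derivation.leibniz, map_add, map_smul, map_smul, add_sub_cancel_left] at h
  have hall : ∀ a : A, x • ι (δ a) ∈ S := fun a => by
    by_cases ha : IsUnit a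
    · exact hunit a ha
    · have h := hunit (1 + a) (by
        by_contra h
        have h' := sub_mem ((mem_maximalIdeal _).2 h) ((mem_maximalIdeal _).2 ha)
        rw [add_sub_cancel_right] at h'
        exact (maximalIdeal.isMaximal A).ne_top (Ideal.eq_top_of_isUnit_mem _ h' isUnit_one))
      rwa [map_add δ, Derivation.map_one_eq_zero, zero_add] at h
  have hxu : IsUnit (algebraMap A (Localization.AtPrime p) x) := IsLocalization.map_units _ (⟨x, hxp⟩ : p.primeCompl)
  have hmem : ∀ n, ι n ∈ S := fun n => by
    have hn : n ∈ Submodule.span A (Set.range δ) := hδ.ge Submodule.mem_top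
    induction hn using Submodule.span_induction with
    | mem n hn =>
      obtain ⟨a, rfl⟩ := hn
      have h := hall a
      rw [← IsScalarTower.algebraMap_smul (Localization.AtPrime p) x] at h
      exact (S.smul_mem_iff_of_isUnit hxu).1 h
    | zero => rw [map_zero]; exact zero_mem _
    | add a b _ _ ha hb => rw [map_add]; exact add_mem ha hb
    | smul c a _ ha => rw [map_smul]; exact hS ha
  refine eq_top_iff.2 fun z _ => ?_
  induction z using LocalizedModule.induction_on with
  | h n s =>
    have h := S.smul_mem (Localization.mk 1 s) (hmem n)
    rwa [LocalizedModule.mkLinearMap_apply, LocalizedModule.mk_smul_mk, one_smul, mul_one] at h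

end CKaehlerLib
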