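import Groth.Agent.CKaehlerLib.Normalize
import Groth.Agent.CKaehlerLib.Cover
import Groth.Agent.CKaehlerLib.Lower
import Groth.Agent.CKaehlerLib.Units
import Mathlib.RingTheory.Unramified.Locus

/-!
# Generators of completed differentials and unramified normalisations (EGA 0IV 21.9)
-/

set_option autoImplicit false
set_option linter.style.haveILetI false
set_option maxHeartbeats 1000000

universe u

open IsLocalRing TensorProduct

namespace CKaehlerLib

/-- Generation of a localised module by global elements. -/
theorem span_localized_eq_top_iff {A N : Type u} [CommRing A] [AddCommGroup N] [Module A N] (p : Ideal A) [p.IsPrime]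
    {ι' : Type*} (x : ι' → N) :
    Submodule.span (Localization.AtPrime p) (Set.range fun i => LocalizedModule.mkLinearMap p.primeCompl N (x i)) = ⊤ ↔
      ∀ y, ∃ v : p.primeCompl, (v : A) • y ∈ Submodule.span A (Set.range x) := by
  let ι := LocalizedModule.mkLinearMap p.primeCompl N
  let W := Submodule.span A (Set.range x)
  constructor
  · intro h y
    have key : ∀ z ∈ Submodule.span (Localization.AtPrime p) (Set.range fun i => ι (x i)),
        ∃ v : p.primeCompl, (v : A) • z ∈ W.map ι := by
      intro z hz
      induction hz using Submodule.span_induction with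
      | mem z hz =>
        obtain ⟨i, rfl⟩ := hz
        exact ⟨1, by rw [OneMemClass.coe_one, one_smul]; exact Submodule.mem_map_of_mem (Submodule.subset_span ⟨i, rfl⟩)⟩
      | zero => exact ⟨1, by rw [smul_zero]; exact zero_mem _⟩
      | add a b _ _ ha hb =>
        obtain ⟨u, hu⟩ := ha
        obtain ⟨v, hv⟩ := hb
        refine ⟨u * v, ?_⟩
        rw [Submonoid.coe_mul, smul_add]
        refine add_mem ?_ ?_
        · rw [mul_comm, mul_smul]; exact Submodule.smul_mem _ _ hu
        · rw [mul_smul]; exact Submodule.smul_mem _ _ hv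
      | smul c a _ ha =>
        obtain ⟨v, hv⟩ := ha
        obtain ⟨r, s, rfl⟩ := IsLocalization.exists_mk'_eq p.primeCompl c
        refine ⟨s * v, ?_⟩
        have h : ((s * v : p.primeCompl) : A) • (IsLocalization.mk' (Localization.AtPrime p) r s • a) =
            r • ((v : A) • a) := by
          rw [Submonoid.coe_mul, mul_comm, mul_smul, ← smul_assoc (s : A), IsLocalization.smul_mk'_self,
            algebraMap_smul, smul_comm]
        rw [h]
        exact Submodule.smul_mem _ _ hv
    obtain ⟨v, n, hn, hv⟩ := key (ι y) (h.ge Submodule.mem_top)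
    obtain ⟨c, hc⟩ := (IsLocalizedModule.eq_iff_exists p.primeCompl ι (x₁ := n) (x₂ := (v : A) • y)).1
      (hv.trans (map_smul ι _ y).symm)
    refine ⟨c * v, ?_⟩
    rw [Submonoid.coe_mul, mul_smul]
    exact (show (c : A) • n = (c : A) • ((v : A) • y) from hc) ▸ W.smul_mem _ hn
  · intro h
    refine eq_top_iff.2 fun z _ => ?_
    induction z using LocalizedModule.induction_on with
    | h y s =>
      obtain ⟨v, hv⟩ := h y
      have h1 : ι ((v : A) • y) ∈ Submodule.span (Localization.AtPrime p) (Set.range fun i => ι (x i)) := by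
        have h2 := Submodule.mem_map_of_mem (f := ι) hv
        rw [Submodule.map_span, ← Set.range_comp] at h2
        exact Submodule.span_le_restrictScalars A (Localization.AtPrime p) _ h2
      have h3 := Submodule.smul_mem _ (Localization.mk 1 (s * v)) h1
      rwa [LocalizedModule.mkLinearMap_apply, LocalizedModule.mk_smul_mk, one_smul, mul_one, mul_comm s v,
        show LocalizedModule.mk ((v : A) • y) (v * s) = LocalizedModule.mk y s from
          LocalizedModule.mk_cancel_common_left v s y] at h3

/-- Elements of a finite localised module lift to global elements with the same span. -/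
theorem exists_global_generators {A N : Type u} [CommRing A] [AddCommGroup N] [Module A N] (p : Ideal A) [p.IsPrime]
    {ι' : Type*} (t : ι' → LocalizedModule p.primeCompl N)
    (ht : Submodule.span (Localization.AtPrime p) (Set.range t) = ⊤) :
    ∃ x : ι' → N, Submodule.span (Localization.AtPrime p)
      (Set.range fun i => LocalizedModule.mkLinearMap p.primeCompl N (x i)) = ⊤ := by
  choose x u hxu using fun j => (show ∃ (x : N) (u : p.primeCompl), LocalizedModule.mk x u = t j by
    induction t j using LocalizedModule.induction_on with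
    | h x u => exact ⟨x, u, rfl⟩)
  refine ⟨x, top_le_iff.1 (ht.ge.trans (Submodule.span_le.2 ?_))⟩
  rintro _ ⟨j, rfl⟩
  have h := Submodule.smul_mem (Submodule.span (Localization.AtPrime p)
    (Set.range fun i => LocalizedModule.mkLinearMap p.primeCompl N (x i))) (Localization.mk 1 (u j))
    (Submodule.subset_span ⟨j, rfl⟩)
  simp only [LocalizedModule.mkLinearMap_apply, LocalizedModule.mk_smul_mk, one_smul, mul_one, hxu] at h
  exact h

/-- At a point on a component of dimension `n` at least `n` differentials are needed. -/
theorem dim_le_of_generated {k A : Type u} [Field k] [CommRing A] [IsLocalRing A] [IsNoetherianRing A] [Algebra k A]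
    [IsAdicComplete (maximalIdeal A) A] [Module.Finite k (ResidueField A)] (p q : Ideal A) [p.IsPrime] [q.IsPrime]
    (hqp : q ≤ p) {n : ℕ} (hn : ringKrullDim (A ⧸ q) = n) {M : ℕ}
    (t : Fin M → LocalizedModule p.primeCompl (AdicCompletion (maximalIdeal A) (Ω[A⁄k])))
    (ht : Submodule.span (Localization.AtPrime p) (Set.range t) = ⊤) : n ≤ M := by
  let Ω := AdicCompletion (maximalIdeal A) (Ω[A⁄k])
  haveI : Module.Finite A Ω := finite_completedKaehler k A
  refine (dim_le_finrank_fibre (k := k) q hn).trans ((finrank_fibre_le Ω q p hqp).trans ?_)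
  obtain ⟨x, hx⟩ := exists_global_generators p t ht
  let L := p.ResidueField
  have hspan : Submodule.span L (Set.range fun j => (1 : L) ⊗ₜ[A] x j) = ⊤ := by
    refine eq_top_iff.2 fun z _ => ?_
    induction z using TensorProduct.induction_on with
    | zero => exact zero_mem _
    | add a b ha hb => exact add_mem (ha trivial) (hb trivial)
    | tmul c y =>
      obtain ⟨v, hv⟩ := (span_localized_eq_top_iff p x).1 hx y
      have h1 : (1 : L) ⊗ₜ[A] ((v : A) • y) ∈ Submodule.span L (Set.range fun j => (1 : L) ⊗ₜ[A] x j) := by
        have h2 := Submodule.mem_map_of_mem (f := TensorProduct.mk A L Ω 1) hv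
        rw [Submodule.map_span, ← Set.range_comp] at h2
        exact Submodule.span_le_restrictScalars A L _ h2
      have hv0 : algebraMap A L v ≠ 0 := fun h => v.2 (Ideal.algebraMap_residueField_eq_zero.1 h)
      have h3 := Submodule.smul_mem _ (c / algebraMap A L v) h1
      rwa [TensorProduct.smul_tmul', smul_eq_mul, mul_one, ← TensorProduct.smul_tmul, Algebra.smul_def,
        mul_div_cancel₀ _ hv0] at h3
  calc Module.finrank L (L ⊗[A] Ω) = Module.finrank L (⊤ : Submodule L (L ⊗[A] Ω)) := (finrank_top L _).symm
    _ ≤ M := by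
      rw [← hspan]
      exact (finrank_range_le_card (R := L) _).trans_eq (Fintype.card_fin M)

/-- A primary family of a given size avoiding a non-maximal prime. -/
theorem exists_primary_avoiding {A : Type u} [CommRing A] [IsLocalRing A] [IsNoetherianRing A] (p : Ideal A)
    [p.IsPrime] (hp : p ≠ maximalIdeal A) {n : ℕ} (hn : ringKrullDim A = n) {m : ℕ} (hnm : n ≤ m) :
    ∃ (x : Fin m → A) (N : ℕ), maximalIdeal A ^ N ≤ Ideal.span (Set.range x) ∧ ∀ i, x i ∈ maximalIdeal A ∧ x i ∉ p := by
  classical
  obtain ⟨n', y, N, hN, hn', hym⟩ := CohenLib.exists_primary_family A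
  obtain rfl : n' = n := by rw [hn] at hn'; exact_mod_cast hn'
  obtain ⟨j₀, hj₀⟩ : ∃ j, y j ∉ p := by
    by_contra h
    push Not at h
    exact hp (le_antisymm (le_maximalIdeal (Ideal.IsPrime.ne_top ‹_›))
      (Ideal.IsPrime.le_of_pow_le (n := N) (hN.trans (Ideal.span_le.2 (Set.range_subset_iff.2 h)))))
  let x' : Fin n' → A := fun j => if y j ∈ p then y j + y j₀ else y j
  let x : Fin m → A := fun i => if h : (i : ℕ) < n' then x' ⟨i, h⟩ else y j₀
  have hx' : ∀ j, x' j ∈ maximalIdeal A ∧ x' j ∉ p := fun j => by
    simp only [x']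
    split_ifs with h
    · exact ⟨add_mem (hym j) (hym j₀), fun h' => hj₀ ((Ideal.add_mem_iff_right p h).1 h')⟩
    · exact ⟨hym j, h⟩
  refine ⟨x, N, hN.trans (Ideal.span_le.2 ?_), fun i => ?_⟩
  · have hsub : ∀ j, x' j ∈ Ideal.span (Set.range x) := fun j =>
      Ideal.subset_span ⟨Fin.castLE hnm j, dif_pos (show ((Fin.castLE hnm j : Fin m) : ℕ) < n' from j.2)⟩
    have hy₀ : y j₀ ∈ Ideal.span (Set.range x) := by
      have := hsub j₀
      simpa [x', hj₀] using this
    rintro _ ⟨j, rfl⟩
    have := hsub j
    simp only [x'] at this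
    split_ifs at this with h
    · exact (Ideal.add_mem_iff_left _ hy₀).1 this
    · exact this
  · simp only [x]
    split_ifs
    · exact hx' _
    · exact ⟨hym j₀, hj₀⟩

/-- A primary family gives a finite algebra over power series. -/
theorem exists_finite_algebra {k A : Type u} [Field k] [CommRing A] [IsLocalRing A] [IsNoetherianRing A] [Algebra k A]
    [IsAdicComplete (maximalIdeal A) A] [Module.Finite k (ResidueField A)] {m : ℕ} (x : Fin m → A) (N : ℕ)
    (hN : maximalIdeal A ^ N ≤ Ideal.span (Set.range x)) (hxm : ∀ i, x i ∈ maximalIdeal A) :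
    ∃ (_ : Algebra (MvPowerSeries (Fin m) k) A) (_ : IsScalarTower k (MvPowerSeries (Fin m) k) A),
      IsLocalHom (algebraMap (MvPowerSeries (Fin m) k) A) ∧ Module.Finite (MvPowerSeries (Fin m) k) A ∧
      ∀ i, algebraMap (MvPowerSeries (Fin m) k) A (MvPowerSeries.X i) = x i := by
  classical
  let P := MvPowerSeries (Fin m) k
  let f : P →+* A := CohenLib.psHom (maximalIdeal A) (algebraMap k A) x hxm
  haveI := CohenLib.isRegularLocalRing_mvPowerSeries k m
  haveI := CohenLib.isAdicComplete_varsIdeal (n := m) k
  have hfC : ∀ c, f (MvPowerSeries.C c) = algebraMap k A c := CohenLib.psHom_C _ _ x hxm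
  have hfX : ∀ i, f (MvPowerSeries.X i) = x i := CohenLib.psHom_X _ _ x hxm
  let J : Ideal A := (maximalIdeal P).map f
  have hJ : J = Ideal.span (Set.range x) := by
    show (maximalIdeal P).map f = _
    rw [CohenLib.maximalIdeal_mvPowerSeries_field, CohenLib.varsIdeal, Ideal.map_span, ← Set.range_comp]
    exact congrArg (fun h => Ideal.span (Set.range h)) (funext hfX)
  have hJm : J ≤ maximalIdeal A := by
    rw [hJ, Ideal.span_le]
    rintro z ⟨i, rfl⟩
    exact hxm i
  haveI : IsHausdorff J A := ⟨fun z hz => IsHausdorff.haus (I := maximalIdeal A) inferInstance z fun k =>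
    (hz k).mono (Submodule.smul_mono (Ideal.pow_right_mono hJm k) le_rfl)⟩
  letI : Algebra P A := f.toAlgebra
  haveI : Module.Finite P (ResidueField A) := by
    obtain ⟨t, ht⟩ := (inferInstance : Module.Finite k (ResidueField A)).fg_top
    refine ⟨⟨t, eq_top_iff.2 fun z hz0 => ?_⟩⟩
    clear hz0
    have hz : z ∈ Submodule.span k (t : Set (ResidueField A)) := ht ▸ Submodule.mem_top
    induction hz using Submodule.span_induction with
    | mem y hy => exact Submodule.subset_span hy
    | zero => exact zero_mem _
    | add _ _ _ _ ha hb => exact add_mem ha hb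
    | smul c y _ hy =>
      have h : c • y = (MvPowerSeries.C c : P) • y := by
        rw [Algebra.smul_def, Algebra.smul_def]
        exact congrArg (fun u => residue A u * y) (hfC c).symm
      rw [h]
      exact Submodule.smul_mem _ _ hy
  haveI hfinJ : Module.Finite P (A ⧸ J) := by
    refine finite_of_pow_maximal_killed (P := P) (R := A) N (A ⧸ J) ?_
    rw [eq_bot_iff]
    refine Submodule.smul_le.2 fun a ha z _ => ?_
    obtain ⟨z, rfl⟩ := Ideal.Quotient.mk_surjective z
    rw [Submodule.mem_bot, Algebra.smul_def, Ideal.Quotient.algebraMap_eq, ← map_mul,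
      Ideal.Quotient.eq_zero_iff_mem]
    exact Ideal.mul_mem_right _ _ (hJ ▸ hN ha)
  have hfin : f.Finite := by
    refine CohenLib.finite_of_complete J (CohenLib.varsIdeal k m) f
      (by rw [← CohenLib.maximalIdeal_mvPowerSeries_field]) ?_
    show (algebraMap P (A ⧸ J)).Finite
    exact RingHom.finite_algebraMap.2 hfinJ
  refine ⟨inferInstance, @IsScalarTower.of_algebraMap_eq k P A _ _ _ _ _ _ fun c => ?_,
    ((IsLocalRing.local_hom_TFAE f).out 2 0).1 hJm, hfin, hfX⟩
  show algebraMap k A c = f (algebraMap k P c)
  rw [MvPowerSeries.algebraMap_apply]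
  exact ((congrArg f (by rfl)).trans (hfC c)).symm

/-- Derivations of a finite algebra over power series killing the variables are linear. -/
theorem derivation_algebraMap_eq_zero {k A : Type u} [Field k] [CommRing A] [Algebra k A] {m : ℕ}
    [Algebra (MvPowerSeries (Fin m) k) A] [IsScalarTower k (MvPowerSeries (Fin m) k) A]
    [Module.Finite (MvPowerSeries (Fin m) k) A] {N : Type u} [AddCommGroup N] [Module A N] [Module k N]
    [IsScalarTower k A N] [Module.Finite A N] (δ : Derivation k A N)
    (h : ∀ i, δ (algebraMap (MvPowerSeries (Fin m) k) A (MvPowerSeries.X i)) = 0) (f : MvPowerSeries (Fin m) k) :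
    δ (algebraMap (MvPowerSeries (Fin m) k) A f) = 0 := by
  let P := MvPowerSeries (Fin m) k
  letI : Module P N := Module.compHom N (algebraMap P A)
  haveI : IsScalarTower P A N := ⟨fun a b z => by
    show (a • b) • z = algebraMap P A a • (b • z)
    rw [Algebra.smul_def, mul_smul]⟩
  haveI : IsScalarTower k P N := ⟨fun c a z => by
    show algebraMap P A (c • a) • z = c • (algebraMap P A a • z)
    rw [← IsScalarTower.toAlgHom_apply k P A, map_smul, IsScalarTower.toAlgHom_apply, smul_assoc]⟩
  haveI : Module.Finite P N := Module.Finite.trans A N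
  haveI := CohenLib.isRegularLocalRing_mvPowerSeries k m
  let δ' : Derivation k P N := δ.compAlgebraMap P
  have h0 : δ' = 0 := by
    refine derivation_ext_of_dense (S := MvPolynomial (Fin m) k) (fun n x => ?_) δ' fun a => ?_
    · obtain ⟨q, hq⟩ := CohenLib.exists_polynomial_sub_mem n x
      exact ⟨q, by rwa [CohenLib.maximalIdeal_mvPowerSeries_field]⟩
    · induction a using MvPolynomial.induction_on with
      | C c =>
        rw [← MvPolynomial.algebraMap_eq, ← IsScalarTower.algebraMap_apply]
        exact δ'.map_algebraMap c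
      | add a b ha hb => rw [map_add, map_add, ha, hb, add_zero]
      | mul_X a i ha =>
        have hX : δ' (algebraMap (MvPolynomial (Fin m) k) P (MvPolynomial.X i)) = 0 := by
          show δ (algebraMap P A (algebraMap (MvPolynomial (Fin m) k) P (MvPolynomial.X i))) = 0
          rw [MvPowerSeries.algebraMap_apply']
          simpa using h i
        rw [map_mul, Derivation.leibniz, ha, hX, smul_zero, smul_zero, add_zero]
  exact Derivation.congr_fun h0 f

end CKaehlerLib
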