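import Groth.Agent.CKaehlerLib.PowerGen
import Groth.Agent.S5054

/-!
# Unramified finite maps from power series at the generic point
-/

set_option autoImplicit false
set_option linter.style.haveILetI false
set_option maxHeartbeats 1000000

universe u

open IsLocalRing

namespace CKaehlerLib

/-- A finite map from power series in `dim B` variables to a domain is injective. -/
theorem injective_of_finite {k B : Type u} [Field k] [CommRing B] [IsDomain B] {n : ℕ}
    [Algebra (MvPowerSeries (Fin n) k) B] [Module.Finite (MvPowerSeries (Fin n) k) B] (hn : ringKrullDim B = n) :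
    Function.Injective (algebraMap (MvPowerSeries (Fin n) k) B) := by
  let P := MvPowerSeries (Fin n) k
  haveI := CohenLib.isRegularLocalRing_mvPowerSeries k n
  rw [RingHom.injective_iff_ker_eq_bot]
  by_contra hker
  letI : Algebra (P ⧸ RingHom.ker (algebraMap P B)) B :=
    (Ideal.Quotient.lift (RingHom.ker (algebraMap P B)) (algebraMap P B) fun _ h => h).toAlgebra
  haveI : IsScalarTower P (P ⧸ RingHom.ker (algebraMap P B)) B :=
    @IsScalarTower.of_algebraMap_eq P (P ⧸ RingHom.ker (algebraMap P B)) B _ _ _ _ _ _ fun _ => rfl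
  haveI : Module.Finite (P ⧸ RingHom.ker (algebraMap P B)) B := Module.Finite.of_restrictScalars_finite P _ B
  have h1 : ringKrullDim B ≤ ringKrullDim (P ⧸ RingHom.ker (algebraMap P B)) :=
    CohenLib.ringKrullDim_le_of_isIntegral _ _
  have h2 := CommAlgDim.ringKrullDim_quotient_lt (R := P) (I := RingHom.ker (algebraMap P B)) hker
  rw [CohenLib.ringKrullDim_mvPowerSeries_field] at h2
  exact lt_irrefl _ (h1.trans_lt (h2.trans_eq hn.symm))

/-- In characteristic zero every finite injective map from a domain is unramified at the generic point. -/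
theorem isUnramifiedAt_bot (P B : Type u) [CommRing P] [IsDomain P] [CommRing B] [IsDomain B] [Algebra P B]
    [Module.Finite P B] [CharZero P] (hinj : Function.Injective (algebraMap P B)) :
    Algebra.IsUnramifiedAt P (⊥ : Ideal B) := by
  haveI : FaithfulSMul P B := (faithfulSMul_iff_algebraMap_injective P B).2 hinj
  letI : Algebra (FractionRing P) (FractionRing B) := FractionRing.liftAlgebra P (FractionRing B)
  haveI : Module.Finite (FractionRing P) (FractionRing B) :=
    NormalLib.finiteDimensional_fractionRing (R := P) (S := B) _ _ hinj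
  haveI : CharZero (FractionRing P) :=
    charZero_of_injective_algebraMap (IsFractionRing.injective P (FractionRing P))
  haveI : Algebra.FormallyUnramified P (FractionRing P) :=
    Algebra.FormallyUnramified.of_isLocalization (nonZeroDivisors P)
  haveI : Algebra.FormallyUnramified (FractionRing P) (FractionRing B) :=
    Algebra.FormallyUnramified.of_isSeparable _ _
  haveI : Algebra.FormallyUnramified P (FractionRing B) :=
    Algebra.FormallyUnramified.comp P (FractionRing P) (FractionRing B)
  haveI : IsLocalization (nonZeroDivisors B) (Localization.AtPrime (⊥ : Ideal B)) := by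
    simpa [Ideal.primeCompl_bot] using Localization.isLocalization (M := (⊥ : Ideal B).primeCompl)
  exact Algebra.FormallyUnramified.of_equiv
    ((IsLocalization.algEquiv (nonZeroDivisors B) (FractionRing B)
      (Localization.AtPrime (⊥ : Ideal B))).restrictScalars P)

/-- Few generic differentials give a finite map unramified at the generic point. -/
theorem exists_unramified_of_generators {k B : Type u} [Field k] [CommRing B] [IsDomain B] [IsLocalRing B]
    [IsNoetherianRing B] [Algebra k B] [IsAdicComplete (maximalIdeal B) B] [Module.Finite k (ResidueField B)]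
    (hB : ¬ IsField B) {n : ℕ} (hn : ringKrullDim B = n) (ω : Fin n → Ω[B⁄k])
    (hω : ∀ y : Ω[B⁄k], ∃ v : B, v ≠ 0 ∧ v • y ∈ Submodule.span B (Set.range ω)) :
    ∃ (_ : Algebra (MvPowerSeries (Fin n) k) B) (_ : IsScalarTower k (MvPowerSeries (Fin n) k) B),
      IsLocalHom (algebraMap (MvPowerSeries (Fin n) k) B) ∧
        Function.Injective (algebraMap (MvPowerSeries (Fin n) k) B) ∧
        Module.Finite (MvPowerSeries (Fin n) k) B ∧
        Algebra.IsUnramifiedAt (MvPowerSeries (Fin n) k) (⊥ : Ideal B) := by
  have hbot : (⊥ : Ideal B) ≠ maximalIdeal B := fun h => hB (isField_iff_maximalIdeal_eq.2 h.symm)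
  have hmin : (⊥ : Ideal B) ∈ minimalPrimes B := by
    rw [IsDomain.minimalPrimes_eq_singleton_bot]; rfl
  have hq : ∃ q ∈ minimalPrimes B, q ≤ (⊥ : Ideal B) ∧ ringKrullDim (B ⧸ q) = ringKrullDim B :=
    ⟨⊥, hmin, le_rfl, (RingEquiv.quotientBot B).ringKrullDim⟩
  let o := AdicCompletion.of (maximalIdeal B) (Ω[B⁄k])
  have hspan : Submodule.span (Localization.AtPrime (⊥ : Ideal B)) (Set.range fun i =>
      LocalizedModule.mkLinearMap (⊥ : Ideal B).primeCompl _ (o (ω i))) = ⊤ := by
    rw [span_localized_eq_top_iff (⊥ : Ideal B) fun i => o (ω i)]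
    intro y
    obtain ⟨y, rfl⟩ := of_kaehler_surjective k B y
    obtain ⟨v, hv0, hv⟩ := hω y
    refine ⟨⟨v, fun h => hv0 ((Submodule.mem_bot B).1 h)⟩, ?_⟩
    have h := Submodule.mem_map_of_mem (f := o) hv
    rw [Submodule.map_span, ← Set.range_comp, map_smul] at h
    exact h
  obtain ⟨alg, tow, hloc, hfin, hunr⟩ :=
    (Groth.Agent.S5054.result k B (⊥ : Ideal B) hbot hq n).1 ⟨_, hspan⟩
  exact ⟨alg, tow, hloc, injective_of_finite hn, hfin, hunr⟩

/-- A copy of `k` over itself along the iterated Frobenius. -/
theorem exists_root_field (p e : ℕ) (k : Type u) [Field k] [ExpChar k p] (hk : (frobenius k p).Finite) :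
    ∃ (k' : Type u) (_ : Field k') (_ : Algebra k k') (ι : k' ≃+* k),
      (∀ c, ι (algebraMap k k' c) = c ^ p ^ e) ∧ Module.Finite k k' := by
  have hfin : ∀ e, (iterateFrobenius k p e).Finite := by
    intro e
    induction e with
    | zero =>
      rw [show iterateFrobenius k p 0 = RingHom.id k from RingHom.ext fun x => by
        show x ^ p ^ 0 = x
        rw [pow_zero, pow_one]]
      exact RingHom.Finite.id k
    | succ e ih =>
      rw [show iterateFrobenius k p (e + 1) = (frobenius k p).comp (iterateFrobenius k p e) from
        RingHom.ext fun x => by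
          show x ^ p ^ (e + 1) = (x ^ p ^ e) ^ p
          rw [pow_succ, pow_mul]]
      exact hk.comp ih
  exact ⟨k, inferInstance, (iterateFrobenius k p e).toAlgebra, RingEquiv.refl k, fun _ => rfl, hfin e⟩

end CKaehlerLib
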