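import Groth.Agent.CKaehlerLib.PowerModel
import Groth.Agent.CKaehlerLib.FracDiff

/-!
# Few differentials after a large purely inseparable base change
-/

set_option autoImplicit false
set_option linter.style.haveILetI false
set_option maxHeartbeats 1000000

universe u

open IsLocalRing TensorProduct

namespace CKaehlerLib

/-- For a large `e` the field `k(L^(p^e))` has at most `dim A` generators over `p`-th powers. -/
theorem exists_powField_generators (p : ℕ) [Fact p.Prime] {k A : Type u} [Field k] [CharP k p] [ExpChar k p]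
    (hk : Module.Finite (frobenius k p).fieldRange k) [CommRing A] [IsDomain A] [IsNoetherianRing A]
    [IsLocalRing A] [Algebra k A] [IsAdicComplete (maximalIdeal A) A] [Module.Finite k (ResidueField A)]
    {n : ℕ} (hn : ringKrullDim A = n) (L : Type u) [Field L] [Algebra A L] [IsFractionRing A L] [Algebra k L]
    [IsScalarTower k A L] [CharP L p] :
    ∃ (e : ℕ) (x : Fin n → L), (∀ i, x i ∈ powField p k L e) ∧ ∀ S : Subfield L, (∀ c : k, algebraMap k L c ∈ S) →
      (∀ a ∈ powField p k L e, a ^ p ∈ S) → (∀ i, x i ∈ S) → ∀ a ∈ powField p k L e, a ∈ S := by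
  classical
  obtain ⟨φ, hφinj, hφfin, -⟩ := exists_finite_injective k A n hn
  haveI : IsDomain (MvPowerSeries (Fin n) k) := NoZeroDivisors.to_isDomain _
  letI : Algebra (MvPowerSeries (Fin n) k) A := φ.toRingHom.toAlgebra
  haveI : Module.Finite (MvPowerSeries (Fin n) k) A := hφfin
  letI : Algebra (MvPowerSeries (Fin n) k) L := ((algebraMap A L).comp φ.toRingHom).toAlgebra
  haveI : IsScalarTower (MvPowerSeries (Fin n) k) A L := IsScalarTower.of_algebraMap_eq fun _ => rfl
  haveI : FaithfulSMul (MvPowerSeries (Fin n) k) L :=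
    (faithfulSMul_iff_algebraMap_injective (MvPowerSeries (Fin n) k) L).2
      ((IsFractionRing.injective A L).comp hφinj)
  let K := FractionRing (MvPowerSeries (Fin n) k)
  letI : Algebra K L := FractionRing.liftAlgebra (MvPowerSeries (Fin n) k) L
  haveI : Module.Finite K L :=
    NormalLib.finiteDimensional_fractionRing (R := MvPowerSeries (Fin n) k) (S := A) K L hφinj
  haveI : IsScalarTower k (MvPowerSeries (Fin n) k) L := IsScalarTower.of_algebraMap_eq fun c => by
    show algebraMap k L c = algebraMap A L (φ (algebraMap k (MvPowerSeries (Fin n) k) c))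
    rw [φ.commutes, ← IsScalarTower.algebraMap_apply]
  haveI : IsScalarTower k K L := IsScalarTower.of_algebraMap_eq fun c => by
    rw [IsScalarTower.algebraMap_apply k (MvPowerSeries (Fin n) k) K,
      ← IsScalarTower.algebraMap_apply (MvPowerSeries (Fin n) k) K L, ← IsScalarTower.algebraMap_apply]
  haveI : CharP K p := charP_of_injective_algebraMap (algebraMap k K).injective p
  haveI : Module.Finite (MvPowerSeries (Fin n) k) (Ω[MvPowerSeries (Fin n) k⁄k]) :=
    finite_kaehler_of_frobenius p hk (AlgHom.id k _) (RingHom.Finite.id _)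
  obtain ⟨hfin, hrank⟩ := finrank_kaehler_frac (n := n) k K
  let t : ULift.{u} (Fin n) → K := fun i => algebraMap (MvPowerSeries (Fin n) k) K (MvPowerSeries.X i.down)
  have hli : LinearIndependent K fun i => KaehlerDifferential.D k K (t i) :=
    (linearIndependent_dX (n := n) k K).comp ULift.down ULift.down_injective
  have hspan : Submodule.span K (Set.range fun i => KaehlerDifferential.D k K (t i)) = ⊤ :=
    hli.span_eq_top_of_card_eq_finrank' (by rw [Fintype.card_ulift, Fintype.card_fin, hrank])
  have hadj := (Groth.Agent.PBasisLib.isPGenerating_iff p t).1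
    ((Groth.Agent.PBasisLib.isPGenerating_iff_span (A := k) p t).2 hspan)
  have ht : Algebra.adjoin (EGA41.pPowerSubalgebra p k K) (Set.range fun i : Fin n => t ⟨i⟩) = ⊤ := by
    rwa [show (Set.range fun i : Fin n => t ⟨i⟩) = Set.range t from
      Set.ext fun z => ⟨fun ⟨i, hi⟩ => ⟨⟨i⟩, hi⟩, fun ⟨i, hi⟩ => ⟨i.down, hi⟩⟩]
  obtain ⟨e, he⟩ := exists_relfinrank_lt (p := p) (k := k) (L := L) (finrank_powField_le K ht)
  haveI := (finrank_powField_le (L := L) K ht (e + 1)).1
  exact ⟨e, exists_generators_of_relfinrank_lt he⟩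

section Transfer

variable {p e : ℕ} [Fact p.Prime] {k k' A A' : Type u} [Field k] [CharP k p] [Field k'] [Algebra k k'] (ι : k' ≃+* k)
  [CommRing A] [IsDomain A] [Algebra k A] (L : Type u) [Field L] [Algebra A L] [IsFractionRing A L] [Algebra k L]
  [IsScalarTower k A L] [CharP L p] [CommRing A'] [IsDomain A'] [Algebra k' A'] (φ : A' →+* A)

/-- The generators give generators of the differentials of the reduced base change. -/
theorem exists_differential_generators (hφinj : Function.Injective φ)
    (hc : ∀ c, φ (algebraMap k' A' c) = algebraMap k A (ι c))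
    (hpow : ∀ a, ∃ w, φ w = a ^ p ^ e) (himg : ∀ w, algebraMap A L (φ w) ∈ powField p k L e)
    {n : ℕ} {x : Fin n → L} (hx : ∀ i, x i ∈ powField p k L e)
    (hgen : ∀ S : Subfield L, (∀ c : k, algebraMap k L c ∈ S) →
      (∀ a ∈ powField p k L e, a ^ p ∈ S) → (∀ i, x i ∈ S) → ∀ a ∈ powField p k L e, a ∈ S) :
    ∃ ω : Fin n → Ω[A'⁄k'], ∀ y : Ω[A'⁄k'], ∃ v : A', v ≠ 0 ∧ v • y ∈ Submodule.span A' (Set.range ω) := by
  classical
  let L' := FractionRing A'
  have hinj : Function.Injective ((algebraMap A L).comp φ) := (IsFractionRing.injective A L).comp hφinj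
  let χ : L' →+* L := IsFractionRing.lift hinj
  have hχ : ∀ w, χ (algebraMap A' L' w) = algebraMap A L (φ w) := fun w =>
    IsFractionRing.lift_algebraMap hinj w
  have hχc : ∀ c, χ (algebraMap k' L' c) = algebraMap k L (ι c) := fun c => by
    rw [IsScalarTower.algebraMap_apply k' A' L', hχ, hc, ← IsScalarTower.algebraMap_apply]
  have hrange : ∀ a : L, a ∈ powField p k L e → ∃ z, χ z = a := by
    intro a ha
    induction ha using IntermediateField.adjoin_induction with
    | mem y hy =>
      obtain ⟨b, rfl⟩ := hy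
      obtain ⟨u, v, -, rfl⟩ := IsFractionRing.div_surjective (A := A) b
      obtain ⟨u', hu⟩ := hpow u
      obtain ⟨v', hv⟩ := hpow v
      exact ⟨algebraMap A' L' u' / algebraMap A' L' v', by
        rw [map_div₀, hχ, hχ, hu, hv, map_pow, map_pow, ← div_pow]⟩
    | algebraMap c => exact ⟨algebraMap k' L' (ι.symm c), by rw [hχc, RingEquiv.apply_symm_apply]⟩
    | add y z _ _ h1 h2 =>
      obtain ⟨a, rfl⟩ := h1
      obtain ⟨b, rfl⟩ := h2
      exact ⟨a + b, map_add χ a b⟩
    | inv y _ h1 =>
      obtain ⟨a, rfl⟩ := h1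
      exact ⟨a⁻¹, map_inv₀ χ a⟩
    | mul y z _ _ h1 h2 =>
      obtain ⟨a, rfl⟩ := h1
      obtain ⟨b, rfl⟩ := h2
      exact ⟨a * b, map_mul χ a b⟩
  have hmem : ∀ z, χ z ∈ powField p k L e := by
    intro z
    obtain ⟨u, v, -, rfl⟩ := IsFractionRing.div_surjective (A := A') z
    rw [map_div₀, hχ, hχ]
    exact div_mem (himg u) (himg v)
  choose x' hx' using fun i => hrange (x i) (hx i)
  let W : Submodule L' (Ω[L'⁄k']) := Submodule.span L' (Set.range fun i => KaehlerDifferential.D k' L' (x' i))
  let δ := W.mkQ.compDer (KaehlerDifferential.D k' L')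
  let S₀ : Subfield L' :=
    { carrier := {z | δ z = 0}
      mul_mem' := fun {a b} (ha : δ a = 0) (hb : δ b = 0) => show δ (a * b) = 0 by
        rw [Derivation.leibniz, ha, hb, smul_zero, smul_zero, add_zero]
      one_mem' := δ.map_one_eq_zero
      add_mem' := fun {a b} (ha : δ a = 0) (hb : δ b = 0) => show δ (a + b) = 0 by rw [map_add, ha, hb, add_zero]
      zero_mem' := map_zero δ
      neg_mem' := fun {a} (ha : δ a = 0) => show δ (-a) = 0 by rw [map_neg, ha, neg_zero]
      inv_mem' := fun a (ha : δ a = 0) => show δ a⁻¹ = 0 by rw [Derivation.leibniz_inv, ha, smul_zero] }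
  haveI : CharP L' p := RingHom.charP χ χ.injective p
  have hW : W = ⊤ := by
    rw [eq_top_iff, ← KaehlerDifferential.span_range_derivation, Submodule.span_le]
    rintro _ ⟨y, rfl⟩
    refine (Submodule.Quotient.mk_eq_zero W).1 (?_ : δ y = 0)
    obtain ⟨z, hz, hzy⟩ := hgen (S₀.map χ)
      (fun c => ⟨algebraMap k' L' (ι.symm c), δ.map_algebraMap _, by rw [hχc, RingEquiv.apply_symm_apply]⟩)
      (fun a ha => by
        obtain ⟨z, rfl⟩ := hrange a ha
        refine ⟨z ^ p, ?_, map_pow χ z p⟩
        show δ (z ^ p) = 0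
        rw [Derivation.leibniz_pow, ← Nat.cast_smul_eq_nsmul L', CharP.cast_eq_zero, zero_smul])
      (fun i => ⟨x' i, (Submodule.Quotient.mk_eq_zero W).2 (Submodule.subset_span ⟨i, rfl⟩), hx' i⟩)
      (χ y) (hmem y)
    obtain rfl := χ.injective hzy
    exact hz
  let f := KaehlerDifferential.map k' k' A' L'
  choose ωs hωs using fun i => IsLocalizedModule.surj (nonZeroDivisors A') f (KaehlerDifferential.D k' L' (x' i))
  refine ⟨fun i => (ωs i).1, fun y => ?_⟩
  have htop : Submodule.span L' (f '' Set.range fun i => (ωs i).1) = ⊤ := by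
    rw [eq_top_iff, ← hW, Submodule.span_le]
    rintro _ ⟨i, rfl⟩
    have h : algebraMap A' L' (ωs i).2.1 • KaehlerDifferential.D k' L' (x' i) = f (ωs i).1 :=
      (algebraMap_smul L' _ _).trans (hωs i)
    have h0 : algebraMap A' L' (ωs i).2.1 ≠ 0 :=
      IsFractionRing.to_map_ne_zero_of_mem_nonZeroDivisors (ωs i).2.2
    show KaehlerDifferential.D k' L' (x' i) ∈ _
    rw [← inv_smul_smul₀ h0 (KaehlerDifferential.D k' L' (x' i)), h]
    exact Submodule.smul_mem _ _ (Submodule.subset_span ⟨_, ⟨i, rfl⟩, rfl⟩)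
  have hy : f y ∈ (Submodule.span A' (Set.range fun i => (ωs i).1)).localized' L' (nonZeroDivisors A') f := by
    rw [Submodule.localized'_span, htop]; trivial
  obtain ⟨m, hm, s, hms⟩ := hy
  rw [IsLocalizedModule.mk'_eq_iff] at hms
  obtain ⟨c, hc'⟩ := (IsLocalizedModule.eq_iff_exists (nonZeroDivisors A') f (x₁ := m) (x₂ := (s : A') • y)).1
    (hms.trans (map_smul f (s : A') y).symm)
  refine ⟨c * s, mul_ne_zero (nonZeroDivisors.coe_ne_zero c) (nonZeroDivisors.coe_ne_zero s), ?_⟩
  rw [mul_smul, ← show (c : A') • m = (c : A') • ((s : A') • y) from hc']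
  exact Submodule.smul_mem _ _ hm

end Transfer

end CKaehlerLib
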