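import Groth.Agent.CKaehlerLib.PowerDegree
import Groth.Agent.CKaehlerLib.Unramified
import Groth.Agent.CompleteLib.Basic
import Groth.Agent.CommAlgDim.Integral
import Groth.Agent.S9604

/-!
# The reduced base change along an iterated Frobenius
-/

set_option autoImplicit false
set_option linter.style.haveILetI false
set_option maxHeartbeats 1000000

universe u

open IsLocalRing TensorProduct

namespace CKaehlerLib

/-- Two compatible homomorphisms define one on the tensor product. -/
theorem exists_tensor_hom {R S₁ S₂ C : Type u} [CommRing R] [CommRing S₁] [CommRing S₂] [CommRing C] [Algebra R S₁]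
    [Algebra R S₂] (f : S₁ →+* C) (g : S₂ →+* C) (h : ∀ r, g (algebraMap R S₂ r) = f (algebraMap R S₁ r)) :
    ∃ ψ : S₁ ⊗[R] S₂ →+* C, ∀ s t, ψ (s ⊗ₜ[R] t) = f s * g t := by
  letI : Algebra R C := (f.comp (algebraMap R S₁)).toAlgebra
  exact ⟨(Algebra.TensorProduct.lift (⟨f, fun _ => rfl⟩ : S₁ →ₐ[R] C) (⟨g, h⟩ : S₂ →ₐ[R] C)
    fun _ _ => Commute.all _ _).toRingHom, fun s t => Algebra.TensorProduct.lift_tmul _ _ _ s t⟩

section Model

variable (p e : ℕ) {k k' A : Type u} [Field k] [ExpChar k p] [Field k'] [Algebra k k'] (ι : k' ≃+* k)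
  (hι : ∀ c, ι (algebraMap k k' c) = c ^ p ^ e) [CommRing A] [IsDomain A] [Algebra k A]

include hι

/-- `k'` lies above `k` by `p^e`-th roots. -/
theorem algebraMap_iota (c : k') : algebraMap k k' (ι c) = c ^ p ^ e :=
  ι.injective ((hι _).trans (map_pow ι c _).symm)

theorem isPurelyInseparable_iota : IsPurelyInseparable k k' :=
  (isPurelyInseparable_iff_pow_mem k p).2 fun c => ⟨e, ι c, algebraMap_iota p e ι hι c⟩

/-- The comparison of the base change with `A`. -/
theorem exists_psi : ∃ ψ : k' ⊗[k] A →+* A, (∀ c a, ψ (c ⊗ₜ a) = algebraMap k A (ι c) * a ^ p ^ e) ∧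
    (∀ z, z ^ p ^ e = (1 : k') ⊗ₜ[k] ψ z) ∧ RingHom.ker ψ = nilradical (k' ⊗[k] A) := by
  haveI : ExpChar A p := expChar_of_injective_algebraMap (algebraMap k A).injective p
  obtain ⟨ψ, hψ⟩ := exists_tensor_hom (R := k) ((algebraMap k A).comp ι.toRingHom) (iterateFrobenius A p e)
    fun r => by
      show algebraMap k A r ^ p ^ e = algebraMap k A (ι (algebraMap k k' r))
      rw [hι, map_pow]
  have hψ' : ∀ c a, ψ (c ⊗ₜ a) = algebraMap k A (ι c) * a ^ p ^ e := fun c a => hψ c a
  haveI : Nontrivial (k' ⊗[k] A) := ψ.domain_nontrivial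
  haveI : ExpChar (k' ⊗[k] A) p :=
    expChar_of_injective_algebraMap (algebraMap k (k' ⊗[k] A)).injective p
  have hpow : ∀ z, z ^ p ^ e = (1 : k') ⊗ₜ[k] ψ z := by
    intro z
    induction z using TensorProduct.induction_on with
    | zero => rw [map_zero, TensorProduct.tmul_zero, zero_pow (expChar_pow_pos k p e).ne']
    | tmul c a =>
      rw [Algebra.TensorProduct.tmul_pow, hψ', ← algebraMap_iota p e ι hι c, Algebra.algebraMap_eq_smul_one,
        TensorProduct.smul_tmul, Algebra.smul_def]
    | add x y hx hy => rw [map_add, TensorProduct.tmul_add, add_pow_expChar_pow, hx, hy]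
  refine ⟨ψ, hψ', hpow, SetLike.ext fun z => ⟨fun h => mem_nilradical.2 ⟨p ^ e, ?_⟩, fun h => ?_⟩⟩
  · rw [hpow, RingHom.mem_ker.1 h, TensorProduct.tmul_zero]
  · obtain ⟨m, hm⟩ := mem_nilradical.1 h
    exact RingHom.mem_ker.2 (IsReduced.eq_zero _ ⟨m, by rw [← map_pow, hm, map_zero]⟩)

/-- The reduced base change is a complete local domain of the same dimension. -/
theorem exists_model [IsNoetherianRing A] [IsLocalRing A] [IsAdicComplete (maximalIdeal A) A]
    [Module.Finite k k'] [Module.Finite k (ResidueField A)] :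
    ∃ (_ : IsDomain ((k' ⊗[k] A) ⧸ nilradical (k' ⊗[k] A)))
      (_ : IsLocalRing ((k' ⊗[k] A) ⧸ nilradical (k' ⊗[k] A))),
      IsNoetherianRing ((k' ⊗[k] A) ⧸ nilradical (k' ⊗[k] A)) ∧
      IsAdicComplete (maximalIdeal ((k' ⊗[k] A) ⧸ nilradical (k' ⊗[k] A))) ((k' ⊗[k] A) ⧸ nilradical (k' ⊗[k] A)) ∧
      Module.Finite k' (ResidueField ((k' ⊗[k] A) ⧸ nilradical (k' ⊗[k] A))) ∧
      ringKrullDim ((k' ⊗[k] A) ⧸ nilradical (k' ⊗[k] A)) = ringKrullDim A ∧
      (IsField ((k' ⊗[k] A) ⧸ nilradical (k' ⊗[k] A)) → IsField A) ∧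
      ∃ φ : (k' ⊗[k] A) ⧸ nilradical (k' ⊗[k] A) →+* A, Function.Injective φ ∧
        ∀ c a, φ (Ideal.Quotient.mk _ (c ⊗ₜ a)) = algebraMap k A (ι c) * a ^ p ^ e := by
  classical
  obtain ⟨ψ, hψ, hpow, hker⟩ := exists_psi p e ι hι (A := A)
  haveI : ExpChar A p := expChar_of_injective_algebraMap (algebraMap k A).injective p
  let φ : (k' ⊗[k] A) ⧸ nilradical (k' ⊗[k] A) →+* A :=
    Ideal.Quotient.lift _ ψ fun z hz => RingHom.mem_ker.1 (hker ▸ hz)
  have hφ : ∀ z, φ (Ideal.Quotient.mk _ z) = ψ z := fun z => Ideal.Quotient.lift_mk _ _ _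
  have hφinj : Function.Injective φ := by
    refine (injective_iff_map_eq_zero φ).2 fun w hw => ?_
    obtain ⟨z, rfl⟩ := Ideal.Quotient.mk_surjective w
    rw [hφ, ← RingHom.mem_ker, hker] at hw
    exact Ideal.Quotient.eq_zero_iff_mem.2 hw
  haveI hdom : IsDomain ((k' ⊗[k] A) ⧸ nilradical (k' ⊗[k] A)) :=
    haveI := hφinj.noZeroDivisors φ (map_zero φ) (map_mul φ)
    haveI := φ.domain_nontrivial
    NoZeroDivisors.to_isDomain _
  letI : Algebra A (k' ⊗[k] A) := (Algebra.TensorProduct.includeRight (R := k) (A := k') (B := A)).toRingHom.toAlgebra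
  haveI hTfin : Module.Finite A (k' ⊗[k] A) := by
    obtain ⟨d, c, hc⟩ := Module.Finite.exists_fin (R := k) (M := k')
    refine ⟨⟨Finset.univ.image fun j => c j ⊗ₜ[k] (1 : A), eq_top_iff.2 fun z _ => ?_⟩⟩
    rw [Finset.coe_image, Finset.coe_univ, Set.image_univ]
    induction z using TensorProduct.induction_on with
    | zero => exact zero_mem _
    | add x y hx hy => exact add_mem (hx trivial) (hy trivial)
    | tmul x a =>
      have hx : x ∈ Submodule.span k (Set.range c) := by rw [hc]; trivial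
      induction hx using Submodule.span_induction generalizing a with
      | mem y hy =>
        obtain ⟨j, rfl⟩ := hy
        have h : c j ⊗ₜ[k] a = a • (c j ⊗ₜ[k] (1 : A)) := by
          rw [Algebra.smul_def]
          show _ = ((1 : k') ⊗ₜ[k] a) * (c j ⊗ₜ[k] (1 : A))
          rw [Algebra.TensorProduct.tmul_mul_tmul, one_mul, mul_one]
        rw [h]
        exact Submodule.smul_mem _ _ (Submodule.subset_span ⟨j, rfl⟩)
      | zero => rw [TensorProduct.zero_tmul]; exact zero_mem _
      | add u v _ _ hu hv => rw [TensorProduct.add_tmul]; exact add_mem (hu a trivial) (hv a trivial)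
      | smul r u _ hu => rw [TensorProduct.smul_tmul]; exact hu (r • a) trivial
  let A' := (k' ⊗[k] A) ⧸ nilradical (k' ⊗[k] A)
  haveI hfin : Module.Finite A A' := Module.Finite.of_surjective
    (IsScalarTower.toAlgHom A (k' ⊗[k] A) A').toLinearMap Ideal.Quotient.mk_surjective
  have halg : ∀ a, φ (algebraMap A A' a) = a ^ p ^ e := fun a => by
    show φ (Ideal.Quotient.mk _ ((1 : k') ⊗ₜ[k] a)) = _
    rw [hφ, hψ, map_one, map_one, one_mul]
  have hinj : Function.Injective (algebraMap A A') := fun a b h => by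
    have h1 := congrArg φ h
    rw [halg, halg] at h1
    exact iterateFrobenius_inj A p e h1
  have hpow' : ∀ w : A', w ^ p ^ e = algebraMap A A' (φ w) := by
    intro w
    obtain ⟨z, rfl⟩ := Ideal.Quotient.mk_surjective w
    rw [hφ, ← map_pow, hpow]
    rfl
  have hq : p ^ e ≠ 0 := (expChar_pow_pos k p e).ne'
  haveI : IsLocalHom φ := ⟨fun w hw => by
    have h := hw.map (algebraMap A A')
    rw [← hpow'] at h
    exact (isUnit_pow_iff hq).1 h⟩
  haveI hloc : IsLocalRing A' := φ.domain_isLocalRing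
  haveI hnoeth : IsNoetherianRing A' := IsNoetherianRing.of_finite A A'
  haveI hlhom : IsLocalHom (algebraMap A A') := ⟨fun a ha => by
    have h := ha.map φ
    rw [halg] at h
    exact (isUnit_pow_iff hq).1 h⟩
  let J := (maximalIdeal A).map (algebraMap A A')
  haveI : IsAdicComplete (maximalIdeal A) A' := CompleteLib.isAdicComplete_of_finite
  haveI hJ : IsAdicComplete J A' := (IsAdicComplete.map_algebraMap_iff (maximalIdeal A) A').2 inferInstance
  have hle : J ≤ maximalIdeal A' :=
    Ideal.map_le_iff_le_comap.2 fun a ha => fun hu => ha (isUnit_of_map_unit (algebraMap A A') a hu)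
  have hrad : maximalIdeal A' ≤ J.radical := fun w hw => ⟨p ^ e, by
    rw [hpow']
    exact Ideal.mem_map_of_mem _ fun hu => hw (isUnit_of_map_unit φ w hu)⟩
  obtain ⟨m, hm⟩ := Ideal.exists_pow_le_of_le_radical_of_fg hrad (IsNoetherian.noetherian _)
  have hcompl : IsAdicComplete (maximalIdeal A') A' :=
    (Groth.Agent.S9604.result (maximalIdeal A') J (m + 1) 1 (Nat.succ_pos m) one_pos
      ((Ideal.pow_le_pow_right (Nat.le_succ m)).trans hm) (by rwa [pow_one]) A').2 hJ
  have hres : Module.Finite k' (ResidueField A') := by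
    have h1 : ((residue A').comp (algebraMap A A')).Finite :=
      RingHom.Finite.comp (RingHom.Finite.of_surjective _ residue_surjective)
        (RingHom.finite_algebraMap.2 hfin)
    rw [← ResidueField.map_comp_residue] at h1
    have h2 : ((ResidueField.map (algebraMap A A')).comp (algebraMap k (ResidueField A))).Finite :=
      RingHom.Finite.comp (RingHom.Finite.of_comp_finite h1) (RingHom.finite_algebraMap.2 inferInstance)
    have h3 : (algebraMap k' (ResidueField A')).comp (algebraMap k k') =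
        (ResidueField.map (algebraMap A A')).comp (algebraMap k (ResidueField A)) := RingHom.ext fun c => by
      show residue A' (Ideal.Quotient.mk _ (algebraMap k k' c ⊗ₜ[k] (1 : A))) =
        residue A' (Ideal.Quotient.mk _ ((1 : k') ⊗ₜ[k] algebraMap k A c))
      rw [Algebra.algebraMap_eq_smul_one, Algebra.algebraMap_eq_smul_one, TensorProduct.smul_tmul]
    rw [← h3] at h2
    exact RingHom.finite_algebraMap.1 (RingHom.Finite.of_comp_finite h2)
  haveI : Algebra.IsIntegral A A' := Algebra.IsIntegral.of_finite A A'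
  exact ⟨hdom, hloc, hnoeth, hcompl, hres, CommAlgDim.ringKrullDim_eq_of_integral A A' hinj,
    fun h => isField_of_isIntegral_of_isField hinj h, φ, hφinj, fun c a => (hφ _).trans (hψ c a)⟩

end Model

end CKaehlerLib
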