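import Groth.Agent.CKaehlerLib.Cover

/-!
# The Jacobian presentation of completed differentials
-/

set_option autoImplicit false
set_option linter.style.haveILetI false
set_option maxHeartbeats 1000000
set_option synthInstance.maxHeartbeats 200000

universe u

open IsLocalRing Groth.Agent

namespace CKaehlerLib

variable {k P : Type u} [Field k] [CommRing P] [IsLocalRing P] [IsNoetherianRing P] [Algebra k P] {s : ℕ}
  {Y : Fin s → P} {D : Fin s → Derivation k P P}

/-- The Jacobian row of an element. -/
def jacobianRow (A : Type u) [CommRing A] [Algebra P A] (D : Fin s → Derivation k P P) (f : P) : Fin s → A :=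
  fun i => algebraMap P A (D i f)

/-- Every derivation is the combination of the dual derivations given by its values on the coordinates. -/
theorem derivation_eq_sum (hcov : IsCover k P Y D) {N : Type u} [AddCommGroup N] [Module P N] [Module k N]
    [IsScalarTower k P N] [Module.Finite P N] (δ : Derivation k P N) (g : P) : δ g = ∑ i, D i g • δ (Y i) := by
  let δ' : Derivation k P N := Derivation.mk' (∑ i, (LinearMap.toSpanSingleton P N (δ (Y i))).restrictScalars k ∘ₗ
    (D i).toLinearMap) fun a b => by
      simp only [LinearMap.sum_apply, LinearMap.comp_apply, LinearMap.restrictScalars_apply,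
        LinearMap.toSpanSingleton_apply, Derivation.coeFn_coe, Derivation.leibniz, smul_eq_mul, add_smul, mul_smul,
        Finset.smul_sum, ← Finset.sum_add_distrib]
  have hδ' : ∀ g, δ' g = ∑ i, D i g • δ (Y i) := fun g => by
    simp [δ', LinearMap.sum_apply]
  have h := hcov.2.2 N (δ - δ') fun j => by
    rw [Derivation.sub_apply, hδ', Finset.sum_eq_single j (fun i _ hi => by rw [hcov.2.1, if_neg hi, zero_smul])
      (fun hn => absurd (Finset.mem_univ j) hn), hcov.2.1, if_pos rfl, one_smul, sub_self]
  rw [← hδ', ← sub_eq_zero, ← Derivation.sub_apply, h]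
  rfl

variable (A : Type u) [CommRing A] [IsLocalRing A] [IsNoetherianRing A] [Algebra k A]
  [IsAdicComplete (maximalIdeal A) A] [Algebra P A] [IsScalarTower k P A]
  [Algebra.EssFiniteType k (ResidueField A)]

/-- Completed differentials are the cokernel of the Jacobian. -/
theorem exists_presentation (hcov : IsCover k P Y D) (hsurj : Function.Surjective (algebraMap P A)) :
    ∃ Φ : (Fin s → A) →ₗ[A] AdicCompletion (maximalIdeal A) (Ω[A⁄k]), Function.Surjective Φ ∧
      (∀ g, Φ (jacobianRow A D g) = dHat k A (algebraMap P A g)) ∧
      LinearMap.ker Φ = Submodule.span A (jacobianRow A D '' (RingHom.ker (algebraMap P A) : Set P)) := by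
  classical
  haveI := finite_completedKaehler k A
  let M := AdicCompletion (maximalIdeal A) (Ω[A⁄k])
  let Φ : (Fin s → A) →ₗ[A] M := Fintype.linearCombination A fun i => dHat k A (algebraMap P A (Y i))
  haveI : IsScalarTower P A M := inferInstance
  haveI : IsScalarTower k P M := IsScalarTower.of_algebraMap_smul fun c m => by
    rw [← algebraMap_smul A (algebraMap k P c) m, ← IsScalarTower.algebraMap_apply, algebraMap_smul]
  haveI : Module.Finite P A := Module.Finite.of_surjective (Algebra.linearMap P A) hsurj
  haveI : Module.Finite P M := Module.Finite.trans A M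
  have hΦd : ∀ g, Φ (jacobianRow A D g) = dHat k A (algebraMap P A g) := fun g => by
    let δ : Derivation k P M := Derivation.mk'
      ((dHat k A).toLinearMap ∘ₗ (IsScalarTower.toAlgHom k P A).toLinearMap) fun a b => by
        show dHat k A (algebraMap P A (a * b)) = a • dHat k A _ + b • dHat k A _
        rw [map_mul, Derivation.leibniz, algebraMap_smul, algebraMap_smul]
        rfl
    rw [Fintype.linearCombination_apply]
    refine Eq.trans (Finset.sum_congr rfl fun i _ => ?_) (derivation_eq_sum hcov δ g).symm
    exact algebraMap_smul A (D i g) _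
  have hsΦ : Function.Surjective Φ := by
    rw [← LinearMap.range_eq_top, eq_top_iff, ← span_dHat k A, Submodule.span_le]
    rintro _ ⟨a, rfl⟩
    obtain ⟨g, rfl⟩ := hsurj a
    exact ⟨_, hΦd g⟩
  let K := Submodule.span A (jacobianRow A D '' (RingHom.ker (algebraMap P A) : Set P))
  refine ⟨Φ, hsΦ, hΦd, le_antisymm ?_ (Submodule.span_le.2 ?_)⟩
  · -- the inverse
    choose sec hsec using hsurj
    have hJadd : ∀ a b, jacobianRow A D (a + b) = jacobianRow A D a + jacobianRow A D b := fun a b =>
      funext fun i => by simp [jacobianRow, map_add]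
    have hJ : ∀ a b : P, algebraMap P A a = algebraMap P A b →
        K.mkQ (jacobianRow A D a) = K.mkQ (jacobianRow A D b) := fun a b h => by
      rw [Submodule.mkQ_apply, Submodule.mkQ_apply, Submodule.Quotient.eq]
      refine Submodule.subset_span ⟨a - b, ?_, ?_⟩
      · rw [SetLike.mem_coe, RingHom.mem_ker, map_sub, h, sub_self]
      · funext i
        simp [jacobianRow, map_sub]
    let δ : Derivation k A ((Fin s → A) ⧸ K) := Derivation.mk'
      { toFun := fun a => K.mkQ (jacobianRow A D (sec a))
        map_add' := fun a b => by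
          rw [← map_add, ← hJadd]
          exact hJ _ _ (by rw [map_add, hsec, hsec, hsec])
        map_smul' := fun c a => by
          rw [RingHom.id_apply, ← LinearMap.map_smul_of_tower]
          refine (hJ _ (c • sec a) (by rw [hsec, Algebra.smul_def, Algebra.smul_def, map_mul, hsec,
            ← IsScalarTower.algebraMap_apply])).trans (congrArg _ (funext fun i => ?_))
          show algebraMap P A (D i (c • sec a)) = c • algebraMap P A (D i (sec a))
          rw [Derivation.map_smul, ← IsScalarTower.coe_toAlgHom' k P A, map_smul] }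
      fun a b => by
        show K.mkQ (jacobianRow A D (sec (a * b))) = a • K.mkQ _ + b • K.mkQ _
        rw [hJ _ (sec a * sec b) (by rw [hsec, map_mul, hsec, hsec]), ← map_smul, ← map_smul, ← map_add]
        refine congrArg _ (funext fun i => ?_)
        simp [jacobianRow, Derivation.leibniz, hsec]
    haveI : Module.Finite A ((Fin s → A) ⧸ K) := Module.Finite.of_surjective K.mkQ K.mkQ_surjective
    obtain ⟨Ψ, hΨ⟩ := exists_hom k A δ
    have h : Ψ ∘ₗ Φ = K.mkQ := LinearMap.pi_ext' fun i => LinearMap.ext_ring <| by
      have h1 : Φ (Pi.single i 1) = dHat k A (algebraMap P A (Y i)) := by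
        rw [Fintype.linearCombination_apply_single, one_smul]
      have h2 : jacobianRow A D (Y i) = Pi.single i 1 := by
        funext j
        simp [jacobianRow, hcov.2.1, Pi.single_apply, apply_ite (algebraMap P A)]
      show Ψ (Φ (Pi.single i 1)) = K.mkQ (Pi.single i 1)
      rw [h1, hΨ, ← h2]
      exact hJ _ _ (hsec _)
    intro v hv
    have h3 : K.mkQ v = 0 := by
      rw [← h, LinearMap.comp_apply, LinearMap.mem_ker.1 hv, map_zero]
    exact (Submodule.Quotient.mk_eq_zero _).1 h3
  · rintro _ ⟨f, hf, rfl⟩
    rw [SetLike.mem_coe, LinearMap.mem_ker, hΦd, RingHom.mem_ker.1 hf, map_zero]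

omit [IsAdicComplete (maximalIdeal A) A] [Algebra.EssFiniteType k (ResidueField A)] [IsNoetherianRing A]
  [IsLocalRing A] [Algebra k A] [IsScalarTower k P A] [Algebra P A] in
/-- The dimension of a cover is the number of coordinates. -/
theorem dim_eq_of_isCover [IsAdicComplete (maximalIdeal P) P] [Module.Finite k (ResidueField P)]
    (hcov : IsCover k P Y D) : ringKrullDim P = s := by
  obtain ⟨Φ, hΦs, -, hΦk⟩ := exists_presentation P hcov Function.surjective_id
  have hinj : Function.Injective Φ := by
    rw [← LinearMap.ker_eq_bot, hΦk, Submodule.span_eq_bot]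
    rintro _ ⟨f, hf, rfl⟩
    have hf0 : f = 0 := hf
    funext i
    simp [jacobianRow, hf0]
  have hrank := (LinearEquiv.ofBijective Φ ⟨hinj, hΦs⟩).finrank_eq
  rw [Module.finrank_fin_fun] at hrank
  obtain ⟨-, -, h⟩ := Groth.Agent.S2476.result hcov.1
  haveI : Algebra.IsAlgebraic k (ResidueField P) := Algebra.IsAlgebraic.of_finite k _
  rw [trdeg_eq_zero (R := k) (A := ResidueField P), map_zero, ← hrank] at h
  rw [h]
  simp

end CKaehlerLib
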